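import Cfsg.Agent.Lib.Characters.FrobeniusSchur
import Cfsg.Agent.Lib.Characters.Kernel
import Cfsg.Prelude.Def_Blocks
import Mathlib.Algebra.Order.Chebyshev

/-!
# Brauer–Fowler bounds from the count of involutions
-/

set_option autoImplicit false
set_option linter.unusedSectionVars false
set_option linter.style.haveILetI false

namespace Cfsg.Agent.Lib.CharMisc

open Cfsg Cfsg.Agent.Lib.Characters

universe u

variable {G : Type u} [Group G] [Fintype G]

open scoped Classical in
/-- The real degree of a character, if it is real valued. -/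
noncomputable def realDeg (χ : IrrCharacter G) : ℝ :=
  if ∀ g : G, ((χ : G → ℂ) g).im = 0 then ((χ : G → ℂ) 1).re else 0

theorem degree_re_pos (χ : IrrCharacter G) : (1 : ℝ) ≤ ((χ : G → ℂ) 1).re := by
  obtain ⟨n, hn0, hn⟩ := IsIrrCharacter.exists_apply_one χ.2
  rw [hn, Complex.natCast_re]
  exact_mod_cast hn0

theorem realDeg_nonneg (χ : IrrCharacter G) : 0 ≤ realDeg χ := by
  classical
  unfold realDeg
  split_ifs
  exacts [zero_le_one.trans (degree_re_pos χ), le_rfl]

open scoped Classical in
theorem card_involution_le [Fintype (IrrCharacter G)] :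
    (Nat.card {x : G // orderOf x = 2} : ℝ) ≤
      ∑ χ ∈ Finset.univ.filter (fun χ : IrrCharacter G => (χ : G → ℂ) ≠ fun _ => 1), realDeg χ := by
  have hinv : ∀ χ : IrrCharacter G,
      ((χ : G → ℂ) 1 * ((Nat.card G : ℂ)⁻¹ * ∑ s : G, (χ : G → ℂ) (s * s))).re ≤ realDeg χ := by
    intro χ
    obtain ⟨h1, h2⟩ := frobeniusSchur χ.2
    unfold realDeg
    split_ifs with h
    · obtain ⟨n, -, ε, hn, -, hε, -, hν⟩ := h2 h
      rw [hν, hn]
      rcases hε with rfl | rfl
      · simp
      · simp only [mul_neg, mul_one, Complex.neg_re, Complex.natCast_re]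
        have : (0 : ℝ) ≤ n := Nat.cast_nonneg _
        linarith
    · push Not at h
      rw [h1 h, mul_zero, Complex.zero_re]
  have hsum : ∑ χ : IrrCharacter G, (χ : G → ℂ) 1 * ((Nat.card G : ℂ)⁻¹ * ∑ s : G, (χ : G → ℂ) (s * s)) =
      ((Finset.univ.filter fun s : G => s * s = 1).card : ℂ) := by
    have hflip : ∀ χ : IrrCharacter G, (χ : G → ℂ) 1 * ((Nat.card G : ℂ)⁻¹ *
        ∑ s : G, (χ : G → ℂ) (s * s)) =
          (Nat.card G : ℂ)⁻¹ * ∑ s : G, (χ : G → ℂ) 1 * (χ : G → ℂ) (s * s) := fun χ => by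
      rw [mul_left_comm, Finset.mul_sum]
    rw [Finset.sum_congr rfl fun χ _ => hflip χ, ← Finset.mul_sum, Finset.sum_comm]
    rw [Finset.sum_congr rfl fun s _ => sum_degree_mul (s * s), ← Finset.sum_filter, Finset.sum_const,
      nsmul_eq_mul, mul_comm _ (Nat.card G : ℂ), inv_mul_cancel_left₀ natCard_ne_zero_complex]
  have hcount : (Finset.univ.filter fun s : G => s * s = 1).card =
      Nat.card {x : G // orderOf x = 2} + 1 := by
    rw [Nat.card_eq_fintype_card, Fintype.card_subtype,
      show (Finset.univ.filter fun s : G => s * s = 1) =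
        insert 1 (Finset.univ.filter fun s : G => orderOf s = 2) by
        ext s
        simp only [Finset.mem_filter, Finset.mem_univ, true_and, Finset.mem_insert, orderOf_eq_prime_iff,
          pow_two]
        constructor
        · intro h; by_cases h1 : s = 1
          exacts [Or.inl h1, Or.inr ⟨h, h1⟩]
        · rintro (rfl | ⟨h, -⟩)
          exacts [one_mul 1, h],
      Finset.card_insert_of_notMem (by simp)]
  let e : IrrCharacter G := ⟨fun _ => 1, isIrrCharacter_one⟩
  have hfilter : Finset.univ.filter (fun χ : IrrCharacter G => (χ : G → ℂ) ≠ fun _ => 1) =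
      Finset.univ.erase e := by
    ext χ; simp [e, Subtype.ext_iff]
  have he : realDeg e = 1 := by simp [realDeg, e]
  have h := congrArg Complex.re hsum
  rw [Complex.re_sum, hcount, Complex.natCast_re, Nat.cast_add, Nat.cast_one] at h
  have h2 := h ▸ Finset.sum_le_sum fun χ (_ : χ ∈ Finset.univ) => hinv χ
  rw [← Finset.add_sum_erase _ _ (Finset.mem_univ e), he, ← hfilter] at h2
  linarith

theorem involution_bounds (heven : Even (Nat.card G)) :
    (∃ x : G, x ≠ 1 ∧ ((Subgroup.centralizer ({x} : Set G)).index : ℚ) ≤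
      (((Nat.card G : ℚ) - 1) / Nat.card {x : G // orderOf x = 2}) ^ 2) ∧
    ∃ χ : IrrCharacter G, (χ : G → ℂ) ≠ (fun _ => 1) ∧ (∀ g : G, ((χ : G → ℂ) g).im = 0) ∧
      (charDegree (χ : G → ℂ) : ℚ) ≤
        ((Nat.card G : ℚ) - 1) / Nat.card {x : G // orderOf x = 2} := by
  classical
  haveI := Fintype.ofFinite (IrrCharacter G)
  haveI : Finite (ConjClasses G) := Finite.of_surjective _ ConjClasses.mk_surjective
  haveI := Fintype.ofFinite (ConjClasses G)
  haveI := Fact.mk Nat.prime_two
  set t := Nat.card {x : G // orderOf x = 2} with ht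
  have htpos : 0 < t := by
    obtain ⟨x, hx⟩ := exists_prime_orderOf_dvd_card' (G := G) 2 (even_iff_two_dvd.1 heven)
    haveI : Nonempty {x : G // orderOf x = 2} := ⟨⟨x, hx⟩⟩
    exact Nat.card_pos
  have htR : (0 : ℝ) < t := by exact_mod_cast htpos
  let e : IrrCharacter G := ⟨fun _ => 1, isIrrCharacter_one⟩
  set s := Finset.univ.filter (fun χ : IrrCharacter G => (χ : G → ℂ) ≠ fun _ => 1) with hs
  have hfilter : s = Finset.univ.erase e := by ext χ; simp [hs, e, Subtype.ext_iff]
  have hle := card_involution_le (G := G)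
  rw [← ht, ← hs] at hle
  have hd : ∀ χ : IrrCharacter G, ((χ : G → ℂ) 1).re = (charDegree (χ : G → ℂ) : ℝ) := fun χ => by
    obtain ⟨n, -, hn⟩ := IsIrrCharacter.exists_apply_one χ.2
    rw [charDegree, hn, Complex.natCast_re, Nat.floor_natCast]
  have hsq : ∑ χ ∈ s, ((χ : G → ℂ) 1).re ^ 2 = (Nat.card G : ℝ) - 1 := by
    have h1 := congrArg Complex.re (sum_degree_sq (G := G))
    rw [Complex.re_sum, Complex.natCast_re, ← Finset.add_sum_erase _ _ (Finset.mem_univ e),
      ← hfilter] at h1
    have h2 : ∀ χ : IrrCharacter G, ((χ : G → ℂ) 1 ^ 2).re = ((χ : G → ℂ) 1).re ^ 2 := fun χ => by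
      obtain ⟨n, -, hn⟩ := IsIrrCharacter.exists_apply_one χ.2
      rw [hn, ← Nat.cast_pow, Complex.natCast_re, Complex.natCast_re, Nat.cast_pow]
    rw [Finset.sum_congr rfl fun χ _ => h2 χ, h2 e] at h1
    simp only [e, Complex.one_re, one_pow] at h1
    linarith
  refine ⟨?_, ?_⟩
  · -- a small class
    obtain ⟨x, hx, hmin⟩ := Finset.exists_min_image ((Finset.univ : Finset G).erase 1)
      (fun x => (Subgroup.centralizer ({x} : Set G)).index) (by
        obtain ⟨y, hy⟩ := exists_prime_orderOf_dvd_card' (G := G) 2 (even_iff_two_dvd.1 heven)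
        exact ⟨y, Finset.mem_erase.2 ⟨fun h => by simp [h] at hy, Finset.mem_univ _⟩⟩)
    refine ⟨x, (Finset.mem_erase.1 hx).1, ?_⟩
    set m := (Subgroup.centralizer ({x} : Set G)).index with hm
    have hk : s.card * m ≤ Nat.card G - 1 := by
      have h1 : s.card = Fintype.card (ConjClasses G) - 1 := by
        rw [hfilter, Finset.card_erase_of_mem (Finset.mem_univ _), Finset.card_univ,
          ← Nat.card_eq_fintype_card, card_irrCharacter, Nat.card_eq_fintype_card]
      have h2 : ((Finset.univ : Finset G).erase 1).card = Nat.card G - 1 := by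
        rw [Finset.card_erase_of_mem (Finset.mem_univ _), Finset.card_univ, Nat.card_eq_fintype_card]
      rw [← h2, Finset.card_eq_sum_card_fiberwise (f := ConjClasses.mk)
        (t := (Finset.univ : Finset (ConjClasses G)).erase (ConjClasses.mk 1)) (fun y hy => by
          refine Finset.mem_coe.2 (Finset.mem_erase.2 ⟨fun h => ?_, Finset.mem_univ _⟩)
          exact (Finset.mem_erase.1 hy).1 (isConj_one_left.1 (ConjClasses.mk_eq_mk_iff_isConj.1 h)))]
      calc s.card * m = ∑ _c ∈ (Finset.univ : Finset (ConjClasses G)).erase (ConjClasses.mk 1), m := by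
            rw [Finset.sum_const, smul_eq_mul, Finset.card_erase_of_mem (Finset.mem_univ _),
              Finset.card_univ, h1]
        _ ≤ _ := Finset.sum_le_sum fun c hc => by
            obtain ⟨y, rfl⟩ := ConjClasses.mk_surjective c
            have hy1 : y ≠ 1 := fun h => (Finset.mem_erase.1 hc).1 (by rw [h])
            refine (hmin y (Finset.mem_erase.2 ⟨hy1, Finset.mem_univ _⟩)).trans (le_of_eq ?_)
            rw [← card_conj_eq_index y, Nat.card_eq_fintype_card, Fintype.card_subtype]
            congr 1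
            ext z
            simp only [Finset.mem_filter, Finset.mem_univ, true_and, Finset.mem_erase, and_true,
              ConjClasses.mk_eq_mk_iff_isConj]
            refine ⟨fun h => ⟨fun h1 => hy1 ?_, h.symm⟩, fun h => h.2.symm⟩
            subst h1
            first | exact isConj_one_left.1 h | exact isConj_one_left.1 h.symm
    have hcs : (t : ℝ) ^ 2 ≤ s.card * ((Nat.card G : ℝ) - 1) := by
      have h1 : (t : ℝ) ≤ ∑ χ ∈ s, ((χ : G → ℂ) 1).re := hle.trans (Finset.sum_le_sum fun χ _ => by
        unfold realDeg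
        split_ifs
        exacts [le_rfl, zero_le_one.trans (degree_re_pos χ)])
      have h2 : (t : ℝ) ^ 2 ≤ (∑ χ ∈ s, ((χ : G → ℂ) 1).re) ^ 2 := pow_le_pow_left₀ htR.le h1 2
      refine h2.trans ((sq_sum_le_card_mul_sum_sq).trans ?_)
      rw [hsq]
    have hR : (m : ℝ) ≤ (((Nat.card G : ℝ) - 1) / t) ^ 2 := by
      rw [div_pow, le_div_iff₀ (by positivity)]
      have hkR : (s.card : ℝ) * m ≤ (Nat.card G : ℝ) - 1 := by
        have h3 : ((s.card * m : ℕ) : ℝ) ≤ ((Nat.card G - 1 : ℕ) : ℝ) := by exact_mod_cast hk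
        rw [Nat.cast_sub Nat.card_pos, Nat.cast_mul, Nat.cast_one] at h3
        exact h3
      have hm0 : (0 : ℝ) ≤ m := Nat.cast_nonneg _
      have hg : (0 : ℝ) ≤ (Nat.card G : ℝ) - 1 := le_trans (by positivity) hkR
      nlinarith
    exact_mod_cast hR
  · -- a small real character
    by_contra hne
    push Not at hne
    have hlt : ∀ χ ∈ s, (t : ℝ) * realDeg χ ≤ ((χ : G → ℂ) 1).re ^ 2 * ((t : ℝ) / (((Nat.card G : ℝ) - 1) / t)) := by
      intro χ hχ
      have hα : (0 : ℝ) < ((Nat.card G : ℝ) - 1) / t := by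
        refine div_pos ?_ htR
        have : 1 < Nat.card G := by
          rcases heven with ⟨c, hc⟩
          have := Nat.card_pos (α := G)
          omega
        have : (1 : ℝ) < Nat.card G := by exact_mod_cast this
        linarith
      unfold realDeg
      split_ifs with hr
      · have h1 := hne χ (Finset.mem_filter.1 hχ).2 hr
        have h2 : ((Nat.card G : ℝ) - 1) / t < (charDegree (χ : G → ℂ) : ℝ) := by exact_mod_cast h1
        rw [← hd χ] at h2
        rw [mul_div_assoc', le_div_iff₀ hα]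
        nlinarith [mul_le_mul_of_nonneg_left h2.le
          (mul_nonneg htR.le (zero_le_one.trans (degree_re_pos χ)))]
      · rw [mul_zero]
        exact mul_nonneg (sq_nonneg _) (div_pos htR hα).le
    have hex : ∃ χ ∈ s, realDeg χ ≠ 0 := by
      by_contra h0
      push Not at h0
      rw [Finset.sum_eq_zero h0] at hle
      linarith
    obtain ⟨χ₀, hχ₀, hr0⟩ := hex
    have hstrict : ∑ χ ∈ s, (t : ℝ) * realDeg χ <
        ∑ χ ∈ s, ((χ : G → ℂ) 1).re ^ 2 * ((t : ℝ) / (((Nat.card G : ℝ) - 1) / t)) := by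
      refine Finset.sum_lt_sum hlt ⟨χ₀, hχ₀, ?_⟩
      unfold realDeg at hr0 ⊢
      split_ifs at hr0 ⊢ with hr
      · have h1 := hne χ₀ (Finset.mem_filter.1 hχ₀).2 hr
        have h2 : ((Nat.card G : ℝ) - 1) / t < (charDegree (χ₀ : G → ℂ) : ℝ) := by exact_mod_cast h1
        rw [← hd χ₀] at h2
        have hα : (0 : ℝ) < ((Nat.card G : ℝ) - 1) / t := by
          refine div_pos ?_ htR
          have h3 : 2 ≤ Nat.card G := Nat.le_of_dvd Nat.card_pos (even_iff_two_dvd.1 heven)
          have : (2 : ℝ) ≤ Nat.card G := by exact_mod_cast h3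
          linarith
        rw [mul_div_assoc', lt_div_iff₀ hα]
        nlinarith [mul_lt_mul_of_pos_left h2
          (mul_pos htR (lt_of_lt_of_le zero_lt_one (degree_re_pos χ₀)))]
      · exact absurd rfl hr0
    rw [← Finset.mul_sum, ← Finset.sum_mul, hsq] at hstrict
    have hg : (0 : ℝ) < (Nat.card G : ℝ) - 1 := by
      have h3 : 2 ≤ Nat.card G := Nat.le_of_dvd Nat.card_pos (even_iff_two_dvd.1 heven)
      have : (2 : ℝ) ≤ Nat.card G := by exact_mod_cast h3
      linarith
    rw [show ((Nat.card G : ℝ) - 1) * ((t : ℝ) / (((Nat.card G : ℝ) - 1) / t)) = t * t by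
      field_simp] at hstrict
    nlinarith

end Cfsg.Agent.Lib.CharMisc
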