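import Cfsg.Agent.Lib.Characters.Integrality
import Cfsg.Agent.Lib.BlockHeights.Heights
import Cfsg.Agent.Lib.BlockHeights.CharTools
import Cfsg.Agent.Lib.Blocks.Sections

/-!
# Faithful characters of prime power degree and the centre of a Sylow subgroup
-/

set_option autoImplicit false
set_option linter.unusedSectionVars false
set_option linter.style.haveILetI false

namespace Cfsg.Agent.Lib.CharMisc

open Cfsg Cfsg.Agent.Lib.Blocks Cfsg.Agent.Lib.Characters Cfsg.Agent.Lib.BlockHeights
open scoped ComplexConjugate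

universe u

variable {G : Type u} [Group G] [Fintype G] {p : ℕ} [Fact p.Prime] {M : Ideal AlgInt} [M.IsPrime]

theorem mem_center_of_norm_eq {χ : G → ℂ} (hχ : IsIrrCharacter G χ)
    (hfaith : ∀ g : G, χ g = χ 1 → g = 1) {g : G} (h : ‖χ g‖ = ‖χ 1‖) : g ∈ Subgroup.center G := by
  obtain ⟨n, ρ, -, rfl⟩ := hχ
  rw [ρ.char_one, Complex.norm_natCast] at h
  obtain ⟨ω, hω⟩ := eq_smul_of_norm_trace_eq_finrank (ρ g) Nat.card_pos.ne' (rep_pow_card ρ g) h
  refine Subgroup.mem_center_iff.2 fun x => ?_
  have hcomm : ρ (x * g) = ρ (g * x) := by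
    rw [map_mul, map_mul, hω]
    refine LinearMap.ext fun v => ?_
    simp
  have h1 : ρ ((g * x)⁻¹ * (x * g)) = 1 := by
    rw [map_mul, hcomm, ← map_mul, inv_mul_cancel, map_one]
  have h2 : (g * x)⁻¹ * (x * g) = 1 := hfaith _ (by
    show LinearMap.trace ℂ _ (ρ _) = LinearMap.trace ℂ _ (ρ 1)
    rw [h1, _root_.map_one ρ])
  exact ((inv_mul_eq_one).1 h2).symm

/-- The block of a faithful character of `p`-power degree has small defect. -/
theorem defect_le_of_pPower_degree (hM : IsPModular p M) (hZ : Subgroup.center G = ⊥)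
    (P : Sylow p G) {a b : ℕ} (ha : Nat.card P = p ^ a)
    (hb : Nat.card (Subgroup.center ↥(P : Subgroup G)) = p ^ b) (χ : IrrCharacter G)
    (hfaith : ∀ g : G, (χ : G → ℂ) g = (χ : G → ℂ) 1 → g = 1) {n : ℕ}
    (hdeg : charDegree (χ : G → ℂ) = p ^ n) :
    blockDefect p (blockOf M (χ : G → ℂ)) ≤ a - b := by
  classical
  have hp := hM.1
  set B := blockOf M (χ : G → ℂ) with hBdef
  have hB : IsPBlock M B := isPBlock_blockOf χ
  have hfull : (Nat.card G).factorization p = a := by
    have h1 := Sylow.card_eq_multiplicity P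
    exact (Nat.pow_right_injective hp.two_le (ha.symm.trans h1)).symm
  have hvan : ∀ z : Subgroup.center ↥(P : Subgroup G), z ≠ 1 →
      (χ : G → ℂ) ((z : ↥(P : Subgroup G)) : G) = 0 ∧
        ¬ p ∣ (Subgroup.centralizer ({((z : ↥(P : Subgroup G)) : G)} : Set G)).index := by
    intro z hz
    set g : G := ((z : ↥(P : Subgroup G)) : G) with hg
    have hPC : (P : Subgroup G) ≤ Subgroup.centralizer ({g} : Set G) := fun y hy =>
      Subgroup.mem_centralizer_singleton_iff.2
        (congrArg Subtype.val (Subgroup.mem_center_iff.1 z.2 ⟨y, hy⟩))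
    have hidx : ¬ p ∣ (Subgroup.centralizer ({g} : Set G)).index := fun h =>
      Sylow.not_dvd_index P (h.trans (Subgroup.index_dvd_of_le hPC))
    refine ⟨?_, hidx⟩
    obtain ⟨d, ρ, hρ, hρχ⟩ := χ.2
    have hd : d = p ^ n := by
      have h1 : ρ.character 1 = (charDegree (χ : G → ℂ) : ℂ) := by rw [hρχ, irr_apply_one]
      rw [ρ.char_one, Module.finrank_fin_fun, hdeg] at h1
      exact_mod_cast h1
    have hcop : Nat.Coprime (Module.finrank ℂ (Fin d → ℂ)) (Nat.card {x : G // IsConj g x}) := by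
      rw [Module.finrank_fin_fun, hd]
      refine Nat.Coprime.pow_left n ((hp.coprime_iff_not_dvd).2 fun hdv => hidx ?_)
      have he := card_conj_mul_card_centralizer g
      have hi := (Subgroup.centralizer ({g} : Set G)).index_mul_card
      rw [← hi] at he
      rwa [← Nat.eq_of_mul_eq_mul_right Nat.card_pos he]
    haveI := hρ
    rcases char_eq_zero_or_norm_eq_of_coprime ρ g hcop with h0 | h0
    · rw [← hρχ]; exact h0
    · exfalso
      have h1 : ‖(χ : G → ℂ) g‖ = ‖(χ : G → ℂ) 1‖ := by
        rw [← hρχ, h0, ρ.char_one, Complex.norm_natCast]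
      have h2 := mem_center_of_norm_eq χ.2 hfaith h1
      rw [hZ, Subgroup.mem_bot] at h2
      exact hz (Subtype.ext (Subtype.ext h2))
  obtain ⟨ψ, hψ, hmin⟩ := exists_nu_eq_minExp (p := p) (IsPBlock.nonempty hB)
  set m := minExp p B with hm
  have hbm : b ≤ m := by
    by_contra hlt
    have hpm : (p : ℂ) ^ m ≠ 0 := pow_ne_zero _ (Nat.cast_ne_zero.2 hp.ne_zero)
    haveI : Fintype (Subgroup.center ↥(P : Subgroup G)) := Fintype.ofFinite _
    set Z := Subgroup.center ↥(P : Subgroup G) with hZdef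
    let ι : Z →* G := (P : Subgroup G).subtype.comp Z.subtype
    obtain ⟨v, hv⟩ := IsCharacter.exists_classInner_nat
      (IsCharacter.restrict (IsCharacter.restrict (irr_isCharacter ψ) (P : Subgroup G)) Z)
      (irr_isCharacter (trivIrr Z))
    rw [classInner] at hv
    simp only [trivIrr_apply, map_one, mul_one] at hv
    have hsum : ∑ z : Z, (ψ : G → ℂ) (ι z) = (p : ℂ) ^ b * (v : ℂ) := by
      rw [← hv, hb, Nat.cast_pow, ← mul_assoc, mul_inv_cancel₀
        (pow_ne_zero _ (Nat.cast_ne_zero.2 hp.ne_zero)), one_mul]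
      rfl
    rw [← Finset.add_sum_erase _ _ (Finset.mem_univ (1 : Z)), map_one] at hsum
    have hψ1 : charDegree (ψ : G → ℂ) = p ^ m * (charDegree (ψ : G → ℂ) / p ^ m) :=
      (Nat.mul_div_cancel' ((hp.pow_dvd_iff_le_factorization (charDegree_irr_pos ψ).ne').2
        hmin.ge)).symm
    set u := charDegree (ψ : G → ℂ) / p ^ m with hu
    have hunit : ¬ p ∣ u := by
      intro hd
      have h1 : p ^ (m + 1) ∣ charDegree (ψ : G → ℂ) := by
        rw [hψ1, pow_succ]; exact mul_dvd_mul_left _ hd
      have h2 := (hp.pow_dvd_iff_le_factorization (charDegree_irr_pos ψ).ne').1 h1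
      have : nu p (ψ : G → ℂ) = m := hmin
      simp only [nu] at this
      omega
    have hterm : ∀ z : Z, z ≠ 1 → MemLocalIdeal M ((ψ : G → ℂ) (ι z) / (p : ℂ) ^ m) := by
      intro z hz
      obtain ⟨h0, hidx⟩ := hvan z hz
      have h1 := hψ (ι z)
      simp only [centralChar] at h1
      rw [show (χ : G → ℂ) (ι z) = 0 from h0, mul_zero, zero_div, zero_sub] at h1
      have h2 := memLocalIdeal_mul_right (memLocalIdeal_neg h1) (memLocalRing_mul
        (memLocalRing_inv_natCast hM hidx) (memLocalRing_natCast u))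
      have hi0 : ((Subgroup.centralizer ({ι z} : Set G)).index : ℂ) ≠ 0 :=
        Nat.cast_ne_zero.2 fun h' => hidx (by
          show p ∣ (Subgroup.centralizer ({ι z} : Set G)).index
          rw [h']; exact dvd_zero p)
      have hu0 : (u : ℂ) ≠ 0 := Nat.cast_ne_zero.2 fun h' => hunit (h' ▸ dvd_zero p)
      convert h2 using 1
      have hidx' : (Subgroup.centralizer ({((z : ↥(P : Subgroup G)) : G)} : Set G)).index =
          (Subgroup.centralizer ({ι z} : Set G)).index := rfl
      rw [irr_apply_one, hψ1, hidx']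
      push_cast
      field_simp
    have hkey : MemLocalIdeal M ((p : ℂ) ^ b * (v : ℂ) / (p : ℂ) ^ m) := by
      have he : (p : ℂ) ^ b * (v : ℂ) / (p : ℂ) ^ m = (p : ℂ) * ((p : ℂ) ^ (b - m - 1) * (v : ℂ)) := by
        rw [show b = m + 1 + (b - m - 1) by omega, pow_add, pow_succ]
        rw [show m + 1 + (b - m - 1) - m - 1 = b - m - 1 by omega]
        field_simp
      rw [he]
      exact memLocalIdeal_mul_right ((memLocalIdeal_natCast_iff hM p).2 dvd_rfl)
        (memLocalRing_mul (by rw [← Nat.cast_pow]; exact memLocalRing_natCast _)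
          (memLocalRing_natCast v))
    rw [← hsum, add_div, Finset.sum_div] at hkey
    have hrest : MemLocalIdeal M
        (∑ z ∈ Finset.univ.erase (1 : Z), (ψ : G → ℂ) (ι z) / (p : ℂ) ^ m) :=
      memLocalIdeal_sum _ fun z hz => hterm z (Finset.ne_of_mem_erase hz)
    have h3 := memLocalIdeal_add hkey (memLocalIdeal_neg hrest)
    rw [add_neg_cancel_right, irr_apply_one, hψ1, Nat.cast_mul, Nat.cast_pow,
      mul_div_assoc, mul_comm, div_mul_cancel₀ _ hpm] at h3
    exact hunit ((memLocalIdeal_natCast_iff hM u).1 h3)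
  show (Nat.card G).factorization p - minExp p B ≤ a - b
  omega

end Cfsg.Agent.Lib.CharMisc
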