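import Cfsg.Agent.Lib.Characters.Gallagher
import Cfsg.Agent.Lib.Characters.Kernel

/-!
# Classes equal to the difference of two normal subgroups
-/

set_option autoImplicit false
set_option linter.unusedSectionVars false
set_option linter.style.haveILetI false

namespace Cfsg.Agent.Lib.CharMisc

open Cfsg Cfsg.Agent.Lib.Characters
open scoped ComplexConjugate

universe u

variable {G : Type u} [Group G]

theorem class_eq_diff_iff [Finite G] (N M : Subgroup G) [N.Normal] [M.Normal] (hNM : N < M) (g : G)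
    (hgM : g ∈ M) (hgN : g ∉ N) :
    {h : G | IsConj g h} = (M : Set G) \ (N : Set G) ↔
      ((∀ χ : IrrCharacter G, (∀ x ∈ N, (χ : G → ℂ) x = (χ : G → ℂ) 1) →
          ∀ x ∈ M, x ∉ N → ∀ y ∈ M, y ∉ N → (χ : G → ℂ) x = (χ : G → ℂ) y) ∧
        (∀ χ : IrrCharacter G, (∃ x ∈ N, (χ : G → ℂ) x ≠ (χ : G → ℂ) 1) → (χ : G → ℂ) g = 0)) := by
  classical
  haveI := Fintype.ofFinite G
  haveI : Fintype N := Fintype.ofFinite _
  haveI := Fintype.ofFinite (IrrCharacter G)
  constructor
  · intro h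
    have hc : ∀ x ∈ M, x ∉ N → ∀ χ : IrrCharacter G, (χ : G → ℂ) x = (χ : G → ℂ) g := by
      intro x hxM hxN χ
      exact (IsClassFunction.eq_of_isConj (irr_isClassFunction χ)
        (show IsConj g x from (Set.ext_iff.1 h x).2 ⟨hxM, hxN⟩)).symm
    refine ⟨fun χ _ x hxM hxN y hyM hyN => by rw [hc x hxM hxN, hc y hyM hyN], ?_⟩
    rintro χ ⟨k, hk, hne⟩
    have hav : avgN N (χ : G → ℂ) g = (χ : G → ℂ) g := by
      have hconst : ∀ n : N, (χ : G → ℂ) ((n : G) * g) = (χ : G → ℂ) g := fun n =>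
        hc _ (mul_mem (hNM.le n.2) hgM) (fun h' => hgN (by simpa using mul_mem (inv_mem n.2) h')) χ
      rw [avgN, Finset.sum_congr rfl fun n _ => hconst n, Finset.sum_const, Finset.card_univ,
        nsmul_eq_mul, ← Nat.card_eq_fintype_card, inv_mul_cancel_left₀ natCard_ne_zero_complex]
    rcases IsIrrCharacter.avgN_eq N χ.2 with h0 | h0
    · rw [← hav, h0, Pi.zero_apply]
    · exfalso
      apply hne
      have h1 := avgN_apply_coe N (χ : G → ℂ) ⟨k, hk⟩
      rwa [h0] at h1
  · rintro ⟨h1, h2⟩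
    have hg : ∀ x ∈ M, x ∉ N → IsConj g x := by
      intro x hxM hxN
      by_contra hn
      have h3 := sum_irr_mul_conj g x
      rw [if_neg hn] at h3
      have h4 : ∀ χ : IrrCharacter G, (χ : G → ℂ) g * conj ((χ : G → ℂ) x) =
          ((if ∀ k ∈ N, (χ : G → ℂ) k = (χ : G → ℂ) 1 then Complex.normSq ((χ : G → ℂ) g) else 0 : ℝ) : ℂ) := by
        intro χ
        split_ifs with hk
        · rw [← h1 χ hk g hgM hgN x hxM hxN, Complex.mul_conj]
        · push Not at hk
          rw [h2 χ hk, zero_mul, Complex.ofReal_zero]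
      rw [Finset.sum_congr rfl fun χ _ => h4 χ, ← Complex.ofReal_sum, Complex.ofReal_eq_zero,
        Finset.sum_eq_zero_iff_of_nonneg fun χ _ => by split_ifs <;> positivity [Complex.normSq_nonneg ((χ : G → ℂ) g)]] at h3
      have h5 := h3 ⟨fun _ => 1, isIrrCharacter_one⟩ (Finset.mem_univ _)
      simp at h5
    ext x
    refine ⟨fun hx => ?_, fun hx => hg x hx.1 hx.2⟩
    obtain ⟨c, rfl⟩ := isConj_iff.1 (hx : IsConj g x)
    exact ⟨Subgroup.Normal.conj_mem inferInstance g hgM c, fun h' => hgN <| by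
      simpa [mul_assoc] using Subgroup.Normal.conj_mem (inferInstance : N.Normal) _ h' c⁻¹⟩

end Cfsg.Agent.Lib.CharMisc
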