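import Cfsg.Agent.Lib.Characters.Convolution
import Cfsg.Agent.Lib.Characters.Kernel

/-!
# Products of conjugacy classes
-/

set_option autoImplicit false
set_option linter.unusedSectionVars false
set_option linter.style.haveILetI false

namespace Cfsg.Agent.Lib.CharMisc

open Cfsg Cfsg.Agent.Lib.Characters

universe u

variable {G : Type u} [Group G]

theorem isConj_mul_conj {x y z : G} (h : IsConj (x * y) z) :
    ∃ a b : G, z = a * x * a⁻¹ * (b * y * b⁻¹) := by
  obtain ⟨c, rfl⟩ := isConj_iff.1 h
  exact ⟨c, c, by group⟩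

/-- If all products of conjugates are conjugate, the characters multiply. -/
theorem mul_apply_of_forall_isConj [Finite G] {χ : G → ℂ} (hχ : IsIrrCharacter G χ) {x y : G}
    (h : ∀ a b : G, IsConj (x * y) (a * x * a⁻¹ * (b * y * b⁻¹))) :
    χ 1 * χ (x * y) = χ x * χ y := by
  haveI := Fintype.ofFinite G
  have hcl := IsCharacter.isClassFunction (IsIrrCharacter.isCharacter hχ)
  have h1 := IsIrrCharacter.sum_conj_translate hχ x y
  have h2 : ∀ g : G, χ (x * (g * y * g⁻¹)) = χ (x * y) := fun g => by
    have := h 1 g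
    simp only [one_mul, inv_one, mul_one] at this
    exact (IsClassFunction.eq_of_isConj hcl this).symm
  rw [Finset.sum_congr rfl fun g _ => h2 g, Finset.sum_const, Finset.card_univ, nsmul_eq_mul,
    ← Nat.card_eq_fintype_card] at h1
  have hn : (Nat.card G : ℂ) ≠ 0 := natCard_ne_zero_complex
  have hd := IsIrrCharacter.apply_one_ne_zero hχ
  field_simp at h1
  linear_combination h1

/-- Nonlinear characters vanishing at `g` force the class of `g` to be a coset of the commutator. -/
theorem isConj_iff_commutator_of_vanish [Finite G] {g : G}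
    (h : ∀ χ : IrrCharacter G, (χ : G → ℂ) 1 ≠ 1 → (χ : G → ℂ) g = 0) (z : G) :
    IsConj g z ↔ g⁻¹ * z ∈ commutator G := by
  classical
  haveI := Fintype.ofFinite G
  haveI := Fintype.ofFinite (IrrCharacter G)
  let A : Finset G := Finset.univ.filter fun z => IsConj g z
  let B : Finset G := Finset.univ.filter fun z => g⁻¹ * z ∈ commutator G
  have hsub : A ⊆ B := by
    intro w hw
    obtain ⟨c, rfl⟩ := isConj_iff.1 (Finset.mem_filter.1 hw).2
    refine Finset.mem_filter.2 ⟨Finset.mem_univ _, ?_⟩
    rw [show g⁻¹ * (c * g * c⁻¹) = g⁻¹ * c * (g⁻¹)⁻¹ * c⁻¹ by group, ← commutatorElement_def]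
    exact Subgroup.commutator_mem_commutator (Subgroup.mem_top _) (Subgroup.mem_top _)
  have h1 : ∀ χ : IrrCharacter G, (χ : G → ℂ) g * starRingEnd ℂ ((χ : G → ℂ) g) =
      if (χ : G → ℂ) 1 = 1 then 1 else 0 := fun χ => by
    split_ifs with h1
    · obtain ⟨lam, hlam⟩ := IsCharacter.exists_hom_of_apply_one (irr_isCharacter χ) h1
      rw [← IsCharacter.apply_inv (irr_isCharacter χ), hlam]
      simp
    · rw [h χ h1, zero_mul]
  have h2 : Nat.card (Subgroup.centralizer ({g} : Set G)) = (commutator G).index := by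
    have h3 := sum_irr_mul_conj g g
    rw [if_pos (IsConj.refl g), Finset.sum_congr rfl fun χ _ => h1 χ, Finset.sum_boole,
      ← Fintype.card_subtype, ← Nat.card_eq_fintype_card, card_linear_irr] at h3
    exact_mod_cast h3.symm
  have hA : A.card = Nat.card {w : G // IsConj g w} := by
    rw [Nat.card_eq_fintype_card, Fintype.card_subtype]
  have hB : B.card = Nat.card (commutator G) := by
    rw [Nat.card_eq_fintype_card, ← Fintype.card_subtype]
    exact Fintype.card_congr ((Equiv.mulLeft g⁻¹).subtypeEquiv fun w => Iff.rfl)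
  have hAB : A.card = B.card := by
    have h3 := card_conj_mul_card_centralizer g
    rw [h2, ← Subgroup.card_mul_index (commutator G)] at h3
    rw [hA, hB]
    exact Nat.eq_of_mul_eq_mul_right (Nat.pos_of_ne_zero Subgroup.index_ne_zero_of_finite) h3
  have := Finset.eq_of_subset_of_card_le hsub hAB.ge
  constructor
  · exact fun hz => (Finset.mem_filter.1 (hsub (Finset.mem_filter.2 ⟨Finset.mem_univ z, hz⟩))).2
  · intro hz
    have : z ∈ A := this ▸ Finset.mem_filter.2 ⟨Finset.mem_univ z, hz⟩
    exact (Finset.mem_filter.1 this).2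

end Cfsg.Agent.Lib.CharMisc
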