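import Cfsg.Agent.Lib.Characters.Values
import Cfsg.Agent.Lib.Characters.PPowerDegrees
import Cfsg.Prelude.Def_Blocks

/-!
# Codegrees of irreducible characters
-/

set_option autoImplicit false
set_option linter.unusedSectionVars false
set_option linter.style.haveILetI false

namespace Cfsg.Agent.Lib.CharMisc

open Cfsg Cfsg.Agent.Lib.Characters

universe u

variable {G : Type u} [Group G] [Finite G]

/-- The codegree of an irreducible character. -/
noncomputable def codeg (χ : IrrCharacter G) : ℕ :=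
  Nat.card G / (Nat.card {g : G // (χ : G → ℂ) g = (χ : G → ℂ) 1} * charDegree (χ : G → ℂ))

/-- The codegree is computed in the faithful quotient. -/
theorem exists_faithful_quotient (χ : IrrCharacter G) :
    ∃ (K : Subgroup G) (_ : K.Normal) (ψ : G ⧸ K → ℂ) (d : ℕ),
      IsIrrCharacter (G ⧸ K) ψ ∧ (χ : G → ℂ) = ψ ∘ QuotientGroup.mk' K ∧
      (∀ q, ψ q = ψ 1 → q = 1) ∧ 0 < d ∧ ψ 1 = d ∧
      d * codeg χ = Nat.card (G ⧸ K) := by
  have hc := irr_isCharacter χ
  haveI := charKernel_normal hc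
  obtain ⟨ψ, hψ, hχ⟩ := IsIrrCharacter.exists_quotient χ.2 (charKernel hc)
    (fun n hn => (mem_charKernel hc).1 hn)
  obtain ⟨d, hd0, hd, hdvd⟩ := IsIrrCharacter.exists_degree_dvd hψ
  refine ⟨charKernel hc, inferInstance, ψ, d, hψ, hχ, ?_, hd0, hd, ?_⟩
  · intro q hq
    obtain ⟨g, rfl⟩ := QuotientGroup.mk_surjective q
    rw [QuotientGroup.eq_one_iff, mem_charKernel hc, hχ]
    simpa using hq
  · have hdeg : charDegree (χ : G → ℂ) = d := by
      have h1 : (χ : G → ℂ) 1 = d := by rw [hχ, ← hd]; simp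
      rw [charDegree, h1, Complex.natCast_re, Nat.floor_natCast]
    have hK : Nat.card {g : G // (χ : G → ℂ) g = (χ : G → ℂ) 1} = Nat.card (charKernel hc) := rfl
    rw [codeg, hdeg, hK, Subgroup.card_eq_card_quotient_mul_card_subgroup (charKernel hc),
      mul_comm (Nat.card (G ⧸ charKernel hc)), Nat.mul_div_mul_left _ _ Nat.card_pos,
      Nat.mul_div_cancel' hdvd]

theorem codeg_dvd_card (χ : IrrCharacter G) : codeg χ ∣ Nat.card G := by
  obtain ⟨K, _, ψ, d, -, -, -, -, -, h⟩ := exists_faithful_quotient χ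
  exact dvd_trans (Dvd.intro_left d h) (Subgroup.card_quotient_dvd_card K)

/-- A prime dividing the order divides some codegree. -/
theorem exists_prime_dvd_codeg {p : ℕ} (hp : p.Prime) (h : p ∣ Nat.card G) :
    ∃ χ : IrrCharacter G, p ∣ codeg χ := by
  classical
  haveI := Fintype.ofFinite G
  haveI := Fintype.ofFinite (IrrCharacter G)
  haveI := Fact.mk hp
  by_contra hne
  push Not at hne
  obtain ⟨x, hx⟩ := exists_prime_orderOf_dvd_card' (G := G) p h
  have hx1 : x ≠ 1 := fun h1 => hp.ne_one (by rw [← hx, h1, orderOf_one])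
  -- every character is either zero or maximal at `x`
  have hval : ∀ χ : IrrCharacter G, (χ : G → ℂ) x = 0 ∨ (χ : G → ℂ) x = (χ : G → ℂ) 1 := by
    intro χ
    obtain ⟨K, _, ψ, d, hψ, hχ, -, hd0, hd, hcard⟩ := exists_faithful_quotient χ
    by_cases hxK : x ∈ K
    · right
      rw [hχ]
      simp [(QuotientGroup.eq_one_iff x).2 hxK]
    · left
      rw [hχ]
      show ψ (QuotientGroup.mk' K x) = 0
      refine vanish_of_defect_zero hψ hp hd ?_ ?_
      · refine (Nat.Coprime.pow_left _ ((Nat.Prime.coprime_iff_not_dvd hp).2 (hne χ))).dvd_of_dvd_mul_right ?_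
        rw [hcard]
        exact Nat.ordProj_dvd _ _
      · have h1 : orderOf (QuotientGroup.mk' K x) ∣ p := hx ▸ orderOf_map_dvd _ x
        rcases (Nat.dvd_prime hp).1 h1 with h2 | h2
        · exact absurd ((QuotientGroup.eq_one_iff x).1 (orderOf_eq_one_iff.1 h2)) hxK
        · rw [h2]
  have hsum := sum_degree_mul (G := G) x
  rw [if_neg hx1] at hsum
  have hre : ∀ χ : IrrCharacter G, 0 ≤ ((χ : G → ℂ) 1 * (χ : G → ℂ) x).re := by
    intro χ
    obtain ⟨n, -, hn⟩ := IsIrrCharacter.exists_apply_one χ.2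
    rcases hval χ with h1 | h1 <;> rw [h1]
    · simp
    · rw [hn, ← Nat.cast_mul, Complex.natCast_re]; positivity
  have h0 := congrArg Complex.re hsum
  rw [Complex.re_sum, Complex.zero_re, Finset.sum_eq_zero_iff_of_nonneg fun χ _ => hre χ] at h0
  have h1 := h0 ⟨fun _ => 1, isIrrCharacter_one⟩ (Finset.mem_univ _)
  simp at h1

theorem prime_dvd_card_iff {p : ℕ} (hp : p.Prime) :
    p ∣ Nat.card G ↔ ∃ χ : IrrCharacter G, p ∣ codeg χ :=
  ⟨exists_prime_dvd_codeg hp, fun ⟨χ, h⟩ => h.trans (codeg_dvd_card χ)⟩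

/-- For a prime dividing the order some non-principal character has degree prime to it. -/
theorem exists_irr_prime_not_dvd_degree {q : ℕ} (hq : q.Prime) (h : q ∣ Nat.card G) :
    ∃ χ : IrrCharacter G, (χ : G → ℂ) ≠ (fun _ => 1) ∧
      ∀ d : ℕ, (χ : G → ℂ) 1 = d → ¬ q ∣ d := by
  classical
  haveI := Fintype.ofFinite (IrrCharacter G)
  by_contra hne
  push Not at hne
  choose d hd hd0 using fun χ : IrrCharacter G => (IsIrrCharacter.exists_apply_one χ.2)
  have hsum : ∑ χ : IrrCharacter G, d χ ^ 2 = Nat.card G := by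
    have h1 : ∑ χ : IrrCharacter G, ((d χ : ℂ)) ^ 2 = (Nat.card G : ℂ) := by
      rw [← sum_degree_sq (G := G)]
      exact Finset.sum_congr rfl fun χ _ => by rw [hd0 χ]
    exact_mod_cast h1
  let e : IrrCharacter G := ⟨fun _ => 1, isIrrCharacter_one⟩
  have he : d e = 1 := by
    have h0 : ((d e : ℕ) : ℂ) = 1 := (hd0 e).symm
    exact_mod_cast h0
  rw [← Finset.add_sum_erase _ _ (Finset.mem_univ e), he, one_pow] at hsum
  have h2 : q ∣ ∑ χ ∈ Finset.univ.erase e, d χ ^ 2 := Finset.dvd_sum fun χ hχ => by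
    obtain ⟨n, hn, hqn⟩ := hne χ fun h' => (Finset.mem_erase.1 hχ).1 (Subtype.ext h')
    have : d χ = n := by exact_mod_cast (hd0 χ).symm.trans hn
    exact dvd_pow (this ▸ hqn) two_ne_zero
  exact hq.not_dvd_one ((Nat.dvd_add_left h2).1 (hsum ▸ h))

theorem card_dvd_of_codeg_simple {S : Type*} [Group S] [Finite S] [IsSimpleGroup S]
    (hsub : ∀ χ : IrrCharacter S, ∃ ψ : IrrCharacter G, codeg χ = codeg ψ) :
    Nat.card S ∣ Nat.card G := by
  rw [Nat.dvd_iff_prime_pow_dvd_dvd]
  intro q k hq hk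
  rcases Nat.eq_zero_or_pos k with rfl | hk0
  · simp
  have hqS : q ∣ Nat.card S := (dvd_pow_self q hk0.ne').trans hk
  obtain ⟨χ, hne, hnd⟩ := exists_irr_prime_not_dvd_degree hq hqS
  obtain ⟨K, hK, ψ, d, -, hχ, -, -, hd, hcard⟩ := exists_faithful_quotient χ
  have hKbot : K = ⊥ := by
    rcases hK.eq_bot_or_eq_top with h | h
    · exact h
    · exfalso
      obtain ⟨g, hg⟩ := IsIrrCharacter.exists_ne_apply_one χ.2 hne
      apply hg
      rw [hχ]
      simp [(QuotientGroup.eq_one_iff g).2 (h ▸ Subgroup.mem_top g)]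
  have hQ : Nat.card (S ⧸ K) = Nat.card S := by
    rw [← Subgroup.index_eq_card, hKbot, Subgroup.index_bot]
  have h1 : ¬ q ∣ d := hnd d (by rw [hχ, ← hd]; simp)
  have h2 : q ^ k ∣ codeg χ := by
    refine (Nat.Coprime.pow_left _ ((Nat.Prime.coprime_iff_not_dvd hq).2 h1)).dvd_of_dvd_mul_left ?_
    rw [hcard, hQ]
    exact hk
  obtain ⟨φ, hφ⟩ := hsub χ
  exact h2.trans (hφ ▸ codeg_dvd_card φ)

/-- A group of order `p * d` with `d < p` is not perfect. -/
theorem commutator_ne_top_of_card {p d : ℕ} (hp : p.Prime) (hcard : Nat.card G = p * d)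
    (hd0 : 0 < d) (hdp : d < p) : commutator G ≠ ⊤ := by
  classical
  haveI := Fact.mk hp
  intro htop
  let P : Sylow p G := default
  have hfac : (Nat.card G).factorization p = 1 := by
    rw [hcard, Nat.factorization_mul hp.ne_zero hd0.ne', Finsupp.add_apply, hp.factorization_self,
      Nat.factorization_eq_zero_of_lt hdp, add_zero]
  have hPcard : Nat.card P = p := by rw [P.card_eq_multiplicity, hfac, pow_one]
  have hidx : (P : Subgroup G).index = d := by
    have h := (P : Subgroup G).card_mul_index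
    rw [hcard, show Nat.card (P : Subgroup G) = p from hPcard] at h
    exact Nat.eq_of_mul_eq_mul_left hp.pos h
  have hn1 : Nat.card (Sylow p G) = 1 := by
    have h1 : Nat.card (Sylow p G) ≡ 1 [MOD p] := card_sylow_modEq_one p G
    have h2 : Nat.card (Sylow p G) ≤ d := by
      rw [← hidx]
      exact Nat.le_of_dvd (hidx ▸ hd0) P.card_dvd_index
    have h4 : Nat.card (Sylow p G) % p = 1 % p := h1
    rw [Nat.mod_eq_of_lt (lt_of_le_of_lt h2 hdp), Nat.mod_eq_of_lt hp.one_lt] at h4
    exact h4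
  haveI : Subsingleton (Sylow p G) := (Nat.card_eq_one_iff_unique.1 hn1).1
  haveI : (P : Subgroup G).Normal := P.normal_of_subsingleton
  haveI : IsCyclic (P : Subgroup G) := isCyclic_of_prime_card hPcard
  have hcent : (P : Subgroup G) ≤ Subgroup.center G := by
    have hker : commutator G ≤ (MulAut.conjNormal : G →* MulAut (P : Subgroup G)).ker := by
      letI : CommGroup (MulAut (P : Subgroup G)) :=
        { (inferInstance : Group (MulAut (P : Subgroup G))) with
          mul_comm := fun a b => (IsCyclic.mulAutMulEquiv (P : Subgroup G)).injective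
            (by rw [map_mul, map_mul, mul_comm]) }
      exact Abelianization.commutator_subset_ker _
    intro x hx
    rw [Subgroup.mem_center_iff]
    intro g
    have hg : g ∈ (MulAut.conjNormal : G →* MulAut (P : Subgroup G)).ker := hker (htop ▸ Subgroup.mem_top g)
    have h1 := congrArg Subtype.val (DFunLike.congr_fun (MonoidHom.mem_ker.1 hg) ⟨x, hx⟩)
    simp only [MulAut.conjNormal_apply, MulAut.one_apply] at h1
    calc g * x = g * x * g⁻¹ * g := by group
      _ = x * g := by rw [h1]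
  have hcop : Nat.Coprime (Nat.card (P : Subgroup G)) (P : Subgroup G).index := by
    rw [hidx, hPcard]
    exact (Nat.Prime.coprime_iff_not_dvd hp).2 fun h => absurd (Nat.le_of_dvd hd0 h) (by omega)
  obtain ⟨H, hH⟩ := Subgroup.exists_right_complement'_of_coprime hcop
  have hdec : ∀ g : G, ∃ x ∈ (P : Subgroup G), ∃ h ∈ H, x * h = g := fun g => by
    obtain ⟨⟨⟨x, hx⟩, ⟨h, hh⟩⟩, he, -⟩ := hH.existsUnique g
    exact ⟨x, hx, h, hh, he⟩
  have hHn : H.Normal := ⟨fun n hn g => by
    obtain ⟨x, hx, h, hh, rfl⟩ := hdec g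
    have hxc := Subgroup.mem_center_iff.1 (hcent hx)
    rw [show x * h * n * (x * h)⁻¹ = x * (h * n * h⁻¹) * x⁻¹ by group, ← hxc (h * n * h⁻¹),
      mul_inv_cancel_right]
    exact mul_mem (mul_mem hh hn) (inv_mem hh)⟩
  have hHidx : H.index = p := by
    have h := hH.card_mul_card
    rw [← Subgroup.card_mul_index H, hPcard, mul_comm] at h
    exact (Nat.eq_of_mul_eq_mul_left Nat.card_pos h).symm
  haveI : IsCyclic (G ⧸ H) := isCyclic_of_prime_card (by rw [← Subgroup.index_eq_card, hHidx])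
  have hle : commutator G ≤ H := by
    letI := IsCyclic.commGroup (α := G ⧸ H)
    simpa using Abelianization.commutator_subset_ker (QuotientGroup.mk' H)
  rw [htop] at hle
  rw [top_le_iff.1 hle, Subgroup.index_top] at hHidx
  exact hp.ne_one hHidx.symm

theorem codeg_not_prime_of_perfect (h : commutator G = ⊤) (χ : IrrCharacter G) :
    ¬ (codeg χ).Prime := by
  intro hp
  obtain ⟨K, _, ψ, d, hψ, -, hf, hd0, hd, hcard⟩ := exists_faithful_quotient χ
  classical
  haveI := Fintype.ofFinite (IrrCharacter (G ⧸ K))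
  have hne : ψ ≠ fun _ => 1 := by
    intro hψ1
    haveI : Subsingleton (G ⧸ K) := ⟨fun a b => by rw [hf a (by simp [hψ1]), hf b (by simp [hψ1])]⟩
    rw [Nat.card_of_subsingleton (1 : G ⧸ K)] at hcard
    exact hp.ne_one (mul_eq_one.1 hcard).2
  have hlt : d ^ 2 + 1 ≤ Nat.card (G ⧸ K) := by
    choose n hn hn1 using fun χ : IrrCharacter (G ⧸ K) => (IsIrrCharacter.exists_apply_one χ.2)
    have hsum : ∑ χ : IrrCharacter (G ⧸ K), n χ ^ 2 = Nat.card (G ⧸ K) := by
      have h1 : ∑ χ : IrrCharacter (G ⧸ K), ((n χ : ℂ)) ^ 2 = (Nat.card (G ⧸ K) : ℂ) := by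
        rw [← sum_degree_sq (G := G ⧸ K)]
        exact Finset.sum_congr rfl fun χ _ => by rw [hn1 χ]
      exact_mod_cast h1
    let a : IrrCharacter (G ⧸ K) := ⟨ψ, hψ⟩
    let e : IrrCharacter (G ⧸ K) := ⟨fun _ => 1, isIrrCharacter_one⟩
    have hae : a ≠ e := fun h' => hne (congrArg Subtype.val h')
    have ha : n a = d := by exact_mod_cast (hn1 a).symm.trans hd
    have he : n e = 1 := by
      have h0 : ((n e : ℕ) : ℂ) = 1 := (hn1 e).symm
      exact_mod_cast h0
    have h2 := Finset.sum_le_sum_of_subset (f := fun χ => n χ ^ 2) (Finset.subset_univ {a, e})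
    rw [Finset.sum_pair hae, hsum, ha, he, one_pow] at h2
    exact h2
  rw [← hcard] at hlt
  have hdp : d < codeg χ := by
    by_contra h'
    have := Nat.mul_le_mul_left d (not_lt.1 h')
    nlinarith
  refine commutator_ne_top_of_card hp (by rw [← hcard, mul_comm]) hd0 hdp ?_
  rw [commutator_def, ← Subgroup.map_top_of_surjective (QuotientGroup.mk' K)
    (QuotientGroup.mk'_surjective K), ← Subgroup.map_commutator, ← commutator_def, h]

theorem exists_prime_codeg [Nontrivial G] (h : commutator G ≠ ⊤) :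
    ∃ χ : IrrCharacter G, (codeg χ).Prime := by
  obtain ⟨p, hp, hdvd⟩ := Nat.exists_prime_and_dvd (fun h1 => h (Subgroup.index_eq_one.1 h1))
  obtain ⟨M, hM, hidx⟩ := exists_normal_index_eq_prime hp hdvd
  have hcard : Nat.card (G ⧸ M) = p := by rw [← Subgroup.index_eq_card, hidx]
  haveI := Fact.mk hp
  haveI : IsCyclic (G ⧸ M) := isCyclic_of_prime_card hcard
  haveI : Nontrivial (G ⧸ M) := Finite.one_lt_card_iff_nontrivial.1 (hcard ▸ hp.one_lt)
  obtain ⟨q, hq⟩ := exists_ne (1 : G ⧸ M)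
  obtain ⟨ψ, hψ⟩ := exists_irr_ne_apply_one hq
  letI := IsCyclic.commGroup (α := G ⧸ M)
  let χ : IrrCharacter G := ⟨_, IsIrrCharacter.comp_surjective ψ.2 (QuotientGroup.mk' M)
    (QuotientGroup.mk'_surjective M)⟩
  refine ⟨χ, ?_⟩
  obtain ⟨K, hK, φ, d, hφ, hχ, hf, hd0, hd, hcardK⟩ := exists_faithful_quotient χ
  have hMK : M ≤ K := fun m hm => by
    rw [← QuotientGroup.eq_one_iff]
    refine hf _ ?_
    have h1 := congrFun hχ m
    have h2 := congrFun hχ 1
    simp only [χ, Function.comp_apply, QuotientGroup.mk'_apply, (QuotientGroup.eq_one_iff m).2 hm] at h1 h2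
    exact h1.symm.trans h2
  have hKtop : K ≠ ⊤ := fun h' => by
    obtain ⟨g, rfl⟩ := QuotientGroup.mk_surjective q
    apply hψ
    have h1 := congrFun hχ g
    have h2 := congrFun hχ 1
    simp only [χ, Function.comp_apply, QuotientGroup.mk'_apply,
      (QuotientGroup.eq_one_iff g).2 (h' ▸ Subgroup.mem_top g)] at h1 h2
    exact h1.trans h2.symm
  have hKidx : Nat.card (G ⧸ K) = p := by
    rw [← Subgroup.index_eq_card]
    have h1 := Subgroup.index_dvd_of_le hMK
    rw [hidx] at h1
    exact ((Nat.dvd_prime hp).1 h1).resolve_left fun h2 => hKtop (Subgroup.index_eq_one.1 h2)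
  have hd1 : d = 1 := by
    have h1 : (χ : G → ℂ) 1 = 1 := by
      show (ψ : G ⧸ M → ℂ) (QuotientGroup.mk' M 1) = 1
      rw [map_one]
      exact IsIrrCharacter.apply_one_of_comm mul_comm ψ.2
    rw [hχ] at h1
    simp only [Function.comp_apply, map_one, hd] at h1
    exact_mod_cast h1
  rw [hd1, one_mul, hKidx] at hcardK
  rw [hcardK]
  exact hp

end Cfsg.Agent.Lib.CharMisc
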