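import Cfsg.Agent.Lib.CharMisc.Codegree
import Cfsg.Agent.Lib.Characters.Clifford
import Cfsg.Agent.Lib.Characters.Ito
import Cfsg.Agent.Lib.Characters.InducedMore
import Cfsg.Agent.Lib.Frobenius.Complement

/-!
# Faithful characters whose codegree is a prime, or induced from a Sylow subgroup
-/

set_option autoImplicit false
set_option linter.unusedSectionVars false
set_option linter.style.haveILetI false

namespace Cfsg.Agent.Lib.CharMisc

open Cfsg Cfsg.Agent.Lib.Characters

universe u

variable {G : Type u} [Group G]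

theorem apply_one_indFun [Fintype G] (H : Subgroup G) (θ : H → ℂ) :
    indFun H θ 1 = (H.index : ℂ) * θ 1 := by
  have h : (H.index : ℂ) * Nat.card H = Nat.card G := by exact_mod_cast H.index_mul_card
  rw [indFun_apply, Finset.sum_congr rfl fun x _ => show extendByZero H θ (x⁻¹ * 1 * x) = θ 1 by
    rw [show x⁻¹ * 1 * x = ((1 : H) : G) by simp, extendByZero_coe], Finset.sum_const,
    Finset.card_univ, nsmul_eq_mul, ← Nat.card_eq_fintype_card, ← h]
  field_simp
  rw [mul_assoc, mul_div_cancel_left₀ _ (Nat.cast_ne_zero.2 (Nat.card_pos (α := H)).ne')]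

/-- A constituent of a restriction induces to a character containing the given one. -/
theorem exists_indFun_eq_add [Fintype G] (H : Subgroup G) [Fintype H] {χ : G → ℂ}
    (hχ : IsIrrCharacter G χ) {θ : H → ℂ} (hθ : IsCharacter H θ)
    (h : classInner (fun n : H => χ n) θ ≠ 0) :
    ∃ ψ, IsCharacter G ψ ∧ indFun H θ = χ + ψ := by
  refine IsCharacter.exists_add_of_classInner_ne_zero (IsCharacter.indFun H hθ) hχ ?_
  rw [classInner_indFun H θ (IsCharacter.isClassFunction (IsIrrCharacter.isCharacter hχ)),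
    IsCharacter.classInner_comm hθ (IsCharacter.restrict (IsIrrCharacter.isCharacter hχ) H)]
  exact h

/-- The degree is at most the index of an abelian subgroup. -/
theorem charDegree_le_index [Fintype G] (A : Subgroup G) (hA : ∀ a ∈ A, ∀ b ∈ A, a * b = b * a)
    (χ : IrrCharacter G) {d : ℕ} (hd : (χ : G → ℂ) 1 = d) : d ≤ A.index := by
  haveI : Fintype A := Fintype.ofFinite _
  have hc := IsCharacter.restrict (irr_isCharacter χ) A
  obtain ⟨θ, hθ⟩ := IsCharacter.exists_constituent hc fun h =>
    IsIrrCharacter.apply_one_ne_zero χ.2 (congrFun h 1)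
  obtain ⟨ψ, hψ, heq⟩ := exists_indFun_eq_add A χ.2 (irr_isCharacter θ) hθ
  obtain ⟨m, hm⟩ := IsCharacter.exists_apply_one hψ
  have h1 := congrFun heq 1
  rw [Pi.add_apply, apply_one_indFun, hd, hm,
    IsIrrCharacter.apply_one_of_comm (fun a b => Subtype.ext (hA a a.2 b b.2)) θ.2, mul_one] at h1
  have : A.index = d + m := by exact_mod_cast h1
  omega

theorem faithful_prime_codegree [Finite G] (χ : IrrCharacter G) {p : ℕ} (hp : p.Prime) {d : ℕ}
    (hd : (χ : G → ℂ) 1 = d) (hcod : Nat.card G = p * d)
    :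
    (IsCyclic G ∧ Nat.card G = p) ∨
      ∃ H : Subgroup G, IsFrobeniusComplement H ∧ Nat.card (frobeniusKernel H) = p := by
  classical
  haveI := Fintype.ofFinite G
  haveI := Fintype.ofFinite (IrrCharacter G)
  haveI := Fact.mk hp
  have hd0 : 0 < d := by
    obtain ⟨n, hn, hn1⟩ := IsIrrCharacter.exists_apply_one χ.2
    have : d = n := by exact_mod_cast hd.symm.trans hn1
    omega
  by_cases h1 : d = 1
  · exact Or.inl ⟨isCyclic_of_prime_card (p := p) (by rw [hcod, h1, mul_one]),
      by rw [hcod, h1, mul_one]⟩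
  right
  have hlt : d < p := by
    choose n hn hn1 using fun χ : IrrCharacter G => (IsIrrCharacter.exists_apply_one χ.2)
    have hsum : ∑ χ : IrrCharacter G, n χ ^ 2 = Nat.card G := by
      have h2 : ∑ χ : IrrCharacter G, ((n χ : ℂ)) ^ 2 = (Nat.card G : ℂ) := by
        rw [← sum_degree_sq (G := G)]
        exact Finset.sum_congr rfl fun χ _ => by rw [hn1 χ]
      exact_mod_cast h2
    let e : IrrCharacter G := ⟨fun _ => 1, isIrrCharacter_one⟩
    have ha : n χ = d := by exact_mod_cast (hn1 χ).symm.trans hd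
    have he : n e = 1 := by
      have h0 : ((n e : ℕ) : ℂ) = 1 := (hn1 e).symm
      exact_mod_cast h0
    have hne : χ ≠ e := fun h2 => h1 (by rw [← ha, h2, he])
    have h2 := Finset.sum_le_sum_of_subset (f := fun χ => n χ ^ 2) (Finset.subset_univ {χ, e})
    rw [Finset.sum_pair hne, hsum, ha, he, one_pow, hcod] at h2
    nlinarith
  let P : Sylow p G := default
  have hfac : (Nat.card G).factorization p = 1 := by
    rw [hcod, Nat.factorization_mul hp.ne_zero hd0.ne', Finsupp.add_apply, hp.factorization_self,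
      Nat.factorization_eq_zero_of_lt hlt, add_zero]
  have hPcard : Nat.card P = p := by rw [P.card_eq_multiplicity, hfac, pow_one]
  have hidx : (P : Subgroup G).index = d := by
    have h := (P : Subgroup G).card_mul_index
    rw [hcod, show Nat.card (P : Subgroup G) = p from hPcard] at h
    exact Nat.eq_of_mul_eq_mul_left hp.pos h
  have hn1 : Nat.card (Sylow p G) = 1 := by
    have h1 : Nat.card (Sylow p G) ≡ 1 [MOD p] := card_sylow_modEq_one p G
    have h2 : Nat.card (Sylow p G) ≤ d := by
      rw [← hidx]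
      exact Nat.le_of_dvd (hidx ▸ hd0) P.card_dvd_index
    have h4 : Nat.card (Sylow p G) % p = 1 % p := h1
    rw [Nat.mod_eq_of_lt (lt_of_le_of_lt h2 hlt), Nat.mod_eq_of_lt hp.one_lt] at h4
    exact h4
  haveI : Subsingleton (Sylow p G) := (Nat.card_eq_one_iff_unique.1 hn1).1
  haveI : (P : Subgroup G).Normal := P.normal_of_subsingleton
  haveI : IsCyclic (P : Subgroup G) := isCyclic_of_prime_card hPcard
  have hcop : Nat.Coprime (Nat.card (P : Subgroup G)) (P : Subgroup G).index := by
    rw [hidx, hPcard]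
    exact (Nat.Prime.coprime_iff_not_dvd hp).2 fun h => absurd (Nat.le_of_dvd hd0 h) (by omega)
  obtain ⟨H, hH⟩ := Subgroup.exists_right_complement'_of_coprime hcop
  have hdisj : (P : Subgroup G) ⊓ H = ⊥ := hH.disjoint.eq_bot
  have hsup : (P : Subgroup G) ⊔ H = ⊤ := hH.sup_eq_top
  have hfpf : ∀ h ∈ H, h ≠ 1 → ∀ n ∈ (P : Subgroup G), h * n = n * h → n = 1 := by
    intro h hh hh1 n hn hc
    by_contra hn1
    -- the abelian subgroup generated by `P` and `h`
    have hgen : Subgroup.zpowers n = (P : Subgroup G) := by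
      refine Subgroup.eq_of_le_of_card_ge (Subgroup.zpowers_le.2 hn) ?_
      rw [Nat.card_zpowers, hPcard]
      have : orderOf n ∣ p := by
        rw [← hPcard]; exact Subgroup.orderOf_dvd_natCard _ hn
      rw [((Nat.dvd_prime hp).1 this).resolve_left fun h0 => hn1 (orderOf_eq_one_iff.1 h0)]
    let A : Subgroup G := Subgroup.closure {n, h}
    have hA : ∀ a ∈ A, ∀ b ∈ A, a * b = b * a := by
      haveI := Subgroup.isMulCommutative_closure (k := ({n, h} : Set G)) (by
        intro a ha b hb
        rcases ha with rfl | rfl <;> rcases hb with rfl | rfl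
        exacts [rfl, hc.symm, hc, rfl])
      intro a ha b hb
      exact congrArg Subtype.val (mul_comm' (⟨a, ha⟩ : A) ⟨b, hb⟩)
    have hle : (P : Subgroup G) ≤ A := hgen ▸ Subgroup.zpowers_le.2 (Subgroup.subset_closure (by simp))
    have h2 : A.index < (P : Subgroup G).index := by
      refine Subgroup.index_strictAnti (lt_of_le_of_ne hle fun heq => ?_)
      have : h ∈ (P : Subgroup G) := heq ▸ Subgroup.subset_closure (by simp)
      exact hh1 (Subgroup.mem_bot.1 (hdisj ▸ Subgroup.mem_inf.2 ⟨this, hh⟩))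
    have h3 := charDegree_le_index A hA χ hd
    omega
  have hP : (P : Subgroup G) ≠ ⊥ := fun h => hp.ne_one (by rw [← hPcard, show Nat.card P = Nat.card (P : Subgroup G) from rfl, h, Subgroup.card_bot])
  have hHne : H ≠ ⊥ := fun h => by
    rw [h, sup_bot_eq] at hsup
    rw [hsup, Subgroup.index_top] at hidx
    exact h1 hidx.symm
  refine ⟨H, Frobenius.isFrobeniusComplement_of_fixedPointFree hdisj hsup hP hHne hfpf, ?_⟩
  rw [Frobenius.frobeniusKernel_eq_of_fixedPointFree hdisj hsup hfpf]
  exact hPcard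

theorem pow_codegree_iff_induced [Fintype G] {p : ℕ} [hp : Fact p.Prime] (χ : IrrCharacter G)
    {d : ℕ} (hd : (χ : G → ℂ) 1 = d) :
    (∃ k : ℕ, Nat.card G = p ^ k * d) ↔
      ∃ (P : Sylow p G) (θ : ↥(P : Subgroup G) → ℂ), IsCharacter (P : Subgroup G) θ ∧
        (χ : G → ℂ) = indFun (P : Subgroup G) θ := by
  classical
  constructor
  · rintro ⟨k, hk⟩
    let P : Sylow p G := default
    haveI : Fintype (P : Subgroup G) := Fintype.ofFinite _
    haveI := Fintype.ofFinite (IrrCharacter (P : Subgroup G))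
    obtain ⟨a, ha⟩ : ∃ a, Nat.card (P : Subgroup G) = p ^ a := P.isPGroup'.exists_card_eq
    have hm : ¬ p ∣ (P : Subgroup G).index := P.not_dvd_index
    have hmd : p ^ k * d = p ^ a * (P : Subgroup G).index := by
      rw [← hk, ← ha, Subgroup.card_mul_index]
    have hdvd : (P : Subgroup G).index ∣ d := by
      refine (Nat.Coprime.pow_right k ((Nat.Prime.coprime_iff_not_dvd hp.out).2 hm).symm).dvd_of_dvd_mul_left ?_
      exact ⟨p ^ a, by rw [hmd, mul_comm]⟩
    obtain ⟨c, hc⟩ := hdvd
    have hc' : p ^ k * c = p ^ a := by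
      refine Nat.eq_of_mul_eq_mul_right (Nat.pos_of_ne_zero (Subgroup.index_ne_zero_of_finite (H := (P : Subgroup G)))) ?_
      rw [← hmd, hc]; ring
    obtain ⟨b, hb, hcb⟩ := (Nat.dvd_prime_pow hp.out).1 (Dvd.intro_left _ hc' : c ∣ p ^ a)
    have hres := IsCharacter.restrict (irr_isCharacter χ) (P : Subgroup G)
    obtain ⟨m, hm', -⟩ := IsCharacter.exists_nat_decomp hres
    have h1 := congrFun hm' 1
    simp only [Finset.sum_apply, Pi.smul_apply, smul_eq_mul, OneMemClass.coe_one, hd] at h1
    choose n hn hn1 hn2 using fun θ : IrrCharacter (P : Subgroup G) =>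
      IsIrrCharacter.exists_degree_dvd θ.2
    have hsum : d = ∑ θ, m θ * n θ := by
      have h2 : (d : ℂ) = ((∑ θ, m θ * n θ : ℕ) : ℂ) := by
        rw [h1]; push_cast
        exact Finset.sum_congr rfl fun θ _ => by rw [hn1 θ]
      exact_mod_cast h2
    obtain ⟨θ, hθm, hθn⟩ : ∃ θ, m θ ≠ 0 ∧ n θ ∣ p ^ b := by
      by_contra hne
      push Not at hne
      have hdiv : p ^ (b + 1) ∣ d := by
        rw [hsum]
        refine Finset.dvd_sum fun θ _ => ?_
        rcases Nat.eq_zero_or_pos (m θ) with h0 | h0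
        · simp [h0]
        · refine Dvd.dvd.mul_left ?_ _
          have hθd : n θ ∣ p ^ a := ha ▸ hn2 θ
          obtain ⟨j, -, hj⟩ := (Nat.dvd_prime_pow hp.out).1 hθd
          rw [hj]
          refine pow_dvd_pow p ?_
          by_contra hlt
          exact hne θ h0.ne' (hj ▸ pow_dvd_pow p (by omega))
      rw [hc, hcb, pow_succ, mul_comm _ (p ^ b)] at hdiv
      exact hm (Nat.dvd_of_mul_dvd_mul_left (pow_pos hp.out.pos b) hdiv)
    have hne0 : classInner (fun g : (P : Subgroup G) => (χ : G → ℂ) g)
        (θ : ↥(P : Subgroup G) → ℂ) ≠ 0 := by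
      rw [hm', classInner_irr_sum]
      exact_mod_cast hθm
    obtain ⟨ψ, hψ, heq⟩ := exists_indFun_eq_add (P : Subgroup G) χ.2 (irr_isCharacter θ) hne0
    refine ⟨P, _, irr_isCharacter θ, ?_⟩
    obtain ⟨r, hr⟩ := IsCharacter.exists_apply_one hψ
    have h3 := congrFun heq 1
    rw [Pi.add_apply, apply_one_indFun, hd, hr, hn1 θ] at h3
    have h4 : (P : Subgroup G).index * n θ = d + r := by exact_mod_cast h3
    have h5 : n θ ≤ p ^ b := Nat.le_of_dvd (pow_pos hp.out.pos b) hθn
    have hr0 : r = 0 := by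
      have : (P : Subgroup G).index * n θ ≤ d := by
        rw [hc, hcb]; exact Nat.mul_le_mul_left _ h5
      omega
    rw [heq]
    funext g
    have h6 := IsCharacter.norm_le hψ g
    rw [hr, hr0, Nat.cast_zero, norm_zero] at h6
    simp [norm_le_zero_iff.1 h6]
  · rintro ⟨P, θ, hθ, hind⟩
    haveI : Fintype (P : Subgroup G) := Fintype.ofFinite _
    have hirr : IsIrrCharacter (P : Subgroup G) θ := by
      obtain ⟨θ₀, hθ₀⟩ := IsCharacter.exists_constituent hθ fun h0 =>
        IsIrrCharacter.apply_one_ne_zero χ.2 (by rw [hind, apply_one_indFun, h0]; simp)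
      obtain ⟨ψ, hψ, hadd⟩ := IsCharacter.exists_add_of_classInner_ne_zero hθ θ₀.2 hθ₀
      by_cases hψ0 : ψ = 0
      · rw [hadd, hψ0, add_zero]; exact θ₀.2
      exfalso
      -- the induced character would be reducible
      have h1 : indFun (P : Subgroup G) θ =
          indFun (P : Subgroup G) (θ₀ : ↥(P : Subgroup G) → ℂ) + indFun (P : Subgroup G) ψ := by
        rw [hadd, indFun_add]
      have hA := IsCharacter.indFun (P : Subgroup G) (irr_isCharacter θ₀)
      have hB := IsCharacter.indFun (P : Subgroup G) hψ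
      obtain ⟨α, hα⟩ := IsCharacter.exists_constituent hA fun h0 => by
        have := congrFun h0 1
        rw [apply_one_indFun, Pi.zero_apply, mul_eq_zero] at this
        exact this.elim (fun h => Subgroup.index_ne_zero_of_finite (H := (P : Subgroup G)) (by exact_mod_cast h))
          (IsIrrCharacter.apply_one_ne_zero θ₀.2)
      obtain ⟨β, hβ⟩ := IsCharacter.exists_constituent hB fun h0 => by
        have := congrFun h0 1
        rw [apply_one_indFun, Pi.zero_apply, mul_eq_zero] at this
        refine this.elim (fun h => Subgroup.index_ne_zero_of_finite (H := (P : Subgroup G)) (by exact_mod_cast h)) fun h => hψ0 ?_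
        funext g
        have h6 := IsCharacter.norm_le hψ g
        rw [h, norm_zero] at h6
        exact norm_le_zero_iff.1 h6
      obtain ⟨s, hs⟩ := IsCharacter.exists_classInner_nat hA (irr_isCharacter χ)
      obtain ⟨t, ht⟩ := IsCharacter.exists_classInner_nat hB (irr_isCharacter χ)
      have hst : classInner (indFun (P : Subgroup G) θ) (χ : G → ℂ) = 1 := by
        rw [← hind]; exact IsIrrCharacter.classInner_self χ.2
      have hαχ : (α : G → ℂ) = (χ : G → ℂ) := by
        by_contra hne
        have h2 := IsCharacter.classInner_ne_zero_of_add hA hB (irr_isCharacter α) hα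
        rw [← h1, ← hind, IsIrrCharacter.classInner_ne χ.2 α.2 (Ne.symm hne)] at h2
        exact h2 rfl
      have hβχ : (β : G → ℂ) = (χ : G → ℂ) := by
        by_contra hne
        have h2 := IsCharacter.classInner_ne_zero_of_add hB hA (irr_isCharacter β) hβ
        rw [add_comm, ← h1, ← hind, IsIrrCharacter.classInner_ne χ.2 β.2 (Ne.symm hne)] at h2
        exact h2 rfl
      rw [hαχ, hs, Nat.cast_ne_zero] at hα
      rw [hβχ, ht, Nat.cast_ne_zero] at hβ
      rw [h1, classInner_add_left, hs, ht] at hst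
      have : s + t = 1 := by exact_mod_cast hst
      omega
    obtain ⟨n, hn0, hn, hndvd⟩ := IsIrrCharacter.exists_degree_dvd hirr
    obtain ⟨a, ha⟩ : ∃ a, Nat.card (P : Subgroup G) = p ^ a := P.isPGroup'.exists_card_eq
    obtain ⟨j, hj, hnj⟩ := (Nat.dvd_prime_pow hp.out).1 (ha ▸ hndvd)
    refine ⟨a - j, ?_⟩
    have h1 : d = (P : Subgroup G).index * n := by
      have : (d : ℂ) = (((P : Subgroup G).index * n : ℕ) : ℂ) := by
        rw [← hd, hind, apply_one_indFun, hn]; push_cast; rfl
      exact_mod_cast this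
    rw [← Subgroup.card_mul_index (P : Subgroup G), ha, h1, hnj, mul_left_comm, ← pow_add,
      Nat.sub_add_cancel hj, mul_comm]

end Cfsg.Agent.Lib.CharMisc
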