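import Cfsg.Agent.Lib.Characters.CyclicGlauberman

/-!
# Cyclic coprime actions with all nontrivial elements having the same fixed points

The canonical extension is, up to a sign and a sign character, the same irreducible character of
the fixed point group on every nontrivial coset.
-/

set_option autoImplicit false
set_option linter.unusedSectionVars false
set_option linter.style.haveILetI false

namespace Cfsg.Agent.Lib.CharMisc

open Cfsg Cfsg.Agent.Lib.Characters Cfsg.Agent.Lib.BlockHeights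
open scoped ComplexConjugate

universe u

/-- A non-constant natural vector has `n ∑ a² - (∑ a)² ≥ n - 1`, with equality only if a single
entry differs from the others, and then by one. -/
theorem variance_bound {ι : Type*} [Fintype ι] [DecidableEq ι] (a : ι → ℕ) {i₀ j₀ : ι}
    (h : a i₀ ≠ a j₀) :
    (Fintype.card ι : ℤ) - 1 ≤
        (Fintype.card ι : ℤ) * (∑ i, (a i : ℤ) ^ 2) - (∑ i, (a i : ℤ)) ^ 2 ∧
    ((Fintype.card ι : ℤ) * (∑ i, (a i : ℤ) ^ 2) - (∑ i, (a i : ℤ)) ^ 2 =
        (Fintype.card ι : ℤ) - 1 →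
      ∃ (j : ι) (c : ℕ) (δ : ℤ), (δ = 1 ∨ δ = -1) ∧
        ∀ i, (a i : ℤ) = c + if i = j then δ else 0) := by
  obtain ⟨im, -, him⟩ := Finset.exists_min_image Finset.univ a ⟨i₀, Finset.mem_univ _⟩
  set b : ι → ℤ := fun i => (a i : ℤ) - a im with hb
  have hb0 : ∀ i, 0 ≤ b i := fun i => by
    have := him i (Finset.mem_univ i)
    simp only [hb]
    omega
  set P := Finset.univ.filter fun i => 0 < b i with hP
  set n : ℤ := (Fintype.card ι : ℤ) with hn
  set k : ℤ := (P.card : ℤ) with hk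
  have hbP : ∀ i, i ∉ P → b i = 0 := fun i hi => by
    have := hb0 i
    simp only [hP, Finset.mem_filter, Finset.mem_univ, true_and, not_lt] at hi
    omega
  have hP1 : 1 ≤ k := by
    have hne : P.Nonempty := by
      by_contra he
      rw [Finset.not_nonempty_iff_eq_empty] at he
      have h1 := hbP i₀ (by simp [he])
      have h2 := hbP j₀ (by simp [he])
      simp only [hb] at h1 h2
      omega
    simp only [hk]
    have := hne.card_pos
    omega
  have hPn : k + 1 ≤ n := by
    have h1 : P.card < Fintype.card ι :=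
      Finset.card_lt_univ_of_notMem (x := im) (by simp [hP, hb])
    simp only [hk, hn]
    omega
  set T := ∑ i, b i with hT
  set Q := ∑ i, b i ^ 2 with hQ
  have hE : n * (∑ i, (a i : ℤ) ^ 2) - (∑ i, (a i : ℤ)) ^ 2 = n * Q - T ^ 2 := by
    have e1 : ∀ i, (a i : ℤ) = b i + a im := fun i => by simp [hb]
    have e2 : ∑ i, (a i : ℤ) = T + n * a im := by
      rw [Finset.sum_congr rfl fun i _ => e1 i]
      simp [hT, hn, Finset.sum_add_distrib]
    have e3 : ∑ i, (a i : ℤ) ^ 2 = Q + 2 * (a im : ℤ) * T + n * (a im : ℤ) ^ 2 := by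
      rw [Finset.sum_congr rfl fun i _ => congrArg (· ^ 2) (e1 i)]
      simp only [hT, hQ, add_sq, Finset.sum_add_distrib, Finset.mul_sum, Finset.sum_const,
        Finset.card_univ, nsmul_eq_mul, hn]
      congr 2
      exact Finset.sum_congr rfl fun i _ => by ring
    rw [e2, e3]; ring
  have hTP : T = ∑ i ∈ P, b i :=
    (Finset.sum_subset (Finset.subset_univ _) fun i _ hi => hbP i hi).symm
  have hQP : Q = ∑ i ∈ P, b i ^ 2 :=
    (Finset.sum_subset (Finset.subset_univ _) fun i _ hi => by rw [hbP i hi]; ring).symm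
  have hCS : T ^ 2 ≤ k * Q := by
    rw [hTP, hQP, hk]
    exact sq_sum_le_card_mul_sum_sq
  have h1le : ∀ i ∈ P, (1 : ℤ) ≤ b i ^ 2 := fun i hi => by
    have : 0 < b i := (Finset.mem_filter.mp hi).2
    nlinarith
  have hQk : k ≤ Q := by
    rw [hQP, hk, ← mul_one (P.card : ℤ), ← nsmul_eq_mul]
    exact Finset.card_nsmul_le_sum _ _ _ h1le
  have h2 : n - 1 ≤ k * (n - k) := by
    have h0 : 0 ≤ (k - 1) * (n - k - 1) := mul_nonneg (by omega) (by omega)
    linarith [show (k - 1) * (n - k - 1) = k * (n - k) - (n - 1) by ring]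
  have h3 : (n - k) * Q ≤ n * Q - T ^ 2 := by nlinarith
  have h4 : k * (n - k) ≤ (n - k) * Q := by nlinarith
  refine ⟨by rw [hE]; omega, fun heq => ?_⟩
  rw [hE] at heq
  have h5 : (k - 1) * (n - k - 1) = 0 := by
    have : k * (n - k) = n - 1 := by omega
    linear_combination this
  have h6 : Q = k := by
    have : k * (n - k) = (n - k) * Q := by omega
    have h7 : (n - k) * (Q - k) = 0 := by linear_combination -this
    rcases mul_eq_zero.mp h7 with h8 | h8 <;> omega
  have hb1 : ∀ i ∈ P, b i = 1 := by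
    intro i hi
    have hall := (Finset.sum_eq_sum_iff_of_le h1le).mp
      (by rw [← hQP, h6, Finset.sum_const, nsmul_eq_mul, mul_one]) i hi
    have : 0 < b i := (Finset.mem_filter.mp hi).2
    nlinarith
  rcases mul_eq_zero.mp h5 with hk1 | hk1
  · obtain ⟨j, hj⟩ := Finset.card_eq_one.mp (show P.card = 1 by simp only [hk] at hk1; omega)
    refine ⟨j, a im, 1, Or.inl rfl, fun i => ?_⟩
    by_cases hij : i = j
    · have := hb1 i (by simp [hj, hij])
      simp only [hb] at this
      rw [if_pos hij]; omega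
    · have := hbP i (by simp [hj, hij])
      simp only [hb] at this
      rw [if_neg hij]; omega
  · obtain ⟨j, hj⟩ := Finset.card_eq_one.mp (show Pᶜ.card = 1 by
      rw [Finset.card_compl]; simp only [hk, hn] at hk1; omega)
    refine ⟨j, a im + 1, -1, Or.inr rfl, fun i => ?_⟩
    by_cases hij : i = j
    · have := hbP i (Finset.mem_compl.mp (by simp [hj, hij]))
      simp only [hb] at this
      rw [if_pos hij]; push_cast; omega
    · have hiP : i ∈ P := by
        by_contra hn'
        have := Finset.mem_compl.mpr hn'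
        rw [hj, Finset.mem_singleton] at this
        exact hij this
      have := hb1 i hiP
      simp only [hb] at this
      rw [if_neg hij]; push_cast; omega

section Linear

variable {S : Type u} [Group S] [Fintype S] [Fintype (IrrCharacter S)]

/-- The irreducible characters of an abelian group sum to the regular character. -/
theorem sum_irr_of_comm (hab : ∀ a b : S, a * b = b * a) (x : S) [DecidableEq S] :
    ∑ ν : IrrCharacter S, (ν : S → ℂ) x = if x = 1 then (Nat.card S : ℂ) else 0 := by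
  set e : S → ℂ := fun y => if y = 1 then (Nat.card S : ℂ) else 0 with he
  have hc : IsClassFunction S e := fun g h => by
    simp only [he]
    congr 1
    rw [hab h g, mul_inv_cancel_right]
  have hν : ∀ ν : IrrCharacter S, classInner e (ν : S → ℂ) = 1 := fun ν => by
    have h1 : (ν : S → ℂ) 1 = 1 := IsIrrCharacter.apply_one_of_comm hab ν.2
    simp [classInner, he, h1]
  have h := congrFun (eq_sum_classInner hc) x
  simp only [hν, one_smul, Finset.sum_apply] at h
  exact h.symm

/-- A character of an abelian group: either constant multiplicities, or bounded below. -/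
theorem variance_eq (hab : ∀ a b : S, a * b = b * a) [DecidableEq S] {A : S → ℂ}
    (a : IrrCharacter S → ℕ) (hA : A = ∑ ν : IrrCharacter S, (a ν : ℂ) • (ν : S → ℂ)) :
    (((Nat.card S : ℤ) * (∑ ν, (a ν : ℤ) ^ 2) - (∑ ν, (a ν : ℤ)) ^ 2 : ℤ) : ℂ) =
      ∑ x ∈ Finset.univ.erase (1 : S), A x * conj (A x) := by
  have h1 : A 1 = ((∑ ν, (a ν : ℤ) : ℤ) : ℂ) := by
    have : ∀ ν : IrrCharacter S, (ν : S → ℂ) 1 = 1 := fun ν =>
      IsIrrCharacter.apply_one_of_comm hab ν.2
    simp [hA, this]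
  have h2 : (Nat.card S : ℂ)⁻¹ * ∑ x, A x * conj (A x) = ((∑ ν, (a ν : ℤ) ^ 2 : ℤ) : ℂ) := by
    show classInner A A = _
    rw [hA, classInner_sum_sum]
    simp [sq]
  rw [inv_mul_eq_iff_eq_mul₀ natCard_ne_zero_complex,
    ← Finset.add_sum_erase _ _ (Finset.mem_univ (1 : S)), h1, map_intCast] at h2
  push_cast at h2 ⊢
  linear_combination -h2

end Linear

variable {Γ : Type u} [Group Γ] [Fintype Γ] {G S C : Subgroup Γ} [Fintype G] [G.Normal]
  [Fintype C]

/-- On a nontrivial coset the extension has norm one on the fixed points. -/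
theorem classInner_coset_self (hcop : (Nat.card G).Coprime (Nat.card S))
    (hC : ∀ x, x ∈ C ↔ x ∈ G ∧ ∀ t ∈ S, t * x * t⁻¹ = x)
    (hfix : ∀ x ∈ S, x ≠ 1 → G ⊓ Subgroup.centralizer ({x} : Set Γ) ≤ C)
    {χh : Γ → ℂ} (hχh : IsIrrCharacter Γ χh) (hres : IsIrrCharacter G fun g : G => χh g)
    {x : Γ} (hx : x ∈ S) (hx1 : x ≠ 1) :
    classInner (fun c : C => χh ((c : Γ) * x)) (fun c : C => χh ((c : Γ) * x)) = 1 := by
  have hle : Subgroup.zpowers x ≤ S := Subgroup.zpowers_le.mpr hx
  have hC' : ∀ y, y ∈ C ↔ y ∈ G ∧ ∀ t ∈ Subgroup.zpowers x, t * y * t⁻¹ = y := by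
    refine fun y => ⟨fun h => ⟨((hC y).1 h).1, fun t ht => ((hC y).1 h).2 t (hle ht)⟩,
      fun h => hfix x hx hx1 ⟨h.1, ?_⟩⟩
    refine Subgroup.mem_centralizer_singleton_iff.mpr ?_
    exact (mul_inv_eq_iff_eq_mul.mp (h.2 x (Subgroup.mem_zpowers x))).symm
  have h := avgN_coset G (Subgroup.zpowers x) C
    (hcop.coprime_dvd_right (Subgroup.card_dvd_of_le hle)) hC' rfl
    (F := χh * fun g => conj (χh g)) (fun g y => by
      simp only [Pi.mul_apply, IsCharacter.conj_apply (IsIrrCharacter.isCharacter hχh)])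
  rw [avgN_mul_conj_self G hχh hres] at h
  exact h.symm

/-- The values of the extension on all nontrivial cosets. -/
theorem free_action_spec [Fintype S] (hcop : (Nat.card G).Coprime (Nat.card S))
    (hC : ∀ x, x ∈ C ↔ x ∈ G ∧ ∀ t ∈ S, t * x * t⁻¹ = x)
    (hfix : ∀ x ∈ S, x ≠ 1 → G ⊓ Subgroup.centralizer ({x} : Set Γ) ≤ C)
    {χh : Γ → ℂ} (hχh : IsIrrCharacter Γ χh) (hres : IsIrrCharacter G fun g : G => χh g)
    {s₀ : Γ} (hs₀ : Subgroup.zpowers s₀ = S) (hs₁ : s₀ ≠ 1)
    {β : IrrCharacter C} {ε₀ : ℤ} (hε₀ : ε₀ = 1 ∨ ε₀ = -1)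
    (hval : ∀ c : C, χh ((c : Γ) * s₀) = (ε₀ : ℂ) * (β : C → ℂ) c) :
    ∃ (δ : ℤ) (lam : S →* ℂˣ), (δ = 1 ∨ δ = -1) ∧ (∀ x : S, (lam x : ℂ) * lam x = 1) ∧
      (∀ (c : C) (x : S), x ≠ 1 →
        χh ((c : Γ) * x) = (δ : ℂ) * (β : C → ℂ) c * lam x) ∧
      ∃ ϑ : C → ℂ, IsCharacter C ϑ ∧
        (fun c : C => χh c) = fun c => (Nat.card S : ℂ) * ϑ c + (δ : ℂ) * (β : C → ℂ) c := by
  classical
  haveI := Fintype.ofFinite (IrrCharacter S)
  haveI := Fintype.ofFinite (IrrCharacter C)
  have hs₀S : s₀ ∈ S := hs₀ ▸ Subgroup.mem_zpowers s₀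
  have hcomm : ∀ c ∈ C, ∀ t ∈ S, Commute c t := fun c hc t ht =>
    (mul_inv_eq_iff_eq_mul.mp (((hC c).1 hc).2 t ht)).symm
  have hab : ∀ a b : S, a * b = b * a := by
    haveI : IsCyclic S := hs₀ ▸ inferInstance
    exact fun a b => mul_comm' a b
  have hhc := IsIrrCharacter.isCharacter hχh
  set f : S → C → ℂ := fun x c => χh ((c : Γ) * x) with hf
  have hfc : ∀ x, IsClassFunction C (f x) := fun x c h => by
    show χh (((h * c * h⁻¹ : C) : Γ) * x) = χh ((c : Γ) * x)
    rw [← IsCharacter.conj_apply hhc ((c : Γ) * x) (h : Γ)]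
    congr 1
    rw [Subgroup.coe_mul, Subgroup.coe_mul, Subgroup.coe_inv, mul_assoc _ (h : Γ)⁻¹ (x : Γ),
      ((hcomm h h.2 x x.2).inv_left).eq]
    group
  set A : IrrCharacter C → S → ℂ := fun φ => sComponent S C χh (φ : C → ℂ) with hA
  have hAc : ∀ φ, IsCharacter S (A φ) := fun φ =>
    isCharacter_sComponent S C hcomm hhc (irr_isCharacter φ)
  choose a ha ha' using fun φ => IsCharacter.exists_nat_decomp (hAc φ)
  set E : IrrCharacter C → ℤ :=
    fun φ => (Nat.card S : ℤ) * (∑ ν, (a φ ν : ℤ) ^ 2) - (∑ ν, (a φ ν : ℤ)) ^ 2 with hE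
  have hcardirr : (Fintype.card (IrrCharacter S) : ℤ) = Nat.card S := by
    have h := sum_irr_of_comm hab (1 : S)
    rw [if_pos rfl, Finset.sum_congr rfl fun ν _ =>
      IsIrrCharacter.apply_one_of_comm hab (ν : IrrCharacter S).2] at h
    simp only [Finset.sum_const, Finset.card_univ, nsmul_eq_mul, mul_one] at h
    exact_mod_cast h
  have hn2 : 2 ≤ Nat.card S := by
    haveI : Nontrivial S := ⟨⟨⟨s₀, hs₀S⟩, 1, fun h => hs₁ (congrArg Subtype.val h)⟩⟩
    exact Finite.one_lt_card
  have hconst : ∀ φ, (∀ ν ν', a φ ν = a φ ν') → ∃ c : ℕ, (∀ x : S, A φ x =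
      (c : ℂ) * if x = 1 then (Nat.card S : ℂ) else 0) := by
    intro φ hφ
    refine ⟨a φ ⟨fun _ => 1, isIrrCharacter_one⟩, fun x => ?_⟩
    rw [← sum_irr_of_comm hab x, Finset.mul_sum, ha φ, Finset.sum_apply]
    exact Finset.sum_congr rfl fun ν _ => by
      rw [Pi.smul_apply, smul_eq_mul, hφ ν ⟨fun _ => 1, isIrrCharacter_one⟩]
  have hone : ∀ x ∈ Finset.univ.erase (1 : S), ∑ φ, A φ x * conj (A φ x) = 1 := fun x hx =>
    (classInner_eq_sum_irr (hfc x) (hfc x)).symm.trans
      (classInner_coset_self hcop hC hfix hχh hres x.2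
        fun h => Finset.ne_of_mem_erase hx (Subtype.ext (h.trans (Subgroup.coe_one S).symm)))
  have hsum : ∑ φ, E φ = (Nat.card S : ℤ) - 1 := by
    have h : ((∑ φ, E φ : ℤ) : ℂ) = ((Nat.card S : ℤ) - 1 : ℤ) := by
      rw [Int.cast_sum, Finset.sum_congr rfl fun φ _ => variance_eq hab (a φ) (ha φ),
        Finset.sum_comm, Finset.sum_congr rfl hone,
        Finset.sum_const, Finset.card_erase_of_mem (Finset.mem_univ _), Finset.card_univ,
        nsmul_eq_mul, mul_one, ← Nat.card_eq_fintype_card, Nat.cast_sub (by omega)]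
      push_cast; ring
    exact_mod_cast h
  have hs₀val : A β ⟨s₀, hs₀S⟩ = (ε₀ : ℂ) := by
    show classInner (fun c : C => χh ((c : Γ) * s₀)) (β : C → ℂ) = _
    rw [funext hval, show (fun c : C => (ε₀ : ℂ) * (β : C → ℂ) c) = (ε₀ : ℂ) • (β : C → ℂ) from rfl,
      classInner_smul_left, IsIrrCharacter.classInner_self β.2, mul_one]
  have hvb : ∀ φ, ¬ (∀ ν ν', a φ ν = a φ ν') → (Nat.card S : ℤ) - 1 ≤ E φ := fun φ hφ => by
    push_neg at hφ
    obtain ⟨ν, ν', h⟩ := hφ
    have := (variance_bound (a φ) h).1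
    rwa [hcardirr] at this
  have hE0 : ∀ φ, 0 ≤ E φ := fun φ => by
    by_cases hφ : ∀ ν ν', a φ ν = a φ ν'
    · have h : a φ = fun _ => a φ ⟨fun _ => 1, isIrrCharacter_one⟩ := funext fun ν => hφ ν _
      simp only [hE]
      rw [h]
      simp only [Finset.sum_const, Finset.card_univ, nsmul_eq_mul, hcardirr]
      nlinarith
    · have := hvb φ hφ
      omega
  have hβnc : ¬ ∀ ν ν', a β ν = a β ν' := fun h => by
    obtain ⟨c, hc⟩ := hconst β h
    have h1 := hc ⟨s₀, hs₀S⟩
    rw [if_neg (fun h => hs₁ (congrArg Subtype.val h)), mul_zero, hs₀val, Int.cast_eq_zero] at h1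
    omega
  have hother : ∀ φ, φ ≠ β → ∀ ν ν', a φ ν = a φ ν' := fun φ hφ => by
    by_contra hc
    have h1 := hvb φ hc
    have h2 := hvb β hβnc
    have h3 := Finset.add_le_sum (fun i _ => hE0 i) (Finset.mem_univ φ) (Finset.mem_univ β) hφ
    omega
  have hEβ : E β = (Nat.card S : ℤ) - 1 := le_antisymm
    (hsum ▸ Finset.single_le_sum (fun i _ => hE0 i) (Finset.mem_univ β)) (hvb β hβnc)
  push_neg at hβnc
  obtain ⟨ν₁, ν₂, hν⟩ := hβnc
  obtain ⟨lamc, cβ, δ, hδ, hab'⟩ :=
    (variance_bound (a β) hν).2 (by rw [hcardirr]; exact hEβ)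
  obtain ⟨lam, hlam⟩ := IsCharacter.exists_hom_of_apply_one (irr_isCharacter lamc)
    (IsIrrCharacter.apply_one_of_comm hab lamc.2)
  have hAβ : ∀ x : S, A β x = (cβ : ℂ) * (if x = 1 then (Nat.card S : ℂ) else 0)
      + (δ : ℂ) * lam x := by
    intro x
    rw [← sum_irr_of_comm hab x, Finset.mul_sum, ha β, Finset.sum_apply]
    have : ∀ ν : IrrCharacter S, (a β ν : ℂ) = (cβ : ℂ) + if ν = lamc then (δ : ℂ) else 0 := by
      intro ν
      have h := congrArg (Int.cast : ℤ → ℂ) (hab' ν)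
      push_cast at h
      simpa using h
    simp [this, add_mul, Finset.sum_add_distrib, hlam]
  have hδlam : (δ : ℂ) * lam ⟨s₀, hs₀S⟩ = (ε₀ : ℂ) := by
    have h := hAβ ⟨s₀, hs₀S⟩
    rw [hs₀val, if_neg (fun h => hs₁ (congrArg Subtype.val h)), mul_zero, zero_add] at h
    exact h.symm
  have hsq : ∀ x : S, (lam x : ℂ) * lam x = 1 := by
    have h0 : lam ⟨s₀, hs₀S⟩ ^ 2 = 1 := by
      refine Units.ext ?_
      have h := congrArg (fun z : ℂ => z * z) hδlam
      rcases hδ with rfl | rfl <;> rcases hε₀ with rfl | rfl <;>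
        (simp at h; simpa [sq] using h)
    intro x
    obtain ⟨i, hi⟩ := (hs₀.symm ▸ x.2 : (x : Γ) ∈ Subgroup.zpowers s₀)
    have hx : x = (⟨s₀, hs₀S⟩ : S) ^ i := Subtype.ext (by rw [SubgroupClass.coe_zpow]; exact hi.symm)
    rw [← Units.val_mul, ← sq, hx, map_zpow, ← zpow_natCast, ← zpow_mul, mul_comm i, zpow_mul,
      zpow_natCast, h0, one_zpow, Units.val_one]
  refine ⟨δ, lam, hδ, hsq, fun c x hx => ?_, ?_⟩
  · have hfx : f x = ((δ : ℂ) * lam x) • (β : C → ℂ) := by
      refine ext_classInner (hfc x) (IsClassFunction.smul (irr_isClassFunction β) _) fun φ => ?_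
      show A φ x = _
      rw [classInner_smul_left, classInner_irr]
      by_cases hφ : φ = β
      · subst hφ; rw [hAβ, if_neg hx, if_pos rfl]; ring
      · obtain ⟨c', hc'⟩ := hconst φ (hother φ hφ)
        rw [hc', if_neg hx, if_neg (Ne.symm hφ)]; ring
    have h := congrFun hfx c
    rw [Pi.smul_apply, smul_eq_mul] at h
    show f x c = _
    rw [h]; ring
  · have hn0 : (Nat.card S : ℂ) ≠ 0 := natCard_ne_zero_complex
    set r : C → ℂ := fun c => χh c with hr
    refine ⟨((Nat.card S : ℂ)⁻¹) • (r - (δ : ℂ) • (β : C → ℂ)), ?_, ?_⟩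
    · have hf1 : f 1 = r := funext fun c => by simp [hf, hr]
      refine isCharacter_iff_classInner_nat.mpr ⟨IsClassFunction.smul (IsClassFunction.sub
        (hf1 ▸ hfc 1) (IsClassFunction.smul (irr_isClassFunction β) _)) _, fun φ => ?_⟩
      rw [classInner_smul_left, classInner_sub_left, classInner_smul_left, classInner_irr,
        show classInner r (φ : C → ℂ) = A φ 1 by rw [← hf1]; rfl]
      by_cases hφ : φ = β
      · subst hφ
        refine ⟨cβ, ?_⟩
        rw [hAβ, if_pos rfl, if_pos rfl, map_one, Units.val_one]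
        field_simp
        ring
      · obtain ⟨c', hc'⟩ := hconst φ (hother φ hφ)
        refine ⟨c', ?_⟩
        rw [hc', if_pos rfl, if_neg (Ne.symm hφ)]
        field_simp
        ring
    · funext c
      simp only [Pi.smul_apply, Pi.sub_apply, smul_eq_mul, hr]
      field_simp
      ring

end Cfsg.Agent.Lib.CharMisc
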