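import Cfsg.Agent.Lib.Characters.Gallagher
import Cfsg.Agent.Lib.Characters.Kernel
import Cfsg.Agent.Lib.Characters.ExtensionCoprime
import Cfsg.Agent.Lib.Characters.Induced

/-!
# Fully ramified characters under a Frobenius action of a cyclic group
-/

namespace Cfsg.Agent.Lib.CharMisc

open Cfsg.Agent.Lib.Characters
open scoped ComplexConjugate

set_option linter.style.haveILetI false
set_option linter.unusedSectionVars false

universe u

/-- Natural numbers of sum `e` with `n Σ aᵢ² - e² = n - 1` force `e ≡ ±1 (mod n)`. -/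
theorem dvd_sub_or_add_of_sum_sq {ι : Type*} [Fintype ι] (a : ι → ℤ) (n e : ℤ) (hn : 2 ≤ n)
    (hcard : (Fintype.card ι : ℤ) = n) (he : ∑ i, a i = e)
    (hsq : n * ∑ i, a i ^ 2 = e ^ 2 + (n - 1)) : n ∣ e - 1 ∨ n ∣ e + 1 := by
  let q := (-e) / n
  let r := (-e) % n
  have hr0 : 0 ≤ r := Int.emod_nonneg _ (by omega)
  have hrn : r < n := Int.emod_lt_of_pos _ (by omega)
  have hqr : n * q + r = -e := Int.mul_ediv_add_emod _ _
  let t : ι → ℤ := fun i => a i + q
  have hT : ∑ i, t i = e + n * q := by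
    simp only [t]
    rw [Finset.sum_add_distrib, he, Finset.sum_const, Finset.card_univ, nsmul_eq_mul, ← hcard]
  have hT2 : ∑ i, t i ^ 2 = ∑ i, a i ^ 2 + 2 * q * e + n * q ^ 2 := by
    simp only [t, add_sq]
    rw [Finset.sum_add_distrib, Finset.sum_add_distrib, Finset.sum_const, Finset.card_univ,
      nsmul_eq_mul, hcard, ← he, Finset.mul_sum]
    congr 1
    congr 1
    exact Finset.sum_congr rfl fun i _ => by ring
  have hle : -∑ i, t i ≤ ∑ i, t i ^ 2 := by
    rw [← Finset.sum_neg_distrib]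
    exact Finset.sum_le_sum fun i _ => by nlinarith [Int.le_self_sq (-t i)]
  have hne : r ≠ 0 := by
    intro h0
    have h1 : n ∣ n - 1 := ⟨∑ i, t i ^ 2, by nlinarith⟩
    have := Int.le_of_dvd (by omega) h1
    omega
  have hbound : r * (n - r) ≤ n - 1 := by nlinarith
  rcases (show r = 1 ∨ r = n - 1 by
    by_contra h
    push Not at h
    have h1 : 2 ≤ r := by omega
    have h2 : r ≤ n - 2 := by omega
    nlinarith [mul_nonneg (sub_nonneg.mpr h1) (sub_nonneg.mpr h2)]) with h | h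
  · exact Or.inr ⟨-q, by linear_combination hqr - h⟩
  · exact Or.inl ⟨-q - 1, by linear_combination hqr - h⟩

section Homogeneous

variable {T : Type u} [Group T] [Fintype T] (N : Subgroup T) [N.Normal] [Fintype N]

/-- A character homogeneous over an extendible character is a multiple of the extension. -/
theorem eq_avgN_mul_of_homogeneous {F ext : T → ℂ} (hF : IsCharacter T F)
    (hext : IsIrrCharacter T ext) (hN : IsIrrCharacter N (fun n : N => ext n)) (c : ℂ)
    (hres : ∀ n : N, F n = c * ext n) :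
    F = avgN N (F * fun g => conj (ext g)) * ext := by
  haveI := Fintype.ofFinite (IrrCharacter T)
  haveI := Fintype.ofFinite (IrrCharacter N)
  obtain ⟨m, hm, -⟩ := IsCharacter.exists_nat_decomp hF
  have key : ∀ ψ : IrrCharacter T, m ψ ≠ 0 →
      classInner (fun n : N => (ψ : T → ℂ) n) (fun n : N => ext n) ≠ 0 := by
    intro ψ hψ h0
    have hresC : IsCharacter N (fun n : N => (ψ : T → ℂ) n) :=
      IsCharacter.restrict (irr_isCharacter ψ) N
    obtain ⟨φ, hφ⟩ := IsCharacter.exists_constituent hresC (fun h => by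
      have := congrFun h 1
      exact IsIrrCharacter.apply_one_ne_zero ψ.2 (by simpa using this))
    have hne : (φ : N → ℂ) ≠ fun n : N => ext n := fun h => hφ (h ▸ h0)
    have h1 : classInner (fun n : N => F n) (φ : N → ℂ) = 0 := by
      rw [show (fun n : N => F n) = c • fun n : N => ext n from funext fun n => hres n,
        classInner_smul_left, IsIrrCharacter.classInner_ne hN φ.2 hne.symm, mul_zero]
    choose d hd using fun χ : IrrCharacter T => IsCharacter.exists_classInner_nat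
      (IsCharacter.restrict (irr_isCharacter χ) N) (irr_isCharacter φ)
    have h2 : classInner (fun n : N => F n) (φ : N → ℂ) = ((∑ χ, m χ * d χ : ℕ) : ℂ) := by
      push_cast
      rw [hm, show (fun n : N => (∑ χ : IrrCharacter T, (m χ : ℂ) • (χ : T → ℂ)) n) =
          ∑ χ : IrrCharacter T, (m χ : ℂ) • (fun n : N => (χ : T → ℂ) n) from
          funext fun n => by simp [Finset.sum_apply], classInner_sum_left]
      exact Finset.sum_congr rfl fun χ _ => by
        rw [classInner_smul_left]; exact congrArg _ (hd χ)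
    rw [h1] at h2
    have h3 := Finset.sum_eq_zero_iff.mp (Nat.cast_eq_zero.mp h2.symm) ψ (Finset.mem_univ _)
    refine hφ ?_
    rw [show classInner (fun n : N => (ψ : T → ℂ) n) (φ : N → ℂ) = (d ψ : ℂ) from hd ψ,
      (Nat.mul_eq_zero.mp h3).resolve_left hψ, Nat.cast_zero]
  have hG : ∀ ψ : IrrCharacter T, (m ψ : ℂ) • ((ψ : T → ℂ)) =
      (m ψ : ℂ) • (avgN N ((ψ : T → ℂ) * fun g => conj (ext g)) * ext) := by
    intro ψ
    by_cases h : m ψ = 0
    · rw [h, Nat.cast_zero, zero_smul, zero_smul]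
    · exact congrArg _ ((gallagher_avg N hext hN ψ.2).1 (key ψ h)).2
  have hlin : avgN N (F * fun g => conj (ext g)) =
      ∑ ψ : IrrCharacter T, (m ψ : ℂ) • avgN N ((ψ : T → ℂ) * fun g => conj (ext g)) := by
    rw [← avgN_smul_sum, hm, Finset.sum_mul]
    simp only [smul_mul_assoc]
  rw [hlin, Finset.sum_mul]
  conv_lhs => rw [hm, Finset.sum_congr rfl fun ψ _ => hG ψ]
  simp only [smul_mul_assoc]

end Homogeneous

section Ramified

variable {Γ : Type u} [Group Γ] [Fintype Γ] {G N : Subgroup Γ} [hG : G.Normal] [hN : N.Normal]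
  [Fintype G] [Fintype N]

/-- A fixed-point-free action on `G/N` spreads one `N`-coset over the `G`-coset. -/
theorem sum_coset_eq (hNG : N ≤ G) {t : Γ}
    (hfrob : ∀ g : Γ, g ∈ G → t * g * t⁻¹ * g⁻¹ ∈ N → g ∈ N) {f : Γ → ℂ}
    (hf : IsClassFunction Γ f) :
    ∑ m : G, f ((m : Γ) * t) = ((N.subgroupOf G).index : ℂ) * ∑ k : N, f ((k : Γ) * t) := by
  classical
  haveI : Fintype (G ⧸ N.subgroupOf G) := Fintype.ofFinite _
  let c : (G ⧸ N.subgroupOf G) → Γ := fun q => ((Quotient.out q : G) : Γ)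
  have hc : ∀ q, c q ∈ G := fun q => (Quotient.out q : G).2
  have hin : ∀ x : (G ⧸ N.subgroupOf G) × N, (x.2 : Γ) * (c x.1 * t * (c x.1)⁻¹ * t⁻¹) ∈ G :=
    fun x => G.mul_mem (hNG x.2.2) (by
      rw [show c x.1 * t * (c x.1)⁻¹ * t⁻¹ = c x.1 * (t * (c x.1)⁻¹ * t⁻¹) by group]
      exact G.mul_mem (hc _) (hG.conj_mem _ (G.inv_mem (hc _)) t))
  let Φ : (G ⧸ N.subgroupOf G) × N → G := fun x => ⟨_, hin x⟩
  have hinj : Function.Injective Φ := by
    rintro ⟨q, k⟩ ⟨q', k'⟩ h
    have h' : (k : Γ) * (c q * t * (c q)⁻¹ * t⁻¹) = (k' : Γ) * (c q' * t * (c q')⁻¹ * t⁻¹) :=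
      congrArg Subtype.val h
    set g := (c q')⁻¹ * c q with hg
    have hgG : g ∈ G := G.mul_mem (G.inv_mem (hc _)) (hc _)
    have hmem : t * g * t⁻¹ * g⁻¹ ∈ N := by
      have h1 : (g * t * g⁻¹ * t⁻¹) =
          (c q')⁻¹ * ((k : Γ)⁻¹ * k') * c q' := by
        have h2 : c q * t * (c q)⁻¹ * t⁻¹ = (k : Γ)⁻¹ * ((k' : Γ) * (c q' * t * (c q')⁻¹ * t⁻¹)) := by
          rw [← h', inv_mul_cancel_left]
        calc g * t * g⁻¹ * t⁻¹
            = (c q')⁻¹ * (c q * t * (c q)⁻¹ * t⁻¹) * (t * c q' * t⁻¹) := by rw [hg]; group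
          _ = _ := by rw [h2]; group
      have h3 : g * t * g⁻¹ * t⁻¹ ∈ N := by
        rw [h1]
        simpa using hN.conj_mem _ (N.mul_mem (N.inv_mem k.2) k'.2) (c q')⁻¹
      have h4 := N.inv_mem h3
      rwa [show (g * t * g⁻¹ * t⁻¹)⁻¹ = t * g * t⁻¹ * g⁻¹ by group] at h4
    have hq : q' = q := by
      rw [← QuotientGroup.out_eq' q', ← QuotientGroup.out_eq' q, QuotientGroup.eq]
      exact Subgroup.mem_subgroupOf.mpr (hfrob g hgG hmem)
    subst hq
    exact Prod.ext rfl (Subtype.ext (mul_right_cancel h'))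
  have hcard : Fintype.card ((G ⧸ N.subgroupOf G) × N) = Fintype.card G := by
    rw [Fintype.card_prod, ← Nat.card_eq_fintype_card, ← Nat.card_eq_fintype_card,
      ← Nat.card_eq_fintype_card, ← Subgroup.index_eq_card,
      ← Nat.card_congr (Subgroup.subgroupOfEquivOfLe hNG).toEquiv]
    exact Subgroup.index_mul_card _
  have hbij : Function.Bijective Φ :=
    (Fintype.bijective_iff_injective_and_card Φ).mpr ⟨hinj, hcard⟩
  rw [← Fintype.sum_bijective Φ hbij _ (fun m : G => f ((m : Γ) * t)) (fun _ => rfl),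
    Fintype.sum_prod_type]
  have hinner : ∀ q, ∑ k : N, f ((Φ (q, k) : Γ) * t) = ∑ k : N, f ((k : Γ) * t) := by
    intro q
    refine (Fintype.sum_equiv (MulAut.conjNormal (c q) : MulAut N).toEquiv _ _ fun k => ?_).symm
    show f ((k : Γ) * t) = f (((MulAut.conjNormal (c q) k : N) : Γ) * (c q * t * (c q)⁻¹ * t⁻¹) * t)
    rw [MulAut.conjNormal_apply, ← hf ((k : Γ) * t) (c q)]
    congr 1
    group
  rw [Finset.sum_congr rfl fun q _ => hinner q, Finset.sum_const, Finset.card_univ, nsmul_eq_mul,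
    Subgroup.index_eq_card, Nat.card_eq_fintype_card]

/-- The index of a Frobenius complement divides `e ± 1`. -/
theorem index_dvd_of_fullyRamified (hNG : N ≤ G) (hGlt : G ≠ ⊤)
    (hcyc : IsCyclic (Γ ⧸ G))
    (hfrob : ∀ x : Γ, x ∉ G → ∀ g : Γ, g ∈ G → x * g * x⁻¹ * g⁻¹ ∈ N → g ∈ N)
    (θ : IrrCharacter N)
    (hinv : ∀ (x : Γ) (n : N), (θ : N → ℂ) ⟨x * n * x⁻¹, hN.conj_mem n n.2 x⟩ = (θ : N → ℂ) n)
    (χ : IrrCharacter G) (e : ℕ)
    (hram : indFun (N.subgroupOf G) (fun n : N.subgroupOf G => (θ : N → ℂ) ⟨(n : G), n.2⟩) =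
      fun g => (e : ℂ) * (χ : G → ℂ) g) :
    (G.index : ℤ) ∣ (e : ℤ) - 1 ∨ (G.index : ℤ) ∣ (e : ℤ) + 1 := by
  classical
  set m := (N.subgroupOf G).index with hm
  have hcardN : Nat.card (N.subgroupOf G) = Nat.card N :=
    Nat.card_congr (Subgroup.subgroupOfEquivOfLe hNG).toEquiv
  have hGcard : Nat.card G = m * Nat.card N := by
    rw [← hcardN]; exact (Subgroup.index_mul_card _).symm
  have hm0 : (m : ℂ) ≠ 0 := Nat.cast_ne_zero.mpr Subgroup.index_ne_zero_of_finite
  have hN0 : (Nat.card N : ℂ) ≠ 0 := natCard_ne_zero_complex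
  -- values of the induced function
  have hon : ∀ n : N, (e : ℂ) * (χ : G → ℂ) ⟨n, hNG n.2⟩ = (m : ℂ) * (θ : N → ℂ) n := by
    intro n
    rw [← congrFun hram ⟨n, hNG n.2⟩, indFun_apply]
    have : ∀ x : G, extendByZero (N.subgroupOf G)
        (fun k : N.subgroupOf G => (θ : N → ℂ) ⟨(k : G), k.2⟩) (x⁻¹ * ⟨n, hNG n.2⟩ * x) =
        (θ : N → ℂ) n := by
      intro x
      have hx : (x⁻¹ * ⟨n, hNG n.2⟩ * x : G) ∈ N.subgroupOf G := by
        rw [Subgroup.mem_subgroupOf]
        simpa using hN.conj_mem _ n.2 (x : Γ)⁻¹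
      rw [extendByZero_of_mem _ _ hx]
      refine Eq.trans (congrArg _ (Subtype.ext ?_)) (hinv (x : Γ)⁻¹ n)
      simp
    rw [Finset.sum_congr rfl fun x _ => this x, Finset.sum_const, Finset.card_univ, nsmul_eq_mul,
      ← Nat.card_eq_fintype_card, hcardN, hGcard, Nat.cast_mul]
    field_simp
  have he0 : (e : ℂ) ≠ 0 := by
    intro h0
    have h := hon 1
    rw [h0, zero_mul] at h
    exact mul_ne_zero hm0 (IsIrrCharacter.apply_one_ne_zero θ.2) h.symm
  have hoff : ∀ g : G, g ∉ N.subgroupOf G → (χ : G → ℂ) g = 0 := by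
    intro g hg
    have h := congrFun hram g
    rw [indFun_eq_zero _ _ (fun x hx => hg (by
      have := (Subgroup.normal_subgroupOf (H := G) (N := N)).conj_mem _ hx x
      simpa [mul_assoc] using this))] at h
    exact (mul_eq_zero.mp h.symm).resolve_left he0
  have hnormθ := IsIrrCharacter.classInner_self θ.2
  have hnormχ := IsIrrCharacter.classInner_self χ.2
  rw [classInner, inv_mul_eq_one₀ natCard_ne_zero_complex] at hnormθ hnormχ
  have hm_eq : m = e * e := by
    have h1 : ∑ g : G, (χ : G → ℂ) g * conj ((χ : G → ℂ) g) =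
        ((m : ℂ) / e) ^ 2 * (Nat.card N : ℂ) := by
      rw [hnormθ, Finset.mul_sum]
      symm
      refine Finset.sum_bij_ne_zero (fun n _ _ => (⟨n, hNG n.2⟩ : G)) (fun _ _ _ => Finset.mem_univ _)
        (fun a _ _ b _ _ h => Subtype.ext (congrArg (fun z : G => (z : Γ)) h)) (fun g _ hg => ?_) (fun n _ _ => ?_)
      · have hgN : g ∈ N.subgroupOf G := by
          by_contra h
          rw [hoff g h, zero_mul] at hg
          exact hg rfl
        refine ⟨⟨g, hgN⟩, Finset.mem_univ _, ?_, rfl⟩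
        intro h0
        apply hg
        have h2 := hon ⟨(g : Γ), hgN⟩
        rcases mul_eq_zero.mp h0 with h3 | h3
        · exact absurd h3 (pow_ne_zero _ (div_ne_zero hm0 he0))
        · rcases mul_eq_zero.mp h3 with h4 | h4
          · rw [h4, mul_zero] at h2
            rw [(mul_eq_zero.mp h2).resolve_left he0, zero_mul]
          · rw [map_eq_zero] at h4
            rw [h4, mul_zero] at h2
            rw [(mul_eq_zero.mp h2).resolve_left he0, zero_mul]
      · have h2 : (χ : G → ℂ) ⟨n, hNG n.2⟩ = ((m : ℂ) / e) * (θ : N → ℂ) n := by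
          rw [div_mul_eq_mul_div, eq_div_iff he0, mul_comm, hon n]
        rw [h2, map_mul, map_div₀, Complex.conj_natCast, Complex.conj_natCast]
        ring
    rw [← hnormχ, hGcard, Nat.cast_mul] at h1
    field_simp at h1
    exact_mod_cast (by linear_combination (-1 : ℂ) * h1 : (m : ℂ) = e * e)
  have hres : ∀ n : N, (χ : G → ℂ) ⟨n, hNG n.2⟩ = (e : ℂ) * (θ : N → ℂ) n := fun n => by
    refine mul_left_cancel₀ he0 ?_
    rw [hon n, hm_eq, Nat.cast_mul, mul_assoc]
  -- extension to the whole group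
  have hinvχ : ∀ (x : Γ) (g : G), (χ : G → ℂ) ⟨x * g * x⁻¹, hG.conj_mem (g : Γ) g.2 x⟩ =
      (χ : G → ℂ) g := by
    intro x g
    by_cases hg : g ∈ N.subgroupOf G
    · refine (hres ⟨_, hN.conj_mem _ (Subgroup.mem_subgroupOf.mp hg) x⟩).trans ?_
      rw [hinv x ⟨g, Subgroup.mem_subgroupOf.mp hg⟩, ← hres ⟨g, Subgroup.mem_subgroupOf.mp hg⟩]
    · rw [hoff g hg, hoff _ (fun h => hg ?_)]
      rw [Subgroup.mem_subgroupOf] at h ⊢
      simpa [mul_assoc] using hN.conj_mem _ h x⁻¹
  obtain ⟨χh, hχh, hχhG⟩ := exists_irr_extension_of_cyclic hcyc χ.2 hinvχ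
  have hχhcl := IsCharacter.isClassFunction (IsIrrCharacter.isCharacter hχh)
  have hG1 : IsIrrCharacter G (fun g : G => χh g) := by
    rw [show (fun g : G => χh g) = (χ : G → ℂ) from funext hχhG]; exact χ.2
  have hcosetG : ∀ t : Γ, ∑ g : G, χh ((g : Γ) * t) * conj (χh ((g : Γ) * t)) = Nat.card G := by
    intro t
    have h := congrFun (avgN_mul_conj_self G hχh hG1) t
    simp only [avgN, Pi.mul_apply] at h
    rwa [inv_mul_eq_one₀ natCard_ne_zero_complex, eq_comm] at h
  have hcosetN : ∀ t : Γ, t ∉ G →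
      ∑ k : N, χh ((k : Γ) * t) * conj (χh ((k : Γ) * t)) = Nat.card N := by
    intro t ht
    have h := sum_coset_eq hNG (hfrob t ht) (f := fun y => χh y * conj (χh y))
      (fun g h => by simp only [hχhcl g h])
    rw [hcosetG t, hGcard, Nat.cast_mul] at h
    exact (mul_left_cancel₀ hm0 h).symm
  -- the cyclic supplement
  obtain ⟨q, hq⟩ := hcyc.exists_generator
  obtain ⟨x, rfl⟩ := QuotientGroup.mk_surjective q
  let T : Subgroup Γ := N ⊔ Subgroup.zpowers x
  have hNT : N ≤ T := le_sup_left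
  have hord : orderOf (x : Γ ⧸ G) = G.index := by
    rw [← Nat.card_zpowers, (Subgroup.eq_top_iff' _).mpr hq, Subgroup.card_top,
      Subgroup.index_eq_card]
  have hxG : x ∉ G := by
    intro h
    rw [(QuotientGroup.eq_one_iff x).mpr h, orderOf_one, eq_comm, Subgroup.index_eq_one] at hord
    exact hGlt hord
  have hzN : ∀ i : ℤ, x ^ i ∈ G → x ^ i ∈ N := fun i hi => hfrob x hxG _ hi (by
    rw [show x * x ^ i * x⁻¹ * (x ^ i)⁻¹ = 1 by group]; exact N.one_mem)
  have hTG : ∀ t : T, (t : Γ) ∈ G → (t : Γ) ∈ N := by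
    rintro ⟨t, ht⟩ htG
    obtain ⟨a, ha, b, hb, rfl⟩ := Subgroup.mem_sup_of_normal_left.mp ht
    obtain ⟨i, rfl⟩ := Subgroup.mem_zpowers_iff.mp hb
    exact N.mul_mem ha (hzN i (by simpa using G.mul_mem (G.inv_mem (hNG ha)) htG))
  let N' : Subgroup T := N.subgroupOf T
  haveI : N'.Normal := Subgroup.normal_subgroupOf
  letI : Fintype T := Fintype.ofFinite T
  letI : Fintype N' := Fintype.ofFinite N'
  haveI : Fintype (T ⧸ N') := Fintype.ofFinite _
  let xT : T := ⟨x, Subgroup.mem_sup_right (Subgroup.mem_zpowers x)⟩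
  have hgen : ∀ q : T ⧸ N', q ∈ Subgroup.zpowers (xT : T ⧸ N') := by
    intro q
    obtain ⟨⟨t, ht⟩, rfl⟩ := QuotientGroup.mk_surjective q
    obtain ⟨a, ha, b, hb, rfl⟩ := Subgroup.mem_sup_of_normal_left.mp ht
    obtain ⟨i, rfl⟩ := Subgroup.mem_zpowers_iff.mp hb
    refine Subgroup.mem_zpowers_iff.mpr ⟨i, ?_⟩
    rw [← QuotientGroup.mk_zpow, QuotientGroup.eq, Subgroup.mem_subgroupOf]
    simpa [xT, mul_assoc] using hN.conj_mem a ha (x ^ i)⁻¹
  have hQcard : Nat.card (T ⧸ N') = G.index := by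
    rw [← Subgroup.card_top, ← (Subgroup.eq_top_iff' _).mpr hgen, Nat.card_zpowers, ← hord]
    refine orderOf_eq_orderOf_iff.mpr fun i => ?_
    rw [← QuotientGroup.mk_pow, ← QuotientGroup.mk_pow, QuotientGroup.eq_one_iff,
      QuotientGroup.eq_one_iff, Subgroup.mem_subgroupOf]
    exact ⟨fun h => hNG (by simpa [xT] using h),
      fun h => by simpa [xT] using hzN i (by simpa using h)⟩
  haveI : IsCyclic (T ⧸ N') := ⟨⟨_, hgen⟩⟩
  let e' := Subgroup.subgroupOfEquivOfLe hNT
  have hθ' : IsIrrCharacter N' (fun n : N' => (θ : N → ℂ) (e' n)) :=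
    IsIrrCharacter.comp_surjective θ.2 e'.toMonoidHom e'.surjective
  obtain ⟨ext, hext, hextN⟩ := exists_irr_extension_of_cyclic (N := N') inferInstance hθ'
    (fun t n => Eq.trans (congrArg _ (Subtype.ext rfl)) (hinv (t : Γ) (e' n)))
  have hextN' : IsIrrCharacter N' (fun n : N' => ext n) := by
    rw [show (fun n : N' => ext n) = fun n : N' => (θ : N → ℂ) (e' n) from funext hextN]; exact hθ'
  let F : T → ℂ := fun t => χh t
  have hFc : IsCharacter T F := IsCharacter.restrict (IsIrrCharacter.isCharacter hχh) T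
  have hFN : ∀ n : N', F n = (e : ℂ) * ext n := fun n => by
    rw [hextN n]
    exact (hχhG ⟨((n : T) : Γ), hNG n.2⟩).trans (hres (e' n))
  set η := avgN N' (F * fun g => conj (ext g)) with hη
  have hFη : F = η * ext := eq_avgN_mul_of_homogeneous N' hFc hext hextN' _ hFN
  have hext1 : avgN N' (ext * fun g => conj (ext g)) = fun _ => 1 :=
    avgN_mul_conj_self N' hext hextN'
  have hη1 : η 1 = e := by
    have h := congrFun hFη 1
    rw [Pi.mul_apply] at h
    exact (mul_right_cancel₀ (IsIrrCharacter.apply_one_ne_zero hext)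
      ((hFN 1).symm.trans h)).symm
  have hηc : IsCharacter T η := IsCharacter.avgN N' (IsCharacter.mul hFc
    (IsCharacter.conjugate (IsIrrCharacter.isCharacter hext)))
  have hηN : ∀ n ∈ N', η n = η 1 := fun n hn => avgN_apply_coe N' _ ⟨n, hn⟩
  obtain ⟨ψ, hψ, hψη⟩ := IsCharacter.exists_quotient hηc N' hηN
  have hψval : ∀ t : T, ψ (QuotientGroup.mk' N' t) = η t := fun t => (congrFun hψη t).symm
  have habs : ∀ q : T ⧸ N', q ≠ 1 → ψ q * conj (ψ q) = 1 := by
    intro q hq
    obtain ⟨t, rfl⟩ := QuotientGroup.mk'_surjective N' q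
    have ht : (t : Γ) ∉ G := fun h => hq ((QuotientGroup.eq_one_iff t).mpr (hTG t h))
    rw [hψval]
    have h1 : avgN N' (F * fun g => conj (F g)) t = η t * conj (η t) := by
      have hc : ∀ n : N', η ((n : T) * t) = η t := fun n => avgN_apply_mul N' _ n t
      have h2 := congrFun hext1 t
      simp only [avgN, Pi.mul_apply] at h2 ⊢
      rw [show (∑ n : N', F ((n : T) * t) * conj (F ((n : T) * t))) =
        η t * conj (η t) * ∑ n : N', ext ((n : T) * t) * conj (ext ((n : T) * t)) from by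
          rw [Finset.mul_sum]
          refine Finset.sum_congr rfl fun n _ => ?_
          rw [congrFun hFη ((n : T) * t), Pi.mul_apply, hc n, map_mul]
          ring]
      rw [mul_left_comm, h2, mul_one]
    rw [← h1]
    simp only [avgN, Pi.mul_apply]
    rw [inv_mul_eq_one₀ natCard_ne_zero_complex, Nat.card_congr e'.toEquiv, ← hcosetN (t : Γ) ht]
    exact (Fintype.sum_equiv e'.toEquiv _ _ fun n => rfl).symm
  -- counting in the cyclic quotient
  haveI := Fintype.ofFinite (IrrCharacter (T ⧸ N'))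
  have hcomm : ∀ a b : T ⧸ N', a * b = b * a := fun a b =>
    (IsCyclic.isMulCommutative (α := T ⧸ N')).is_comm.comm a b
  obtain ⟨a, ha, hainner⟩ := IsCharacter.exists_nat_decomp hψ
  have hcardirr : Fintype.card (IrrCharacter (T ⧸ N')) = G.index := by
    rw [← Nat.card_eq_fintype_card, ← hQcard, card_irrCharacter]
    exact (Nat.card_eq_of_bijective (ConjClasses.mk : (T ⧸ N') → _)
      ⟨fun u v h => by
        obtain ⟨c, hc⟩ := isConj_iff.mp (ConjClasses.mk_eq_mk_iff_isConj.mp h)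
        rw [← hc, hcomm c u, mul_inv_cancel_right], ConjClasses.mk_surjective⟩).symm
  have hone : ψ 1 = e := by rw [← map_one (QuotientGroup.mk' N'), hψval, hη1]
  have hsum : ((∑ i, a i : ℕ) : ℂ) = (e : ℂ) := by
    rw [← hone, ha, Finset.sum_apply, Nat.cast_sum]
    exact Finset.sum_congr rfl fun i _ => by
      rw [Pi.smul_apply, smul_eq_mul, IsIrrCharacter.apply_one_of_comm hcomm i.2, mul_one]
  have hsq : (G.index : ℂ) * ((∑ i, a i ^ 2 : ℕ) : ℂ) = (e : ℂ) ^ 2 + ((G.index : ℂ) - 1) := by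
    have h1 : classInner ψ ψ = ((∑ i, a i ^ 2 : ℕ) : ℂ) := by
      rw [classInner_eq_sum_irr (IsCharacter.isClassFunction hψ) (IsCharacter.isClassFunction hψ),
        Nat.cast_sum]
      refine Finset.sum_congr rfl fun i _ => ?_
      rw [hainner i, map_natCast]
      push_cast
      ring
    rw [← h1, classInner, hQcard, mul_inv_cancel_left₀ (Nat.cast_ne_zero.mpr Subgroup.index_ne_zero_of_finite),
      ← Finset.sum_erase_add _ _ (Finset.mem_univ (1 : T ⧸ N')), hone,
      Finset.sum_congr rfl fun q hq => habs q (Finset.ne_of_mem_erase hq), Finset.sum_const,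
      Finset.card_erase_of_mem (Finset.mem_univ _), Finset.card_univ, ← Nat.card_eq_fintype_card,
      hQcard, nsmul_eq_mul, mul_one, Nat.cast_sub (Nat.one_le_iff_ne_zero.mpr
        Subgroup.index_ne_zero_of_finite), Complex.conj_natCast]
    push_cast
    ring
  refine dvd_sub_or_add_of_sum_sq (fun i => (a i : ℤ)) _ _ ?_ (by exact_mod_cast hcardirr)
    (by exact_mod_cast hsum) ?_
  · have h1 := Subgroup.one_lt_index_of_ne_top hGlt
    omega
  · have h2 : (((G.index : ℤ) * ∑ i, (a i : ℤ) ^ 2 : ℤ) : ℂ) =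
        (((e : ℤ) ^ 2 + ((G.index : ℤ) - 1) : ℤ) : ℂ) := by
      push_cast at hsq ⊢
      exact hsq
    exact_mod_cast h2

end Ramified

end Cfsg.Agent.Lib.CharMisc
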