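import Cfsg.Agent.Lib.Characters.Clifford
import Cfsg.Agent.Lib.OddChar.GaloisConj

/-!
# Galois fixed characters and their constituents
-/

set_option autoImplicit false
set_option linter.unusedSectionVars false
set_option linter.style.haveILetI false

namespace Cfsg.Agent.Lib.CharMisc

open Cfsg Cfsg.Agent.Lib.Characters

universe u

variable {G : Type u} [Group G] [Fintype G]

theorem constituent_galois_fixed {p : ℕ} [hp : Fact p.Prime] (N : Subgroup G) [N.Normal] [Fintype N]
    (hidx : ¬ p ∣ N.index) (k e : ℕ) (hk : Nat.Coprime k (Nat.card G))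
    (hke : k ^ (p ^ e) ≡ 1 [MOD Nat.card G]) {χ : G → ℂ} (hχ : IsIrrCharacter G χ)
    (hfix : ∀ g, χ (g ^ k) = χ g) {θ : N → ℂ} (hθ : IsIrrCharacter N θ)
    (hcθ : classInner (fun n : N => χ n) θ ≠ 0) : ∀ n : N, θ (n ^ k) = θ n := by
  have hkN : Nat.Coprime k (Nat.card N) := hk.coprime_dvd_right (Subgroup.card_subgroup_dvd_card N)
  set θ' : N → ℂ := fun n => θ (n ^ k) with hθ'
  have hirr : IsIrrCharacter N θ' := OddChar.isIrrCharacter_comp_pow hkN hθ
  have hc : classInner (fun n : N => χ n) θ' ≠ 0 := by
    have : classInner (fun n : N => χ n) θ' = classInner (fun n : N => χ n) θ := by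
      have hbij : Function.Bijective fun n : N => n ^ k := (powCoprime (G := N) hkN.symm).bijective
      simp only [classInner, hθ']
      congr 1
      refine Fintype.sum_equiv (Equiv.ofBijective _ hbij) _ _ fun n => ?_
      simp [hfix]
    rwa [this]
  obtain ⟨g, hg⟩ := exists_conjFun_eq N hχ hθ hirr hcθ hc
  -- `g` normalises the inertia group
  set I := inertia N θ with hI
  have hI' : inertia N θ' = I := by
    ext x
    rw [hI, mem_inertia_iff, mem_inertia_iff]
    have hsurj : Function.Surjective fun n : N => n ^ k := (powCoprime (G := N) hkN.symm).surjective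
    have hcomm : ∀ n : N, conjFun N x θ' n = conjFun N x θ (n ^ k) := fun n => by
      refine congrArg θ (Subtype.ext ?_)
      simp [conj_pow]
    constructor
    · intro h
      funext m
      obtain ⟨n, rfl⟩ := hsurj m
      rw [← hcomm, h]
    · intro h
      funext n
      rw [hcomm, h]
  have hgN : g ∈ Subgroup.normalizer (I : Set G) := by
    rw [Subgroup.mem_normalizer_iff]
    intro x
    conv_rhs => rw [hI, mem_inertia_iff]
    rw [← hI', mem_inertia_iff, ← hg]
    constructor
    · intro h
      rw [conjFun_mul, conjFun_mul]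
      have h2 : conjFun N x (conjFun N g θ) = conjFun N g θ := h
      rw [h2, conjFun_inv_cancel]
    · intro h
      have h2 := congrArg (conjFun N g) h
      rw [conjFun_mul, conjFun_mul, ← conjFun_mul N g⁻¹ g, inv_mul_cancel, conjFun_one] at h2
      exact h2
  have hiter : ∀ m : ℕ, conjFun N (g ^ m) θ = fun n => θ (n ^ k ^ m) := by
    intro m
    induction m with
    | zero => simp [conjFun_one]
    | succ m ih =>
      rw [pow_succ', conjFun_mul, hg]
      funext n
      show θ' _ = _
      have : conjFun N (g ^ m) θ (n ^ k) = θ ((n ^ k) ^ k ^ m) := congrFun ih (n ^ k)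
      rw [pow_succ', pow_mul, ← this]
      exact congrArg θ (Subtype.ext (by simp [conj_pow]))
  have hgp : g ^ p ^ e ∈ I := by
    rw [hI, mem_inertia_iff, hiter]
    funext n
    congr 1
    have h1 : k ^ p ^ e ≡ 1 [MOD orderOf n] :=
      Nat.ModEq.of_dvd ((orderOf_dvd_natCard n).trans (Subgroup.card_subgroup_dvd_card N)) hke
    exact (pow_eq_pow_iff_modEq.2 h1).trans (pow_one n)
  -- the quotient of the normalizer has order prime to `p`
  set J := I.subgroupOf (Subgroup.normalizer (I : Set G)) with hJ
  haveI : J.Normal := Subgroup.normal_in_normalizer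
  have hJidx : ¬ p ∣ J.index := by
    intro h
    refine hidx (h.trans ?_)
    refine dvd_trans ?_ (Subgroup.index_dvd_of_le
      (le_inertia N (IsCharacter.isClassFunction (IsIrrCharacter.isCharacter hθ))))
    exact Subgroup.relIndex_dvd_index_of_le Subgroup.le_normalizer
  let q : Subgroup.normalizer (I : Set G) := ⟨g, hgN⟩
  have hq : q ^ p ^ e ∈ J := by
    rw [hJ, Subgroup.mem_subgroupOf]
    exact hgp
  have h1 : orderOf (QuotientGroup.mk q : _ ⧸ J) ∣ p ^ e := by
    refine orderOf_dvd_of_pow_eq_one ?_
    rw [← QuotientGroup.mk_pow]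
    exact (QuotientGroup.eq_one_iff _).2 hq
  have h2 : orderOf (QuotientGroup.mk q : _ ⧸ J) ∣ J.index := by
    rw [Subgroup.index_eq_card]; exact orderOf_dvd_natCard _
  have hgI : g ∈ I := by
    have h3 : (QuotientGroup.mk q : _ ⧸ J) = 1 := orderOf_eq_one_iff.1 (Nat.eq_one_of_dvd_coprimes
      (Nat.Coprime.pow_left e ((Nat.Prime.coprime_iff_not_dvd hp.out).2 hJidx)) h1 h2)
    exact Subgroup.mem_subgroupOf.1 ((QuotientGroup.eq_one_iff _).1 h3)
  intro n
  exact congrFun (hg.symm.trans ((mem_inertia_iff N).1 hgI)) n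

end Cfsg.Agent.Lib.CharMisc
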