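import Cfsg.Agent.Lib.CharMisc.PairingClosed
import Cfsg.Agent.Lib.Characters.FrobeniusSchur
import Cfsg.Agent.Lib.Characters.Ito
import Cfsg.Agent.Lib.Characters.Clifford
import Cfsg.Agent.Lib.Characters.RelativeM
import Mathlib.LinearAlgebra.PID
import Mathlib.GroupTheory.Nilpotent

/-!
# Faithful characters whose product with a Galois conjugate is irreducible
-/

set_option autoImplicit false
set_option linter.unusedSectionVars false
set_option linter.style.haveILetI false
set_option maxHeartbeats 1600000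

namespace Cfsg.Agent.Lib.CharMisc

open Cfsg Cfsg.Agent.Lib.Characters Matrix
open scoped ComplexConjugate

universe u v

variable {G : Type u} [Group G]

/-- An equivariant idempotent cuts out a character. -/
theorem isCharacter_trace_comp_idem {V : Type v} [AddCommGroup V] [Module ℂ V]
    [FiniteDimensional ℂ V] (ρ : Representation ℂ G V) (f : V →ₗ[ℂ] V)
    (hidem : ∀ x, f (f x) = f x) (hcomm : ∀ g x, f (ρ g x) = ρ g (f x)) :
    IsCharacter G (fun g => LinearMap.trace ℂ V ((ρ g).comp f)) := by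
  let S : Subrepresentation ρ := ⟨LinearMap.range f, fun g x hx => by
    obtain ⟨y, rfl⟩ := hx
    exact ⟨ρ g y, hcomm g y⟩⟩
  have : (fun g => LinearMap.trace ℂ V ((ρ g).comp f)) = S.toRepresentation.character := by
    funext g
    have hf : ∀ x, (ρ g).comp f x ∈ LinearMap.range f := fun x => ⟨ρ g x, hcomm g x⟩
    rw [← LinearMap.trace_restrict_eq_of_forall_mem (LinearMap.range f) _ hf]
    show _ = LinearMap.trace ℂ _ (S.toRepresentation g)
    congr 1
    ext x
    obtain ⟨y, hy⟩ := x.2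
    show ρ g (f x.1) = ρ g x.1
    rw [← hy, hidem]
  rw [this]
  exact isCharacter_of_rep _

theorem isCharacter_comp_pow [Fintype G] {φ : G → ℂ} (hφ : IsCharacter G φ) {k : ℕ}
    (hk : Nat.Coprime k (Nat.card G)) : IsCharacter G (fun g => φ (g ^ k)) := by
  haveI := Fintype.ofFinite (IrrCharacter G)
  obtain ⟨m, hm, -⟩ := IsCharacter.exists_nat_decomp hφ
  have : (fun g => φ (g ^ k)) = ∑ χ : IrrCharacter G, (m χ : ℂ) • (powIrr hk χ : G → ℂ) := by
    funext g
    rw [hm, Finset.sum_apply, Finset.sum_apply]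
    rfl
  rw [this]
  exact IsCharacter.sum _ fun χ _ => IsCharacter.natCast_smul (irr_isCharacter _) _

variable [Fintype G]

/-- Conjugation on matrices through a matrix representation. -/
noncomputable def conjRep {n : ℕ} (A : G →* Matrix (Fin n) (Fin n) ℂ) :
    Representation ℂ G (Matrix (Fin n) (Fin n) ℂ) where
  toFun g :=
    { toFun := fun X => A g * X * A g⁻¹
      map_add' := fun X Y => by rw [Matrix.mul_add, Matrix.add_mul]
      map_smul' := fun c X => by simp [Matrix.mul_smul, Matrix.smul_mul] }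
  map_one' := LinearMap.ext fun X => by simp
  map_mul' g h := LinearMap.ext fun X => by
    show A (g * h) * X * A (g * h)⁻¹ = A g * (A h * X * A h⁻¹) * A g⁻¹
    rw [_root_.mul_inv_rev, map_mul, map_mul]
    simp only [Matrix.mul_assoc]

theorem conjRep_apply {n : ℕ} (A : G →* Matrix (Fin n) (Fin n) ℂ) (g : G)
    (X : Matrix (Fin n) (Fin n) ℂ) : conjRep A g X = A g * X * A g⁻¹ := rfl

theorem trace_conjRep {n : ℕ} (A : G →* Matrix (Fin n) (Fin n) ℂ) (g : G) :
    LinearMap.trace ℂ _ (conjRep A g) = (A g).trace * (A g⁻¹).trace := by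
  rw [trace_matrix_endo, Matrix.trace, Matrix.trace, Finset.sum_mul_sum]
  refine Finset.sum_congr rfl fun i _ => Finset.sum_congr rfl fun j _ => ?_
  rw [conjRep_apply]
  simp [Matrix.mul_apply, Matrix.single, Matrix.diag, ite_and]

theorem trace_single_mul {n : ℕ} (i j : Fin n) (B : Matrix (Fin n) (Fin n) ℂ) :
    (Matrix.single i j 1 * B).trace = B j i := by
  simp [Matrix.trace, Matrix.mul_apply, Matrix.single, ite_and]

/-- The trace of a rank-one map followed by conjugation. -/
theorem trace_conjRep_comp {n : ℕ} (A : G →* Matrix (Fin n) (Fin n) ℂ) (g : G) {ι : Type u}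
    [Fintype ι] (c : ℂ) (B C : ι → Matrix (Fin n) (Fin n) ℂ)
    (P : Matrix (Fin n) (Fin n) ℂ →ₗ[ℂ] Matrix (Fin n) (Fin n) ℂ)
    (hP : ∀ X, P X = c • ∑ h, (X * B h).trace • C h) :
    LinearMap.trace ℂ _ ((conjRep A g).comp P) =
      c * ∑ h, (B h * (A g * C h * A g⁻¹)).trace := by
  have h1 : ∀ i j : Fin n, ((conjRep A g).comp P) (Matrix.single i j 1) i j =
      c * ∑ h, B h j i * (A g * C h * A g⁻¹) i j := by
    intro i j
    rw [LinearMap.comp_apply, hP, map_smul, map_sum, Matrix.smul_apply, Matrix.sum_apply,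
      smul_eq_mul]
    congr 1
    refine Finset.sum_congr rfl fun h _ => ?_
    rw [map_smul, Matrix.smul_apply, smul_eq_mul, trace_single_mul, conjRep_apply]
  rw [trace_matrix_endo]
  simp only [h1, ← Finset.mul_sum]
  congr 1
  rw [Finset.sum_comm]
  rw [Finset.sum_congr rfl fun j _ => Finset.sum_comm, Finset.sum_comm]
  refine Finset.sum_congr rfl fun h _ => ?_
  simp only [Matrix.trace, Matrix.diag_apply, Matrix.mul_apply (M := B h)]

/-- A normal subgroup on which a faithful character vanishes outside the centre is central if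
the product with a Galois conjugate is irreducible. -/
theorem le_center_of_vanish (χ : IrrCharacter G)
    (hfaith : ∀ g : G, (χ : G → ℂ) g = (χ : G → ℂ) 1 → g = 1) {k : ℕ}
    (hk : Nat.Coprime k (Nat.card G))
    (hirr : IsIrrCharacter G (fun g => (χ : G → ℂ) g * (χ : G → ℂ) (g ^ k)))
    (H : Subgroup G) [hH : H.Normal]
    (hvan : ∀ x ∈ H, x ∉ Subgroup.center G → (χ : G → ℂ) x = 0) : H ≤ Subgroup.center G := by
  classical
  by_contra hle
  obtain ⟨n, ρ, hρ, hρχ⟩ := χ.2
  haveI := hρ
  set Z := Subgroup.center G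
  let A : G →* Matrix (Fin n) (Fin n) ℂ :=
    { toFun := fun g => LinearMap.toMatrix' (ρ g)
      map_one' := by rw [map_one]; exact LinearMap.toMatrix'_id
      map_mul' := fun g h => by rw [map_mul]; exact LinearMap.toMatrix'_comp _ _ }
  have hA : ∀ g, (χ : G → ℂ) g = (A g).trace := fun g => by
    rw [← hρχ]
    exact LinearMap.trace_eq_matrix_trace ℂ (Pi.basisFun ℂ (Fin n)) (ρ g)
  have hscal : ∀ z : Z, ∃ c : ℂ, A (z : G) = c • (1 : Matrix (Fin n) (Fin n) ℂ) := by
    intro z
    obtain ⟨c, hc⟩ := exists_smul_of_commute ρ (ρ (z : G)) fun g => by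
      rw [← map_mul, ← map_mul, Subgroup.mem_center_iff.mp z.2 g]
    refine ⟨c, ?_⟩
    show LinearMap.toMatrix' (ρ (z : G)) = _
    rw [hc, map_smul, LinearMap.toMatrix'_id]
  choose s hs using hscal
  have hn : (n : ℂ) = (χ : G → ℂ) 1 := by simp [hA]
  have hn0 : (n : ℂ) ≠ 0 := hn ▸ IsIrrCharacter.apply_one_ne_zero χ.2
  have hmul : ∀ (z : Z) (x : G), (χ : G → ℂ) ((z : G) * x) = s z * (χ : G → ℂ) x := fun z x => by
    rw [hA, hA, map_mul, hs, smul_mul_assoc, one_mul, Matrix.trace_smul, smul_eq_mul]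
  have hsval : ∀ z : Z, (χ : G → ℂ) (z : G) = s z * n := fun z => by
    rw [hn, ← hmul, mul_one]
  have hs_one : ∀ z : Z, s z = 1 → z = 1 := fun z h => Subtype.ext (hfaith _ (by
    rw [hsval z, h, one_mul, hn]))
  have hs_mul : ∀ z w : Z, s (z * w) = s z * s w := fun z w => by
    apply mul_right_cancel₀ hn0
    rw [← hsval, mul_assoc, ← hsval, Subgroup.coe_mul, hmul]
  -- the projection onto the span of `A '' H`
  let ZH : Subgroup G := H ⊓ Z
  set C := Nat.card ZH with hC
  have hC0 : (C : ℂ) ≠ 0 := Nat.cast_ne_zero.mpr Nat.card_pos.ne'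
  haveI : Fintype H := Fintype.ofFinite H
  let π := conjRep A
  let P : Matrix (Fin n) (Fin n) ℂ →ₗ[ℂ] Matrix (Fin n) (Fin n) ℂ :=
    { toFun := fun X => ((n : ℂ) * C)⁻¹ • ∑ h : H, (X * A (h : G)⁻¹).trace • A (h : G)
      map_add' := fun X Y => by
        simp [Matrix.add_mul, Matrix.trace_add, add_smul, Finset.sum_add_distrib, smul_add]
      map_smul' := fun c X => by
        simp only [RingHom.id_apply, Matrix.smul_mul, Matrix.trace_smul, smul_assoc,
          ← Finset.smul_sum]
        rw [smul_comm] }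
  have hPA : ∀ h₀ : H, P (A (h₀ : G)) = A (h₀ : G) := by
    intro h₀
    show ((n : ℂ) * C)⁻¹ • ∑ h : H, (A (h₀ : G) * A (h : G)⁻¹).trace • A (h : G) = A (h₀ : G)
    have : ∀ h : H, (A (h₀ : G) * A (h : G)⁻¹).trace • A (h : G) =
        if (h₀ : G) * (h : G)⁻¹ ∈ Z then (n : ℂ) • A (h₀ : G) else 0 := by
      intro h
      rw [← map_mul, ← hA]
      split_ifs with hz
      · conv_rhs => rw [show (h₀ : G) = (⟨_, hz⟩ : Z) * (h : G) from (inv_mul_cancel_right _ _).symm,
          map_mul, hs, smul_mul_assoc, one_mul, smul_smul]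
        rw [show (χ : G → ℂ) ((h₀ : G) * (h : G)⁻¹) = _ from hsval ⟨_, hz⟩, mul_comm]
      · rw [hvan _ (H.mul_mem h₀.2 (H.inv_mem h.2)) hz, zero_smul]
    rw [Finset.sum_congr rfl fun h _ => this h, ← Finset.sum_filter, Finset.sum_const,
      show (Finset.univ.filter fun h : H => (h₀ : G) * (h : G)⁻¹ ∈ Z).card = C from ?_,
      ← Nat.cast_smul_eq_nsmul ℂ C, smul_smul, smul_smul, mul_assoc, mul_comm (C : ℂ) (n : ℂ),
      inv_mul_cancel₀ (mul_ne_zero hn0 hC0), one_smul]
    rw [← Fintype.card_subtype, ← Nat.card_eq_fintype_card, hC]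
    refine Nat.card_congr ⟨fun h => ⟨(h₀ : G) * (h.1 : G)⁻¹, H.mul_mem h₀.2 (H.inv_mem h.1.2), h.2⟩,
      fun z => ⟨⟨(z : G)⁻¹ * h₀, H.mul_mem (H.inv_mem z.2.1) h₀.2⟩,
        by simp only [_root_.mul_inv_rev, inv_inv, mul_inv_cancel_left]; exact z.2.2⟩, fun h => ?_, fun z => ?_⟩
    · apply Subtype.ext; apply Subtype.ext; simp
    · apply Subtype.ext; simp
  have hidem : ∀ X, P (P X) = P X := fun X => by
    conv_lhs => rw [show P X = ((n : ℂ) * C)⁻¹ • ∑ h : H, (X * A (h : G)⁻¹).trace • A (h : G) from rfl]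
    rw [map_smul, map_sum]
    show _ = ((n : ℂ) * C)⁻¹ • ∑ h : H, (X * A (h : G)⁻¹).trace • A (h : G)
    congr 1
    exact Finset.sum_congr rfl fun h _ => by rw [map_smul, hPA]
  have hcomm : ∀ g X, P (π g X) = π g (P X) := by
    intro g X
    show ((n : ℂ) * C)⁻¹ • ∑ h : H, (A g * X * A g⁻¹ * A (h : G)⁻¹).trace • A (h : G) =
      A g * (((n : ℂ) * C)⁻¹ • ∑ h : H, (X * A (h : G)⁻¹).trace • A (h : G)) * A g⁻¹
    rw [Matrix.mul_smul, Matrix.smul_mul, Finset.mul_sum, Finset.sum_mul]
    congr 1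
    refine (Fintype.sum_equiv (MulAut.conjNormal g : MulAut H).toEquiv _ _ fun h => ?_).symm
    show A g * ((X * A (h : G)⁻¹).trace • A (h : G)) * A g⁻¹ =
      (A g * X * A g⁻¹ * A ((MulAut.conjNormal g h : H) : G)⁻¹).trace •
        A ((MulAut.conjNormal g h : H) : G)
    rw [Matrix.mul_smul, Matrix.smul_mul, MulAut.conjNormal_apply, ← map_mul, ← map_mul]
    congr 1
    rw [show A g * X * A g⁻¹ * A (g * (h : G) * g⁻¹)⁻¹ = A g * (X * A (h : G)⁻¹ * A g⁻¹) by
      rw [Matrix.mul_assoc (A g * X), ← map_mul, Matrix.mul_assoc X, ← map_mul, Matrix.mul_assoc]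
      congr 3
      group,
      Matrix.trace_mul_comm (A g), Matrix.mul_assoc _ (A g⁻¹), ← map_mul, inv_mul_cancel, map_one,
      Matrix.mul_one]
  let m : G → ℂ := fun g => LinearMap.trace ℂ _ ((π g).comp P)
  let r : G → ℂ := fun g => LinearMap.trace ℂ _ ((π g).comp (LinearMap.id - P))
  have hmC : IsCharacter G m := isCharacter_trace_comp_idem π P hidem hcomm
  have hrC : IsCharacter G r := isCharacter_trace_comp_idem π _
    (fun X => by simp [hidem]) (fun g X => by simp [hcomm])
  have hsum : ∀ g, m g + r g = (χ : G → ℂ) g * conj ((χ : G → ℂ) g) := by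
    intro g
    have h1 : m g + r g = LinearMap.trace ℂ _ (π g) := by
      simp only [m, r, ← map_add, ← LinearMap.comp_add, add_sub_cancel, LinearMap.comp_id]
    rw [h1, ← IsCharacter.apply_inv (irr_isCharacter χ), hA, hA]
    exact trace_conjRep A g
  -- the values of `m`
  have hmval : ∀ g, m g = ((n : ℂ) * C)⁻¹ * ∑ h : H, (χ : G → ℂ) (g * h * g⁻¹ * (h : G)⁻¹) := by
    intro g
    refine (trace_conjRep_comp A g ((n : ℂ) * C)⁻¹ (fun h : H => A (h : G)⁻¹)
      (fun h : H => A (h : G)) P fun X => rfl).trans ?_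
    congr 1
    refine Finset.sum_congr rfl fun h _ => ?_
    rw [Matrix.trace_mul_comm, ← map_mul, ← map_mul, ← map_mul, ← hA]
  let K : G → Subgroup G := fun g =>
    H ⊓ (Subgroup.centralizer ({QuotientGroup.mk' Z g} : Set (G ⧸ Z))).comap (QuotientGroup.mk' Z)
  have hK : ∀ g (h : G), h ∈ K g ↔ h ∈ H ∧ g * h * g⁻¹ * h⁻¹ ∈ Z := by
    intro g h
    show (h ∈ H ∧ QuotientGroup.mk' Z h ∈ Subgroup.centralizer _) ↔ _
    rw [Subgroup.mem_centralizer_singleton_iff]
    refine and_congr_right fun _ => ?_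
    rw [← QuotientGroup.eq_one_iff (N := Z), QuotientGroup.mk'_apply, QuotientGroup.mk'_apply,
      QuotientGroup.mk_mul, QuotientGroup.mk_mul, QuotientGroup.mk_mul, QuotientGroup.mk_inv,
      QuotientGroup.mk_inv, mul_inv_eq_one, mul_inv_eq_iff_eq_mul]
    exact eq_comm
  let triv : G → Prop := fun g => ∀ h ∈ K g, g * h = h * g
  have hm2 : ∀ g, m g = (C : ℂ)⁻¹ * (if triv g then (Nat.card (K g) : ℂ) else 0) := by
    intro g
    haveI : Fintype (K g) := Fintype.ofFinite _
    let f : K g → ℂ := fun h => s ⟨g * h * g⁻¹ * (h : G)⁻¹, ((hK g h).mp h.2).2⟩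
    have hf : ∀ a b : K g, f (a * b) = f a * f b := by
      intro a b
      simp only [f, ← hs_mul]
      congr 1
      apply Subtype.ext
      have hzc := Subgroup.mem_center_iff.mp ((hK g b).mp b.2).2
      simp only [Subgroup.coe_mul, _root_.mul_inv_rev]
      calc g * ((a : G) * b) * g⁻¹ * ((b : G)⁻¹ * (a : G)⁻¹)
          = g * a * g⁻¹ * ((g * b * g⁻¹ * (b : G)⁻¹) * (a : G)⁻¹) := by group
        _ = g * a * g⁻¹ * ((a : G)⁻¹ * (g * b * g⁻¹ * (b : G)⁻¹)) := by rw [hzc (a : G)⁻¹]
        _ = _ := by group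
    have hsumf : ∑ h : K g, f h = if triv g then (Nat.card (K g) : ℂ) else 0 := by
      split_ifs with ht
      · rw [Finset.sum_congr rfl fun h _ => show f h = 1 from ?_, Finset.sum_const, Finset.card_univ,
          Nat.card_eq_fintype_card, nsmul_eq_mul, mul_one]
        simp only [f]
        have h1 : (⟨g * h * g⁻¹ * (h : G)⁻¹, ((hK g h).mp h.2).2⟩ : Z) = 1 := Subtype.ext (by
          show g * (h : G) * g⁻¹ * (h : G)⁻¹ = 1
          rw [ht h h.2]; group)
        rw [h1]
        exact mul_right_cancel₀ hn0 (by rw [← hsval, one_mul, hn]; rfl)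
      · simp only [triv] at ht
        push Not at ht
        obtain ⟨a, ha, hne⟩ := ht
        have hfa : f ⟨a, ha⟩ ≠ 1 := fun h => hne (by
          have := congrArg Subtype.val (hs_one _ h)
          exact mul_inv_eq_iff_eq_mul.mp (mul_inv_eq_one.mp this))
        have heq : f ⟨a, ha⟩ * ∑ h : K g, f h = ∑ h : K g, f h := by
          rw [Finset.mul_sum]
          exact Fintype.sum_equiv (Equiv.mulLeft (⟨a, ha⟩ : K g)) _ _ fun h => (hf _ h).symm
        exact (mul_eq_zero.mp (show (f ⟨a, ha⟩ - 1) * _ = 0 by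
          rw [sub_mul, one_mul, heq, sub_self])).resolve_left (sub_ne_zero.mpr hfa)
    have hbig : ∑ h : H, (χ : G → ℂ) (g * h * g⁻¹ * (h : G)⁻¹) = (n : ℂ) * ∑ h : K g, f h := by
      rw [Finset.mul_sum]
      symm
      refine Finset.sum_bij_ne_zero (fun h _ _ => (⟨h, ((hK g h).mp h.2).1⟩ : H))
        (fun _ _ _ => Finset.mem_univ _)
        (fun a _ _ b _ _ h => Subtype.ext (congrArg (fun z : H => (z : G)) h)) (fun h _ hne => ?_)
        (fun h _ _ => ?_)
      · have hz : g * (h : G) * g⁻¹ * (h : G)⁻¹ ∈ Z := by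
          by_contra hz
          exact hne (hvan _ (H.mul_mem (hH.conj_mem _ h.2 g) (H.inv_mem h.2)) hz)
        refine ⟨⟨h, (hK g h).mpr ⟨h.2, hz⟩⟩, Finset.mem_univ _, ?_, rfl⟩
        show (n : ℂ) * s _ ≠ 0
        rw [mul_comm, ← hsval]
        exact hne
      · show (n : ℂ) * s _ = _
        rw [mul_comm, ← hsval]
    rw [hmval, hbig, hsumf, mul_inv, mul_comm (n : ℂ)⁻¹, mul_assoc, inv_mul_cancel_left₀ hn0]
  have hmk : ∀ g, m (g ^ k) = m g := by
    intro g
    obtain ⟨j, hj⟩ := exists_pow_eq_self_of_coprime (x := g) (n := k)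
      (hk.coprime_dvd_right (orderOf_dvd_natCard g))
    have hKeq : K (g ^ k) = K g := by
      ext h
      show (h ∈ H ∧ _ ∈ Subgroup.centralizer _) ↔ (h ∈ H ∧ _ ∈ Subgroup.centralizer _)
      refine and_congr_right fun _ => ?_
      rw [Subgroup.mem_centralizer_singleton_iff, Subgroup.mem_centralizer_singleton_iff,
        map_pow]
      refine ⟨fun h1 => ?_, fun h1 => (Commute.pow_right h1 k).eq⟩
      have h2 := (Commute.pow_right (show Commute _ _ from h1) j).eq
      rwa [← map_pow, ← map_pow, hj] at h2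
    have htriv : triv (g ^ k) ↔ triv g := by
      simp only [triv, hKeq]
      refine forall₂_congr fun h _ => ⟨fun h1 => ?_, fun h1 => (Commute.pow_left h1 k).eq⟩
      have := (Commute.pow_left (show Commute _ _ from h1) j).eq
      rwa [hj] at this
    rw [hm2, hm2]
    by_cases h : triv g
    · rw [if_pos h, if_pos (htriv.mpr h), hKeq]
    · rw [if_neg h, if_neg (mt htriv.mp h)]
  have hmreal : ∀ g, conj (m g) = m g := fun g => by
    rw [hm2, map_mul, map_inv₀, map_natCast]
    split_ifs <;> simp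
  -- counting
  have hrk : IsCharacter G (fun g => r (g ^ k)) := isCharacter_comp_pow hrC hk
  have hX := IsIrrCharacter.classInner_self hirr
  have hexp : classInner m m + classInner m (fun g => r (g ^ k)) + classInner r m +
      classInner r (fun g => r (g ^ k)) = 1 := by
    rw [← hX]
    simp only [classInner, ← mul_add, ← Finset.sum_add_distrib]
    congr 1
    refine Finset.sum_congr rfl fun g _ => ?_
    have h1 := hsum g
    have h2 := hsum (g ^ k)
    rw [hmk g] at h2
    have h3 := congrArg (starRingEnd ℂ) h2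
    simp only [map_add, hmreal, map_mul, Complex.conj_conj] at h3
    simp only [hmreal, map_mul]
    linear_combination (m g + conj (r (g ^ k))) * h1 +
      ((χ : G → ℂ) g * conj ((χ : G → ℂ) g)) * h3
  obtain ⟨a, ha⟩ := IsCharacter.exists_classInner_nat hmC hmC
  obtain ⟨b, hb⟩ := IsCharacter.exists_classInner_nat hmC hrk
  obtain ⟨c', hc'⟩ := IsCharacter.exists_classInner_nat hrC hmC
  obtain ⟨d, hd⟩ := IsCharacter.exists_classInner_nat hrC hrk
  rw [ha, hb, hc', hd] at hexp
  have hle' : a + b + c' + d = 1 := by exact_mod_cast hexp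
  have hH1 : C < Nat.card H := by
    rw [hC]
    refine lt_of_le_of_ne (Nat.le_of_dvd Nat.card_pos (Subgroup.card_dvd_of_le inf_le_left)) ?_
    intro h
    have h2 : ZH = H := Subgroup.eq_of_le_of_card_ge inf_le_left h.ge
    exact hle (h2 ▸ inf_le_right)
  have hK1 : K 1 = H := le_antisymm inf_le_left fun h hh => (hK 1 h).mpr ⟨hh, by simp [Z.one_mem]⟩
  have hm1 : m 1 = (C : ℂ)⁻¹ * Nat.card H := by
    rw [hm2, if_pos (fun h _ => by rw [one_mul, mul_one]), hK1]
  have htrivc : classInner m (fun _ => 1) ≠ 0 := by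
    simp only [classInner, map_one, mul_one]
    refine mul_ne_zero (inv_ne_zero natCard_ne_zero_complex) ?_
    simp only [hm2, ← Finset.mul_sum]
    refine mul_ne_zero (inv_ne_zero hC0) ?_
    have : ∀ g : G, (if triv g then (Nat.card (K g) : ℂ) else 0) =
        ((if triv g then Nat.card (K g) else 0 : ℕ) : ℂ) := fun g => by split_ifs <;> simp
    simp only [this, ← Nat.cast_sum, Nat.cast_ne_zero]
    intro h0
    have := Finset.sum_eq_zero_iff.mp h0 1 (Finset.mem_univ _)
    rw [if_pos (fun h _ => by rw [one_mul, mul_one]), hK1] at this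
    exact Nat.card_pos.ne' this
  have ha1 : a = 1 := by
    rcases Nat.lt_or_ge a 1 with h | h
    · exact absurd (classInner_self_eq_zero (by rw [ha, Nat.lt_one_iff.mp h, Nat.cast_zero]))
        fun h0 => htrivc (by rw [h0, classInner_zero_left])
    · omega
  have hmirr : IsIrrCharacter G m := (IsCharacter.isIrr_iff hmC).mpr (by rw [ha, ha1, Nat.cast_one])
  have hmtriv : m = fun _ => 1 := by
    by_contra h
    exact htrivc (IsIrrCharacter.classInner_ne hmirr isIrrCharacter_one h)
  rw [congrFun hmtriv 1, eq_comm, inv_mul_eq_one₀ hC0, Nat.cast_inj] at hm1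
  omega

/-- An abelian normal subgroup is central. -/
theorem le_center_of_comm (χ : IrrCharacter G)
    (hfaith : ∀ g : G, (χ : G → ℂ) g = (χ : G → ℂ) 1 → g = 1) {k : ℕ}
    (hk : Nat.Coprime k (Nat.card G))
    (hirr : IsIrrCharacter G (fun g => (χ : G → ℂ) g * (χ : G → ℂ) (g ^ k)))
    (N : Subgroup G) [hN : N.Normal] (hab : ∀ a ∈ N, ∀ b ∈ N, a * b = b * a) :
    N ≤ Subgroup.center G := by
  classical
  haveI : Fintype N := Fintype.ofFinite N
  have hχc := irr_isCharacter χ
  obtain ⟨θ, hθ⟩ := IsCharacter.exists_constituent (IsCharacter.restrict hχc N) (fun h => by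
    have := congrFun h 1
    exact IsIrrCharacter.apply_one_ne_zero χ.2 (by simpa using this))
  set T := inertia N (θ : N → ℂ) with hT
  haveI : Fintype T := Fintype.ofFinite T
  have hθ1 : (θ : N → ℂ) 1 = 1 :=
    IsIrrCharacter.apply_one_of_comm (fun a b => Subtype.ext (hab a a.2 b b.2)) θ.2
  have hTtop : T = ⊤ := by
    by_contra hne
    obtain ⟨ψ, hψ, hind, -⟩ := exists_clifford_correspondent N χ.2 θ.2 hθ T hT.symm
      (le_inertia N (irr_isClassFunction θ))
    set χk := powIrr hk χ
    have hres : IsCharacter T (fun t : T => (χk : G → ℂ) t) :=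
      IsCharacter.restrict (irr_isCharacter χk) T
    obtain ⟨φ, hφ⟩ := IsCharacter.exists_constituent hres (fun h => by
      have := congrFun h 1
      exact IsIrrCharacter.apply_one_ne_zero χk.2 (by simpa using this))
    obtain ⟨rest, hrest, hadd⟩ := IsCharacter.exists_add_of_classInner_ne_zero hres φ.2 hφ
    -- the restriction is reducible
    have hrest0 : rest ≠ 0 := by
      intro h0
      have h1 : IsIrrCharacter T (fun t : T => (χ : G → ℂ) t) := by
        rw [IsCharacter.isIrr_iff (IsCharacter.restrict hχc T)]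
        have h2 := IsIrrCharacter.classInner_self φ.2
        rw [show (φ : T → ℂ) = fun t : T => (χk : G → ℂ) t by rw [hadd, h0, add_zero]] at h2
        rw [← h2]
        simp only [classInner]
        congr 1
        refine (Fintype.sum_equiv (powCoprime (G := T)
          ((hk.coprime_dvd_right (Subgroup.card_subgroup_dvd_card T)).symm)) _ _ fun t => ?_).symm
        rfl
      obtain ⟨η, hη, hsplit⟩ : ∃ η, IsCharacter T η ∧ (fun t : T => (χ : G → ℂ) t) = ψ + η := by
        refine IsCharacter.exists_add_of_classInner_ne_zero (IsCharacter.restrict hχc T) hψ ?_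
        intro h
        have h3 := classInner_indFun T ψ (irr_isClassFunction χ)
        rw [hind, IsIrrCharacter.classInner_self χ.2] at h3
        have h4 := congrArg (starRingEnd ℂ) h
        rw [classInner_conj_symm, map_zero] at h4
        exact one_ne_zero (h3.trans h4)
      have heq : (fun t : T => (χ : G → ℂ) t) = ψ := by
        by_contra hne'
        have h5 := IsIrrCharacter.classInner_ne h1 hψ hne'
        rw [hsplit, classInner_add_left, IsIrrCharacter.classInner_self hψ] at h5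
        obtain ⟨j, hj⟩ := IsCharacter.exists_classInner_nat hη (IsIrrCharacter.isCharacter hψ)
        rw [hj] at h5
        have : 1 + j = 0 := by exact_mod_cast h5
        omega
      have h6 := indFun_one T ψ
      rw [hind, ← congrFun heq 1] at h6
      have h7 : ((T.index : ℕ) : ℂ) = 1 := by
        have h8 := IsIrrCharacter.apply_one_ne_zero χ.2
        exact mul_right_cancel₀ h8 (by rw [one_mul]; exact h6.symm)
      exact hne (Subgroup.index_eq_one.mp (by exact_mod_cast h7))
    -- hence the product is reducible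
    have hprod : (fun g => (χ : G → ℂ) g * (χ : G → ℂ) (g ^ k)) =
        indFun T (ψ * (φ : T → ℂ)) + indFun T (ψ * rest) := by
      rw [← indFun_add, ← mul_add, ← hadd, indFun_mul_restrict T ψ (irr_isClassFunction χk), hind]
      rfl
    have hA := IsCharacter.indFun T (IsCharacter.mul (IsIrrCharacter.isCharacter hψ) (irr_isCharacter φ))
    have hB := IsCharacter.indFun T (IsCharacter.mul (IsIrrCharacter.isCharacter hψ) hrest)
    have hpos : ∀ F : T → ℂ, IsCharacter T F → F ≠ 0 → indFun T (ψ * F) ≠ 0 := by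
      intro F hF hF0 h
      have h1 := congrFun h 1
      rw [indFun_one, Pi.mul_apply, Pi.zero_apply, mul_eq_zero, mul_eq_zero] at h1
      rcases h1 with h1 | h1 | h1
      · exact Subgroup.index_ne_zero_of_finite (Nat.cast_eq_zero.mp h1)
      · exact IsIrrCharacter.apply_one_ne_zero hψ h1
      · exact hF0 (IsCharacter.eq_zero_of_apply_one_relM hF h1)
    obtain ⟨a, ha⟩ := IsCharacter.exists_classInner_nat hA hA
    obtain ⟨b, hb⟩ := IsCharacter.exists_classInner_nat hB hB
    obtain ⟨c, hc⟩ := IsCharacter.exists_classInner_nat hA hB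
    obtain ⟨d, hd⟩ := IsCharacter.exists_classInner_nat hB hA
    have ha0 : a ≠ 0 := fun h => hpos _ (irr_isCharacter φ)
      (fun h' => IsIrrCharacter.apply_one_ne_zero φ.2 (congrFun h' 1))
      (classInner_self_eq_zero (by rw [ha, h, Nat.cast_zero]))
    have hb0 : b ≠ 0 := fun h => hpos _ hrest hrest0
      (classInner_self_eq_zero (by rw [hb, h, Nat.cast_zero]))
    have h1 := IsIrrCharacter.classInner_self hirr
    rw [hprod, classInner_add_left, classInner_add_right, classInner_add_right, ha, hb, hc, hd] at h1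
    have : a + c + (d + b) = 1 := by exact_mod_cast h1
    omega
  have hres := restrict_eq_smul_of_invariant N χ.2 θ.2
    (fun g => show g ∈ inertia N (θ : N → ℂ) by rw [← hT, hTtop]; exact Subgroup.mem_top g) hθ
  obtain ⟨lam, hlam⟩ := IsCharacter.exists_hom_of_apply_one (irr_isCharacter θ) hθ1
  intro a ha
  rw [Subgroup.mem_center_iff]
  intro g
  have hinv : (θ : N → ℂ) ⟨g⁻¹ * a * g, by simpa [mul_assoc] using hN.conj_mem a ha g⁻¹⟩ =
      (θ : N → ℂ) ⟨a, ha⟩ := by
    have h1 : conjFun N g⁻¹ (θ : N → ℂ) = θ :=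
      show g⁻¹ ∈ inertia N (θ : N → ℂ) by rw [← hT, hTtop]; exact Subgroup.mem_top _
    have h2 := congrFun h1 ⟨a, ha⟩
    simp only [conjFun, inv_inv] at h2
    exact h2
  have h3 : (θ : N → ℂ) (⟨g⁻¹ * a * g, by simpa [mul_assoc] using hN.conj_mem a ha g⁻¹⟩ *
      (⟨a, ha⟩ : N)⁻¹) = (θ : N → ℂ) 1 := by
    rw [hlam] at hinv ⊢
    simp only at hinv ⊢
    rw [map_mul, map_inv, Units.ext hinv, mul_inv_cancel, map_one]
  have h4 : (χ : G → ℂ) (g⁻¹ * a * g * a⁻¹) = (χ : G → ℂ) 1 := by
    have hx := congrFun hres (⟨g⁻¹ * a * g, by simpa [mul_assoc] using hN.conj_mem a ha g⁻¹⟩ *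
      (⟨a, ha⟩ : N)⁻¹)
    have hy := congrFun hres 1
    rw [Pi.smul_apply, h3, ← Pi.smul_apply, ← hy] at hx
    exact hx
  have h5 := hfaith _ h4
  rw [mul_inv_eq_one, mul_assoc, inv_mul_eq_iff_eq_mul] at h5
  exact h5.symm

/-- The Fitting subgroup is the centre. -/
theorem nilpotent_normal_le_center (χ : IrrCharacter G)
    (hfaith : ∀ g : G, (χ : G → ℂ) g = (χ : G → ℂ) 1 → g = 1) {k : ℕ}
    (hk : Nat.Coprime k (Nat.card G))
    (hirr : IsIrrCharacter G (fun g => (χ : G → ℂ) g * (χ : G → ℂ) (g ^ k)))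
    (F : Subgroup G) [hF : F.Normal] [hnil : Group.IsNilpotent F] :
    F ≤ Subgroup.center G := by
  classical
  by_contra hle
  set Z := Subgroup.center G
  let Q : Subgroup (G ⧸ Z) := F.map (QuotientGroup.mk' Z)
  haveI : Q.Normal := hF.map _ (QuotientGroup.mk'_surjective Z)
  let H : Subgroup G := F ⊓ (Subgroup.centralizer (Q : Set (G ⧸ Z))).comap (QuotientGroup.mk' Z)
  have hHF : H ≤ F := inf_le_left
  -- the centre of `F` is central in `G`
  have hZF : ∀ x ∈ F, (∀ f ∈ F, f * x = x * f) → x ∈ Z := by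
    intro x hx hc
    haveI : ((Subgroup.center F).map F.subtype).Normal := inferInstance
    refine le_center_of_comm χ hfaith hk hirr ((Subgroup.center F).map F.subtype) ?_
      ⟨⟨x, hx⟩, Subgroup.mem_center_iff.mpr fun f => Subtype.ext (hc f f.2), rfl⟩
    rintro _ ⟨a, ha, rfl⟩ _ ⟨b, -, rfl⟩
    exact congrArg Subtype.val ((Subgroup.mem_center_iff.mp ha b).symm)
  -- `H` is not central
  have hHnc : ¬ H ≤ Z := by
    haveI : Group.IsNilpotent Q :=
      Group.nilpotent_of_surjective ((QuotientGroup.mk' Z).subgroupMap F)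
        (MonoidHom.subgroupMap_surjective _ F)
    haveI : Nontrivial Q := by
      rw [Subgroup.nontrivial_iff_ne_bot]
      intro h
      refine hle fun x hx => (QuotientGroup.eq_one_iff x).mp ?_
      have : QuotientGroup.mk' Z x ∈ Q := ⟨x, hx, rfl⟩
      rwa [h, Subgroup.mem_bot] at this
    obtain ⟨⟨q, hq⟩, hqc, hq1⟩ := (Subgroup.nontrivial_iff_exists_ne_one _).mp
      ((Subgroup.nontrivial_iff_ne_bot _).mpr (Group.IsNilpotent.center_ne_bot (G := Q)))
    obtain ⟨x, hx, rfl⟩ := hq
    intro h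
    refine hq1 (Subtype.ext ((QuotientGroup.eq_one_iff x).mpr (h ⟨hx, ?_⟩)))
    show QuotientGroup.mk' Z x ∈ Subgroup.centralizer _
    rw [Subgroup.mem_centralizer_iff]
    exact fun y hy => congrArg Subtype.val (Subgroup.mem_center_iff.mp hqc ⟨y, hy⟩)
  refine hHnc (le_center_of_vanish χ hfaith hk hirr H fun x hx hxZ => ?_)
  obtain ⟨f, hf, hne⟩ : ∃ f ∈ F, f * x ≠ x * f := by
    by_contra h
    push Not at h
    exact hxZ (hZF x (hHF hx) h)
  have hz : f * x * f⁻¹ * x⁻¹ ∈ Z := by
    rw [← QuotientGroup.eq_one_iff]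
    have h1 := Subgroup.mem_centralizer_iff.mp hx.2 (QuotientGroup.mk' Z f) ⟨f, hf, rfl⟩
    simp only [QuotientGroup.mk'_apply] at h1
    rw [QuotientGroup.mk_mul, QuotientGroup.mk_mul, QuotientGroup.mk_mul, QuotientGroup.mk_inv,
      QuotientGroup.mk_inv, h1]
    group
  obtain ⟨n, ρ, hρ, hρχ⟩ := χ.2
  haveI := hρ
  obtain ⟨c, hc⟩ := exists_smul_of_commute ρ (ρ (f * x * f⁻¹ * x⁻¹)) fun g => by
    rw [← map_mul, ← map_mul, Subgroup.mem_center_iff.mp hz g]
  have hmul : ∀ y, (χ : G → ℂ) (f * x * f⁻¹ * x⁻¹ * y) = c * (χ : G → ℂ) y := fun y => by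
    rw [← hρχ]
    simp only [Representation.character, map_mul] at hc ⊢
    rw [hc, ← Module.End.one_eq_id, smul_mul_assoc, one_mul, map_smul, smul_eq_mul]
  have hc1 : c ≠ 1 := by
    intro h
    have h1 := hmul 1
    rw [h, one_mul, mul_one] at h1
    have h2 := hfaith _ h1
    rw [mul_inv_eq_one, mul_inv_eq_iff_eq_mul] at h2
    exact hne h2
  have h2 := hmul x
  rw [inv_mul_cancel_right, IsCharacter.conj_apply (irr_isCharacter χ) x f] at h2
  exact (mul_eq_zero.mp (show (c - 1) * (χ : G → ℂ) x = 0 by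
    rw [sub_mul, one_mul, ← h2, sub_self])).resolve_left (sub_ne_zero.mpr hc1)

end Cfsg.Agent.Lib.CharMisc
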