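import Cfsg.Agent.Lib.BlockHeights.DegreeSum
import Cfsg.Agent.Lib.Blocks.Covering
import Cfsg.Agent.Lib.Blocks.Sections

/-!
# A height zero character with stabiliser of index prime to `p`
-/

set_option autoImplicit false
set_option linter.unusedSectionVars false
set_option linter.style.haveILetI false

namespace Cfsg.Agent.Lib.CharMisc

open Cfsg Cfsg.Agent.Lib.Blocks Cfsg.Agent.Lib.Characters Cfsg.Agent.Lib.BlockHeights
open scoped ComplexConjugate

universe u v

/-- An invariant weight with total prime to `p` is prime to `p` at some fixed point. -/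
theorem exists_fixed_weight {Q : Type v} [Group Q] [Finite Q] {α : Type u} [MulAction Q α]
    [Fintype α] {p : ℕ} [Fact p.Prime] (hQ : IsPGroup p Q) (F : α → ℕ)
    (hinv : ∀ (q : Q) x, F (q • x) = F x) (hF : ¬ p ∣ ∑ x, F x) :
    ∃ x : α, (∀ q : Q, q • x = x) ∧ ¬ p ∣ F x := by
  classical
  haveI : Fintype (MulAction.orbitRel.Quotient Q α) := Fintype.ofFinite _
  by_contra hcon
  push Not at hcon
  refine hF ?_
  rw [← (MulAction.selfEquivSigmaOrbits Q α).symm.sum_comp F, Fintype.sum_sigma]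
  refine Finset.dvd_sum fun ω _ => ?_
  have hconst : ∀ y : MulAction.orbit Q (Quotient.out ω),
      F ((MulAction.selfEquivSigmaOrbits Q α).symm ⟨ω, y⟩) = F (Quotient.out ω) := by
    rintro ⟨y, q, rfl⟩
    exact hinv q _
  rw [Finset.sum_congr rfl fun y _ => hconst y, Finset.sum_const, smul_eq_mul, Finset.card_univ]
  obtain ⟨n, hn⟩ := hQ.card_orbit (Quotient.out ω)
  rw [← Nat.card_eq_fintype_card, hn]
  rcases Nat.eq_zero_or_pos n with rfl | hn0
  · rw [pow_zero, Nat.card_eq_one_iff_unique] at hn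
    refine dvd_mul_of_dvd_right (hcon _ fun q => ?_) _
    exact congrArg Subtype.val (hn.1.elim
      (⟨q • Quotient.out ω, q, rfl⟩ : MulAction.orbit Q (Quotient.out ω))
      ⟨Quotient.out ω, MulAction.mem_orbit_self _⟩)
  · exact dvd_mul_of_dvd_left (dvd_pow_self p hn0.ne') _

variable {G : Type u} [Group G] [Fintype G] {p : ℕ} {M : Ideal AlgInt} [M.IsPrime]

theorem exists_height_zero_stable (hM : IsPModular p M) (H : Subgroup G) [H.Normal] [Fintype H]
    {b : Set (IrrCharacter H)} (hb : IsPBlock M b) (T : Subgroup G)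
    (hT : ∀ g : G, g ∈ T ↔ ∀ θ ∈ b, ∀ θ' : IrrCharacter H, (∀ h h' : H, (h' : G) = g * h * g⁻¹ →
      (θ' : H → ℂ) h' = (θ : H → ℂ) h) → θ' ∈ b) :
    ∃ θ ∈ b, blockHeight p b (θ : H → ℂ) = 0 ∧ ∃ S : Subgroup G, S ≤ T ∧
      (∀ g : G, g ∈ S ↔ (g ∈ T ∧ ∀ h h' : H, (h' : G) = g * h * g⁻¹ →
        (θ : H → ℂ) h' = (θ : H → ℂ) h)) ∧ ¬ p ∣ S.relIndex T := by
  classical
  have hp := hM.1
  haveI := Fact.mk hp
  haveI := Fintype.ofFinite (IrrCharacter H)
  have hconj : ∀ g ∈ T, ∀ θ ∈ b, conjIrrN H g⁻¹ θ ∈ b := by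
    intro g hg θ hθ
    refine (hT g).1 hg θ hθ _ fun h h' he => ?_
    show (θ : H → ℂ) _ = _
    exact congrArg _ (Subtype.ext (show g⁻¹ * (h' : G) * g⁻¹⁻¹ = h by rw [he]; group))
  have hHT : H ≤ T := by
    intro n hn
    refine (hT n).2 fun θ hθ θ' h => ?_
    have he : θ' = θ := by
      refine Subtype.ext (funext fun m => ?_)
      have h1 := h (⟨n, hn⟩⁻¹ * m * ⟨n, hn⟩) m (by simp [mul_assoc])
      rw [h1]
      have h2 := irr_isClassFunction θ m (⟨n, hn⟩⁻¹ : H)
      simpa using h2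
    rw [he]; exact hθ
  obtain ⟨P⟩ : Nonempty (Sylow p H) := inferInstance
  have hPT : IsPGroup p (((P : Subgroup H).map H.subtype).subgroupOf T) :=
    (P.isPGroup'.map H.subtype).comap_subtype
  obtain ⟨Q, hQ⟩ := hPT.exists_le_sylow
  set QG : Subgroup G := (Q : Subgroup T).map T.subtype with hQG
  have hQGT : QG ≤ T := Subgroup.map_subtype_le _
  have hQp : IsPGroup p QG := Q.isPGroup'.map _
  have hPQ : (P : Subgroup H) = QG.subgroupOf H := by
    refine (P.is_maximal' (hQp.comap_subtype) ?_).symm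
    intro x hx
    refine Subgroup.mem_subgroupOf.2 ⟨⟨(x : G), hHT x.2⟩, hQ ?_, rfl⟩
    exact Subgroup.mem_subgroupOf.2 (Subgroup.mem_map_of_mem H.subtype hx)
  haveI : Fintype (P : Subgroup H) := Fintype.ofFinite _
  choose w hw using fun θ : IrrCharacter H =>
    IsCharacter.exists_classInner_nat (IsCharacter.restrict (irr_isCharacter θ) (P : Subgroup H))
      (irr_isCharacter (trivIrr (P : Subgroup H)))
  have hsum : ∀ θ : IrrCharacter H,
      (Nat.card (P : Subgroup H) : ℂ) * (w θ : ℂ) = ∑ y : (P : Subgroup H), (θ : H → ℂ) y := by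
    intro θ
    rw [← hw θ, classInner, ← mul_assoc, mul_inv_cancel₀ (Nat.cast_ne_zero.2 Nat.card_pos.ne'),
      one_mul]
    simp [trivIrr_apply]
  set S2 := ∑ᶠ θ ∈ b, charDegree (θ : H → ℂ) ^ 2 with hS2
  have htot : Nat.card (P : Subgroup H) * ∑ θ ∈ b.toFinset, charDegree (θ : H → ℂ) * w θ = S2 := by
    rw [hS2, finsum_mem_eq_toFinset_sum]
    have h : (Nat.card (P : Subgroup H) : ℂ) *
        ∑ θ ∈ b.toFinset, (charDegree (θ : H → ℂ) : ℂ) * (w θ : ℂ) =
        ∑ θ ∈ b.toFinset, (charDegree (θ : H → ℂ) : ℂ) ^ 2 := by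
      rw [Finset.mul_sum]
      refine (Finset.sum_congr rfl fun (θ : IrrCharacter H) _ => (by
        rw [mul_left_comm, hsum, ← irr_apply_one, Finset.mul_sum] :
          (Nat.card (P : Subgroup H) : ℂ) * ((charDegree (θ : H → ℂ) : ℂ) * (w θ : ℂ)) =
            ∑ y : (P : Subgroup H), (θ : H → ℂ) 1 * (θ : H → ℂ) y)).trans ?_
      simp only [← irr_apply_one]
      rw [Finset.sum_comm, Finset.sum_eq_single (1 : (P : Subgroup H))]
      · exact Finset.sum_congr rfl fun θ _ => (sq _).symm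
      · intro y _ hy
        have hy' : p ∣ orderOf (y : H) := by
          rw [Subgroup.orderOf_coe]
          obtain ⟨j, hj⟩ := IsPGroup.iff_orderOf.1 P.isPGroup' y
          rw [hj]
          rcases Nat.eq_zero_or_pos j with rfl | hj0
          · rw [pow_zero, orderOf_eq_one_iff] at hj
            exact absurd hj hy
          · exact dvd_pow_self p hj0.ne'
        have h0 := finsum_regular_singular_eq_zero hM hb (g := (1 : H))
          (by rw [orderOf_one, Nat.dvd_one]; exact hp.ne_one) hy'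
        rw [finsum_mem_eq_toFinset_sum] at h0
        have h1 := congrArg conj h0
        simp only [map_sum, map_mul, map_zero, Complex.conj_conj, irr_apply_one, map_natCast] at h1
        simpa only [irr_apply_one] using h1
      · simp
    exact_mod_cast h
  set m := minExp p b with hm
  have hdvd : ∀ θ ∈ b, p ^ m ∣ charDegree (θ : H → ℂ) := fun θ hθ =>
    (hp.pow_dvd_iff_le_factorization (charDegree_irr_pos θ).ne').2 (minExp_le hθ)
  set F : IrrCharacter H → ℕ := fun θ => charDegree (θ : H → ℂ) / p ^ m * w θ with hF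
  have hFsum : ¬ p ∣ ∑ θ ∈ b.toFinset, F θ := by
    intro hd
    have h1 : p ^ m * ∑ θ ∈ b.toFinset, F θ =
        ∑ θ ∈ b.toFinset, charDegree (θ : H → ℂ) * w θ := by
      rw [Finset.mul_sum]
      exact Finset.sum_congr rfl fun θ hθ => by
        rw [hF, ← mul_assoc, Nat.mul_div_cancel' (hdvd θ (Set.mem_toFinset.1 hθ))]
    have hfac := factorization_sum_degree_sq hM hb
    rw [← hS2] at hfac
    have hne : S2 ≠ 0 := by
      rw [hS2, finsum_mem_eq_toFinset_sum]
      obtain ⟨θ, hθ⟩ := IsPBlock.nonempty hb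
      exact (Finset.sum_pos' (fun i _ => Nat.zero_le _) ⟨θ, Set.mem_toFinset.2 hθ,
        pow_pos (charDegree_irr_pos θ) 2⟩).ne'
    have h2 : p ^ ((Nat.card H).factorization p + m + 1) ∣ S2 := by
      rw [← htot, ← h1, pow_succ, pow_add, Sylow.card_eq_multiplicity, mul_assoc]
      exact mul_dvd_mul_left _ (mul_dvd_mul_left _ hd)
    have h3 := (hp.pow_dvd_iff_le_factorization hne).1 h2
    omega
  -- the action of `Q` on `b`
  letI : MulAction QG {θ // θ ∈ b} :=
    { smul := fun q θ => ⟨conjIrrN H (q : G)⁻¹ θ.1, hconj q (hQGT q.2) θ.1 θ.2⟩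
      one_smul := fun θ => Subtype.ext (Subtype.ext (funext fun n => by
        show (θ.1 : H → ℂ) _ = _
        exact congrArg _ (Subtype.ext
          (show ((1 : QG) : G)⁻¹ * (n : G) * ((1 : QG) : G)⁻¹⁻¹ = n by simp))))
      mul_smul := fun q r θ => Subtype.ext (Subtype.ext (funext fun n => by
        show (θ.1 : H → ℂ) _ = (θ.1 : H → ℂ) _
        exact congrArg _ (Subtype.ext
          (show ((q * r : QG) : G)⁻¹ * (n : G) * ((q * r : QG) : G)⁻¹⁻¹ =
            (r : G)⁻¹ * ((q : G)⁻¹ * (n : G) * (q : G)⁻¹⁻¹) * (r : G)⁻¹⁻¹ by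
              simp [mul_assoc])))) }
  have hsmul : ∀ (q : QG) (θ : {θ // θ ∈ b}), (q • θ).1 = conjIrrN H (q : G)⁻¹ θ.1 :=
    fun q θ => rfl
  have hinv : ∀ (q : QG) (θ : {θ // θ ∈ b}), F (q • θ).1 = F θ.1 := by
    intro q θ
    rw [hsmul]
    have hd : charDegree (conjIrrN H (q : G)⁻¹ θ.1 : H → ℂ) = charDegree (θ.1 : H → ℂ) := by
      have h := conjFun_apply_one H (q : G)⁻¹ (θ.1 : H → ℂ)
      have h1 : (conjIrrN H (q : G)⁻¹ θ.1 : H → ℂ) 1 = (θ.1 : H → ℂ) 1 := h
      rw [irr_apply_one, irr_apply_one] at h1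
      exact_mod_cast h1
    have hw' : (w (conjIrrN H (q : G)⁻¹ θ.1) : ℂ) = (w θ.1 : ℂ) := by
      refine mul_left_cancel₀ (Nat.cast_ne_zero.2
        (Nat.card_pos (α := (P : Subgroup H))).ne') ?_
      rw [hsum, hsum]
      have hmem : ∀ r ∈ QG, ∀ y : (P : Subgroup H),
          (⟨r * (y : H) * r⁻¹, Subgroup.Normal.conj_mem inferInstance _ (y : H).2 r⟩ : H) ∈
            (P : Subgroup H) := by
        intro r hr y
        have hy : ((y : H) : G) ∈ QG := Subgroup.mem_subgroupOf.1 ((SetLike.ext_iff.1 hPQ _).1 y.2)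
        refine (SetLike.ext_iff.1 hPQ _).2 (Subgroup.mem_subgroupOf.2 ?_)
        exact QG.mul_mem (QG.mul_mem hr hy) (QG.inv_mem hr)
      refine Fintype.sum_equiv
        { toFun := fun y => ⟨_, hmem (q : G)⁻¹ (QG.inv_mem q.2) y⟩
          invFun := fun y => ⟨_, hmem (q : G) q.2 y⟩
          left_inv := fun y => Subtype.ext (Subtype.ext (by simp [mul_assoc]))
          right_inv := fun y => Subtype.ext (Subtype.ext (by simp [mul_assoc])) } _ _ fun y => rfl
    simp only [hF, hd, Nat.cast_injective hw']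
  obtain ⟨θ, hfix, hθF⟩ := exists_fixed_weight hQp (fun θ : {θ // θ ∈ b} => F θ.1) hinv (by
    rwa [← Finset.sum_subtype (p := fun θ => θ ∈ b) b.toFinset (fun θ => Set.mem_toFinset)
      (fun θ => F θ)])
  refine ⟨θ.1, θ.2, ?_, ?_⟩
  · have hu : ¬ p ∣ charDegree (θ.1 : H → ℂ) / p ^ m := fun h => hθF (dvd_mul_of_dvd_left h _)
    have hle : nu p (θ.1 : H → ℂ) ≤ m := by
      by_contra hlt
      refine hu (Nat.dvd_div_of_mul_dvd ?_)
      rw [← pow_succ]
      exact (hp.pow_dvd_iff_le_factorization (charDegree_irr_pos θ.1).ne').2 (by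
        have : m < nu p (θ.1 : H → ℂ) := not_le.1 hlt
        exact this)
    have := minExp_add_blockHeight (p := p) θ.2
    omega
  let S : Subgroup G :=
    { carrier := {g | g ∈ T ∧ conjFun H g (θ.1 : H → ℂ) = θ.1}
      one_mem' := ⟨T.one_mem, conjFun_one H _⟩
      mul_mem' := fun {g h} hg hh => ⟨T.mul_mem hg.1 hh.1, by
        rw [conjFun_mul, hg.2, hh.2]⟩
      inv_mem' := fun {g} hg => ⟨T.inv_mem hg.1, by
        conv_lhs => rw [← hg.2]
        rw [conjFun_inv_cancel]⟩ }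
  have hS : ∀ g : G, g ∈ S ↔ (g ∈ T ∧ ∀ h h' : H, (h' : G) = g * h * g⁻¹ →
      (θ.1 : H → ℂ) h' = (θ.1 : H → ℂ) h) := by
    intro g
    refine and_congr_right fun _ => ⟨fun h n n' he => ?_, fun h => funext fun n => ?_⟩
    · have h1 := congrFun h n
      rw [← h1]
      exact congrArg (θ.1 : H → ℂ) (Subtype.ext he)
    · exact h n _ rfl
  refine ⟨S, fun g hg => hg.1, hS, fun hd => ?_⟩
  have hQS : (Q : Subgroup T) ≤ S.subgroupOf T := by
    intro x hx
    refine Subgroup.mem_subgroupOf.2 ⟨x.2, ?_⟩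
    have h1 := hfix ⟨(x : G)⁻¹, QG.inv_mem ⟨x, hx, rfl⟩⟩
    have h2 : conjIrrN H (x : G) θ.1 = θ.1 := by
      have h3 := congrArg Subtype.val h1
      rw [hsmul] at h3
      simpa using h3
    exact congrArg Subtype.val h2
  exact Sylow.not_dvd_index Q (hd.trans (Subgroup.index_dvd_of_le hQS))

end Cfsg.Agent.Lib.CharMisc
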