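import Cfsg.Agent.Lib.Characters.Convolution
import Cfsg.Agent.Lib.Characters.Integrality
import Cfsg.Agent.Lib.Characters.Kernel
import Cfsg.Prelude.Def_Blocks
import Mathlib.GroupTheory.Perm.Cycle.Type
import Mathlib.GroupTheory.FixedPointFree
import Mathlib.GroupTheory.Nilpotent

/-!
# Degrees forced by an involution inverting no element of a `p`-subgroup
-/

set_option autoImplicit false
set_option linter.unusedSectionVars false
set_option linter.style.haveILetI false

namespace Cfsg.Agent.Lib.CharMisc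

open Cfsg Cfsg.Agent.Lib.Characters
open scoped ComplexConjugate Pointwise

universe u

variable {G : Type u} [Group G] [Finite G]

/-- Weisner's divisibility. -/
theorem exists_pow_dvd_degree {p : ℕ} [hp : Fact p.Prime] {x : G} (hx : x * x = 1) (P : Subgroup G)
    {c : ℕ} (hP : Nat.card P = p ^ c)
    (hinv : ∀ g : G, IsConj x g → ∀ z ∈ P, z ≠ 1 → g * z * g⁻¹ ≠ z⁻¹) :
    ∃ χ : IrrCharacter G,
      p ^ (c - (Nat.card (Subgroup.centralizer ({x} : Set G))).factorization p) ∣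
        charDegree (χ : G → ℂ) := by
  classical
  haveI := Fintype.ofFinite G
  haveI := Fintype.ofFinite (IrrCharacter G)
  haveI : Fintype P := Fintype.ofFinite _
  set C := Nat.card (Subgroup.centralizer ({x} : Set G)) with hC
  set a := C.factorization p with ha
  by_contra hne
  push Not at hne
  obtain ⟨b, hb⟩ : ∃ b, c - a = b + 1 := by
    refine ⟨c - a - 1, ?_⟩
    have h1 : c - a ≠ 0 := fun h => by
      have := hne ⟨fun _ => 1, isIrrCharacter_one⟩
      rw [h, pow_zero] at this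
      exact this (one_dvd _)
    omega
  choose d hd0 hd hdG using fun χ : IrrCharacter G => IsIrrCharacter.exists_degree_dvd χ.2
  have hcd : ∀ χ : IrrCharacter G, charDegree (χ : G → ℂ) = d χ := fun χ => by
    rw [charDegree, hd, Complex.natCast_re, Nat.floor_natCast]
  set g' := ordCompl[p] (Nat.card G) with hg'
  have hdiv : ∀ χ : IrrCharacter G, d χ ∣ g' * p ^ b := by
    intro χ
    have h2 : ¬ p ^ (b + 1) ∣ d χ := by rw [← hb, ← hcd]; exact hne χ
    have h3 : (d χ).factorization p ≤ b := by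
      by_contra h3
      exact h2 ((Nat.Prime.pow_dvd_iff_le_factorization hp.out (hd0 χ).ne').2 (by omega))
    rw [← Nat.ordProj_mul_ordCompl_eq_self (d χ) p, mul_comm g']
    exact Nat.mul_dvd_mul (pow_dvd_pow p h3) (Nat.ordCompl_dvd_ordCompl_of_dvd (hdG χ) p)
  choose n hn using fun χ : IrrCharacter G =>
    IsCharacter.exists_classInner_nat (IsCharacter.restrict (irr_isCharacter χ) P)
      (isCharacter_one (G := P))
  have hsumP : ∀ χ : IrrCharacter G, ∑ z : P, conj ((χ : G → ℂ) z) = (p : ℂ) ^ c * n χ := by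
    intro χ
    have h1 : ∑ z : P, (χ : G → ℂ) z = (p : ℂ) ^ c * n χ := by
      rw [← hn χ, classInner, ← mul_assoc, ← Nat.cast_pow, ← hP,
        mul_inv_cancel₀ natCard_ne_zero_complex, one_mul]
      simp
    rw [← map_sum, h1]
    simp
  have hreal : ∀ χ : IrrCharacter G, conj ((χ : G → ℂ) x) = (χ : G → ℂ) x := fun χ => by
    rw [← IsCharacter.apply_inv (irr_isCharacter χ), inv_eq_of_mul_eq_one_left hx]
  let S : G → ℂ := fun z => ∑ χ : IrrCharacter G,
    (χ : G → ℂ) x * (χ : G → ℂ) x * conj ((χ : G → ℂ) z) / (χ : G → ℂ) 1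
  have hS1 : S 1 = C := by
    have h := sum_irr_mul_conj x x
    rw [if_pos (IsConj.refl x)] at h
    rw [← h]
    refine Finset.sum_congr rfl fun χ _ => ?_
    rw [hreal, hd, map_natCast, mul_div_cancel_right₀ _ (Nat.cast_ne_zero.2 (hd0 χ).ne')]
  have hSz : ∀ z ∈ P, z ≠ 1 → S z = 0 := by
    intro z hz hz1
    have h := card_class_mul x x z
    haveI : IsEmpty {q : G × G // IsConj x q.1 ∧ IsConj x q.2 ∧ q.1 * q.2 = z} := by
      refine ⟨fun q => ?_⟩
      obtain ⟨⟨s, t⟩, hs, ht, rfl⟩ := q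
      apply hinv s hs (s * t) hz hz1
      obtain ⟨i, rfl⟩ := isConj_iff.1 hs
      obtain ⟨j, rfl⟩ := isConj_iff.1 ht
      have hi : (i * x * i⁻¹) * (i * x * i⁻¹) = 1 := by
        rw [show (i * x * i⁻¹) * (i * x * i⁻¹) = i * (x * x) * i⁻¹ by group, hx]; group
      have hj : (j * x * j⁻¹) * (j * x * j⁻¹) = 1 := by
        rw [show (j * x * j⁻¹) * (j * x * j⁻¹) = j * (x * x) * j⁻¹ by group, hx]; group
      have key : ∀ s t : G, s * s = 1 → t * t = 1 → s * (s * t) * s⁻¹ = (s * t)⁻¹ := fun s t h1 h2 => by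
        rw [inv_eq_of_mul_eq_one_left h1, ← mul_assoc s s t, h1, one_mul, mul_inv_rev,
          inv_eq_of_mul_eq_one_left h1, inv_eq_of_mul_eq_one_left h2]
      exact key _ _ hi hj
    rw [Nat.card_of_isEmpty, Nat.cast_zero, eq_comm] at h
    have hne0 : (Nat.card {y : G // IsConj x y} : ℂ) ≠ 0 := by
      haveI : Nonempty {y : G // IsConj x y} := ⟨⟨x, IsConj.refl x⟩⟩
      exact Nat.cast_ne_zero.2 Nat.card_pos.ne'
    exact (mul_eq_zero.1 h).resolve_left
      (div_ne_zero (mul_ne_zero hne0 hne0) natCard_ne_zero_complex)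
  have hsum : ∑ z : P, S z = C := by
    rw [Finset.sum_eq_single (1 : P) (fun z _ hz => hSz z z.2 fun h => hz (Subtype.ext h))
      (fun h => absurd (Finset.mem_univ _) h)]
    exact hS1
  have hsum' : (p : ℂ) ^ c * ∑ χ : IrrCharacter G,
      (n χ : ℂ) * ((χ : G → ℂ) x * (χ : G → ℂ) x) / (d χ : ℂ) = C := by
    rw [← hsum, Finset.mul_sum, Finset.sum_comm]
    refine Finset.sum_congr rfl fun χ _ => ?_
    simp only [mul_div_assoc]
    rw [← Finset.mul_sum, ← Finset.sum_div, hsumP, hd]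
    ring
  have hint : IsIntegral ℤ (((g' * p ^ b : ℕ) : ℂ) * ∑ χ : IrrCharacter G,
      (n χ : ℂ) * ((χ : G → ℂ) x * (χ : G → ℂ) x) / (d χ : ℂ)) := by
    rw [Finset.mul_sum]
    refine IsIntegral.sum _ fun χ _ => ?_
    obtain ⟨m, hm⟩ := hdiv χ
    have hdne : (d χ : ℂ) ≠ 0 := Nat.cast_ne_zero.2 (hd0 χ).ne'
    rw [show ((g' * p ^ b : ℕ) : ℂ) * ((n χ : ℂ) * ((χ : G → ℂ) x * (χ : G → ℂ) x) / (d χ : ℂ)) =
        ((m * n χ : ℕ) : ℂ) * ((χ : G → ℂ) x * (χ : G → ℂ) x) by
      rw [hm]; push_cast; field_simp]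
    exact (isIntegral_algebraMap (R := ℤ) (x := ((m * n χ : ℕ) : ℤ))).mul
      ((IsCharacter.isIntegral (irr_isCharacter χ) x).mul
        (IsCharacter.isIntegral (irr_isCharacter χ) x))
  have heq : ((g' * p ^ b : ℕ) : ℂ) * ∑ χ : IrrCharacter G,
      (n χ : ℂ) * ((χ : G → ℂ) x * (χ : G → ℂ) x) / (d χ : ℂ) =
        ((C * (g' * p ^ b) : ℕ) : ℂ) / ((p ^ c : ℕ) : ℂ) := by
    rw [eq_div_iff (Nat.cast_ne_zero.2 (pow_ne_zero _ hp.out.ne_zero)), Nat.cast_mul C, ← hsum']
    push_cast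
    ring
  rw [heq] at hint
  have h := dvd_of_isIntegral_div (pow_ne_zero _ hp.out.ne_zero) hint
  have hC0 : C ≠ 0 := Nat.card_pos.ne'
  have hg0 : g' ≠ 0 := (Nat.ordCompl_pos p Nat.card_pos.ne').ne'
  have h2 := (Nat.Prime.pow_dvd_iff_le_factorization hp.out
    (mul_ne_zero hC0 (mul_ne_zero hg0 (pow_ne_zero _ hp.out.ne_zero)))).1 h
  rw [Nat.factorization_mul hC0 (mul_ne_zero hg0 (pow_ne_zero _ hp.out.ne_zero)), Finsupp.add_apply,
    Nat.factorization_mul hg0 (pow_ne_zero _ hp.out.ne_zero), Finsupp.add_apply,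
    hp.out.factorization_pow, Finsupp.single_eq_same, hg', Nat.factorization_ordCompl,
    Finsupp.erase_same, ← ha] at h2
  omega

/-- An element of odd order centralizer inverted by an involution `g` with `C(g)` a `p'`-group
lies in an abelian Sylow `p`-subgroup inverted by `g`. -/
theorem exists_abelian_sylow_inverted {p : ℕ} [hp : Fact p.Prime] {g z : G} (hg : g * g = 1)
    (hgz : g * z * g⁻¹ = z⁻¹) (hz : ∃ k, orderOf z = p ^ k)
    (hCz : Odd (Nat.card (Subgroup.centralizer ({z} : Set G))))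
    (hCg : ¬ p ∣ Nat.card (Subgroup.centralizer ({g} : Set G))) :
    ∃ Q : Sylow p G, (∀ u ∈ (Q : Subgroup G), g * u * g⁻¹ = u⁻¹) ∧ z ∈ (Q : Subgroup G) := by
  classical
  have hginv : g⁻¹ = g := inv_eq_of_mul_eq_one_left hg
  set C := Subgroup.centralizer ({z} : Set G) with hC
  have hnorm : ∀ u ∈ C, g * u * g⁻¹ ∈ C := by
    intro u hu
    rw [hC, Subgroup.mem_centralizer_singleton_iff] at hu ⊢
    have hcomm : Commute u z := hu
    have h2 := hcomm.inv_right.map (MulAut.conj g).toMonoidHom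
    have h3 : (MulAut.conj g).toMonoidHom z⁻¹ = z := by
      rw [map_inv, show (MulAut.conj g).toMonoidHom z = g * z * g⁻¹ from rfl, hgz, inv_inv]
    rw [h3] at h2
    exact h2.eq
  let α : MulAut C :=
    { toFun := fun u => ⟨g * u * g⁻¹, hnorm u u.2⟩
      invFun := fun u => ⟨g * u * g⁻¹, hnorm u u.2⟩
      left_inv := fun u => Subtype.ext (by
        show g * (g * u * g⁻¹) * g⁻¹ = u
        rw [show g * (g * u * g⁻¹) * g⁻¹ = (g * g) * u * (g * g)⁻¹ by group, hg]; group)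
      right_inv := fun u => Subtype.ext (by
        show g * (g * u * g⁻¹) * g⁻¹ = u
        rw [show g * (g * u * g⁻¹) * g⁻¹ = (g * g) * u * (g * g)⁻¹ by group, hg]; group)
      map_mul' := fun u v => Subtype.ext (by
        show g * (↑u * ↑v) * g⁻¹ = g * u * g⁻¹ * (g * v * g⁻¹)
        group) }
  have hα2 : α * α = 1 := MulEquiv.ext fun u => α.left_inv u
  -- a fixed Sylow subgroup
  haveI : Finite (Sylow p C) := inferInstance
  haveI := Fintype.ofFinite (Sylow p C)
  have hodd : ¬ 2 ∣ Fintype.card (Sylow p C) := by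
    intro h2
    rw [← Nat.card_eq_fintype_card] at h2
    obtain ⟨R⟩ := (inferInstance : Nonempty (Sylow p C))
    have h3 := (h2.trans R.card_dvd_index).trans (Subgroup.index_dvd_card _)
    exact Nat.not_even_iff_odd.2 hCz (even_iff_two_dvd.2 h3)
  let σ : Equiv.Perm (Sylow p C) := MulAction.toPerm α
  have hσ : σ ^ 2 ^ 1 = 1 := by
    rw [pow_one, pow_two]
    ext R : 1
    show α • α • R = R
    rw [← mul_smul, hα2, one_smul]
  haveI : Fact (Nat.Prime 2) := ⟨Nat.prime_two⟩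
  obtain ⟨R, hR⟩ := σ.exists_fixed_point_of_prime hodd hσ
  have hRα : ∀ u ∈ (R : Subgroup C), α u ∈ (R : Subgroup C) := by
    intro u hu
    have h : α • u ∈ α • (R : Subgroup C) := Subgroup.smul_mem_pointwise_smul u α _ hu
    have hR' : α • R = R := hR
    rw [← Sylow.pointwise_smul_def, hR'] at h
    exact h
  let α' : (R : Subgroup C) →* (R : Subgroup C) :=
    (α.toMonoidHom.comp (R : Subgroup C).subtype).codRestrict _ fun u => hRα u u.2
  have hinv' : Function.Involutive α' := fun u => Subtype.ext (α.left_inv u.1)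
  have hfpf : MonoidHom.FixedPointFree α' := by
    intro u hu
    by_contra hu1
    apply hCg
    have h1 : g * ((u : C) : G) * g⁻¹ = ((u : C) : G) := congrArg (fun v : (R : Subgroup C) => ((v : C) : G)) hu
    have h2 : ((u : C) : G) ∈ Subgroup.centralizer ({g} : Set G) := by
      rw [Subgroup.mem_centralizer_singleton_iff]
      calc ((u : C) : G) * g = g * ((u : C) : G) * g⁻¹ * g := by rw [h1]
        _ = g * ((u : C) : G) := by group
    obtain ⟨k, hk⟩ := R.isPGroup' u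
    have h3 : orderOf ((u : C) : G) ∣ p ^ k := by
      rw [Subgroup.orderOf_coe, Subgroup.orderOf_coe]
      exact orderOf_dvd_of_pow_eq_one hk
    obtain ⟨i, -, hi⟩ := (Nat.dvd_prime_pow hp.out).1 h3
    refine dvd_trans ?_ (Subgroup.orderOf_dvd_natCard _ h2)
    rw [hi]
    refine dvd_pow_self p fun h0 => hu1 ?_
    rw [h0, pow_zero, orderOf_eq_one_iff] at hi
    exact Subtype.ext (Subtype.ext hi)
  have hRinv : ∀ u ∈ (R : Subgroup C), g * (u : G) * g⁻¹ = (u : G)⁻¹ := fun u hu => by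
    have h := congrFun (hfpf.coe_eq_inv_of_involutive hinv') ⟨u, hu⟩
    exact congrArg (fun v : (R : Subgroup C) => ((v : C) : G)) h
  set R₀ : Subgroup G := (R : Subgroup C).map C.subtype with hR₀
  have hR₀inv : ∀ u ∈ R₀, g * u * g⁻¹ = u⁻¹ := by
    rintro _ ⟨u, hu, rfl⟩; exact hRinv u hu
  have hR₀p : IsPGroup p R₀ := R.isPGroup'.map _
  have hzC : z ∈ C := by rw [hC, Subgroup.mem_centralizer_singleton_iff]
  have hzR : z ∈ R₀ := by
    refine ⟨⟨z, hzC⟩, ?_, rfl⟩
    have hn : Subgroup.zpowers (⟨z, hzC⟩ : C) ≤ Subgroup.center C := by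
      rw [Subgroup.zpowers_le, Subgroup.mem_center_iff]
      intro u
      exact Subtype.ext (Subgroup.mem_centralizer_singleton_iff.1 u.2)
    haveI : (Subgroup.zpowers (⟨z, hzC⟩ : C)).Normal :=
      ⟨fun v hv u => by rw [Subgroup.mem_center_iff.1 (hn hv) u, mul_inv_cancel_right]; exact hv⟩
    have hzp : IsPGroup p (Subgroup.zpowers (⟨z, hzC⟩ : C)) := by
      obtain ⟨k, hk⟩ := hz
      refine IsPGroup.of_card (n := k) ?_
      rw [Nat.card_zpowers, ← Subgroup.orderOf_coe]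
      exact hk
    have h5 := R.is_maximal' (R.isPGroup'.to_sup_of_normal_right hzp) le_sup_left
    exact h5 ▸ (le_sup_right : _ ≤ (R : Subgroup C) ⊔ _) (Subgroup.mem_zpowers _)
  have hcentral : ∀ u ∈ R₀, ∀ v ∈ R₀, u * v = v * u := by
    intro u hu v hv
    have h := hR₀inv _ (mul_mem hu hv)
    rw [show g * (u * v) * g⁻¹ = g * u * g⁻¹ * (g * v * g⁻¹) by group, hR₀inv u hu, hR₀inv v hv,
      ← mul_inv_rev] at h
    exact inv_injective h.symm
  -- `p`-elements normalising `R₀` lie in it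
  have hnormp : ∀ u : G, u ∈ Subgroup.normalizer (R₀ : Set G) → (∃ k, orderOf u = p ^ k) → u ∈ R₀ := by
    intro u hu hup
    let φ := Subgroup.normalizerMonoidHom R₀
    have hgN : ∀ v ∈ R₀, u⁻¹ * v * u ∈ R₀ := fun v hv => by
      have := (Subgroup.mem_normalizer_iff.1 (inv_mem hu) v).1 hv
      simpa using this
    set g2 := u * g * u⁻¹ with hg2def
    have hg2 : ∀ v ∈ R₀, g2 * v * g2⁻¹ = v⁻¹ := by
      intro v hv
      rw [hg2def, show u * g * u⁻¹ * v * (u * g * u⁻¹)⁻¹ = u * (g * (u⁻¹ * v * u) * g⁻¹) * u⁻¹ by group,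
        hR₀inv _ (hgN v hv)]
      group
    have hg2sq : g2 * g2 = 1 := by
      rw [hg2def, show u * g * u⁻¹ * (u * g * u⁻¹) = u * (g * g) * u⁻¹ by group, hg]; group
    set s := g * g2 with hs
    have hsC : ∀ v ∈ R₀, s * v * s⁻¹ = v := fun v hv => by
      rw [hs, show g * g2 * v * (g * g2)⁻¹ = g * (g2 * v * g2⁻¹) * g⁻¹ by group, hg2 v hv,
        hR₀inv _ (inv_mem hv), inv_inv]
    have hsz : s ∈ C := by
      rw [hC, Subgroup.mem_centralizer_singleton_iff]
      exact mul_inv_eq_iff_eq_mul.1 (hsC z hzR)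
    obtain ⟨j, hj⟩ : Odd (orderOf s) := hCz.of_dvd_nat (Subgroup.orderOf_dvd_natCard _ hsz)
    have hsg : g * s * g⁻¹ = s⁻¹ := by
      rw [hs, mul_inv_rev, hginv, inv_eq_of_mul_eq_one_left hg2sq, ← mul_assoc g g g2, hg, one_mul]
    have hspow : ∀ i : ℕ, s ^ i * g = g * (s ^ i)⁻¹ := fun i => by
      have h1 : g * s ^ i * g⁻¹ = (s ^ i)⁻¹ := by rw [← conj_pow, hsg, inv_pow]
      calc s ^ i * g = g * (g * s ^ i * g⁻¹) * (g * g⁻¹) := by
            rw [show g * (g * s ^ i * g⁻¹) * (g * g⁻¹) = (g * g) * s ^ i * g⁻¹ by group, hg, one_mul,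
              hginv]
        _ = g * (s ^ i)⁻¹ := by rw [h1, mul_inv_cancel, mul_one]
    have hm : s ^ j * g * (s ^ j)⁻¹ = g2 := by
      rw [hspow, mul_assoc, ← mul_inv_rev, ← pow_add,
        show (s ^ (j + j))⁻¹ = s by
          rw [inv_eq_iff_mul_eq_one, ← pow_succ, show j + j + 1 = orderOf s by omega, pow_orderOf_eq_one],
        hs, ← mul_assoc, hg, one_mul]
    set w := (s ^ j)⁻¹ * u with hw
    have hwg : w ∈ Subgroup.centralizer ({g} : Set G) := by
      rw [Subgroup.mem_centralizer_singleton_iff]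
      have h1 : s ^ j * g * (s ^ j)⁻¹ = u * g * u⁻¹ := hm
      calc w * g = (s ^ j)⁻¹ * (u * g * u⁻¹) * u := by rw [hw]; group
        _ = g * w := by rw [← h1, hw]; group
    have hsN : s ^ j ∈ Subgroup.normalizer (R₀ : Set G) :=
      Subgroup.pow_mem _ (Subgroup.mem_normalizer_iff.2 fun v => ⟨fun hv => by rw [hsC v hv]; exact hv,
        fun hv => by
          have h1 := hsC _ hv
          have : v = s * v * s⁻¹ := mul_left_cancel (mul_right_cancel h1).symm
          rw [this]; exact hv⟩) _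
    have hsker : φ ⟨s ^ j, hsN⟩ = 1 := by
      refine MulEquiv.ext fun v => Subtype.ext ?_
      show s ^ j * (v : G) * (s ^ j)⁻¹ = v
      have hc : Commute s (v : G) := mul_inv_eq_iff_eq_mul.1 (hsC v v.2)
      rw [(hc.pow_left j).eq, mul_inv_cancel_right]
    have hwN : w ∈ Subgroup.normalizer (R₀ : Set G) := mul_mem (inv_mem hsN) hu
    have hφ : φ ⟨u, hu⟩ = φ ⟨w, hwN⟩ := by
      rw [show (⟨u, hu⟩ : Subgroup.normalizer (R₀ : Set G)) = ⟨s ^ j, hsN⟩ * ⟨w, hwN⟩ from
        Subtype.ext (by show u = s ^ j * w; rw [hw, mul_inv_cancel_left]), map_mul, hsker, one_mul]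
    obtain ⟨k, hk⟩ := hup
    have h1 : orderOf (φ ⟨u, hu⟩) ∣ p ^ k := hk ▸ (orderOf_map_dvd φ _).trans (by rw [← Subgroup.orderOf_coe])
    have h2 : Nat.Coprime (p ^ k) (orderOf (φ ⟨u, hu⟩)) := by
      rw [hφ]
      refine Nat.Coprime.pow_left _ ((Nat.Prime.coprime_iff_not_dvd hp.out).2 fun h => hCg ?_)
      refine h.trans ((orderOf_map_dvd φ _).trans ?_)
      rw [← Subgroup.orderOf_coe]
      exact Subgroup.orderOf_dvd_natCard _ hwg
    have h3 : φ ⟨u, hu⟩ = 1 :=
      orderOf_eq_one_iff.1 (Nat.eq_one_of_dvd_coprimes h2 h1 dvd_rfl)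
    have huR : ∀ v ∈ R₀, u * v = v * u := fun v hv => by
      have := congrArg Subtype.val (DFunLike.congr_fun h3 ⟨v, hv⟩)
      exact mul_inv_eq_iff_eq_mul.1 this
    have huC : u ∈ C := by
      rw [hC, Subgroup.mem_centralizer_singleton_iff]; exact huR z hzR
    -- `R` with `u` is still a `p`-group
    let U : Subgroup C := Subgroup.zpowers ⟨u, huC⟩
    have hUp : IsPGroup p U := IsPGroup.of_card (n := k) (by
      rw [Nat.card_zpowers, ← Subgroup.orderOf_coe]; exact hk)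
    have hUn : U ≤ Subgroup.normalizer ((R : Subgroup C) : Set C) := by
      rw [Subgroup.zpowers_le, Subgroup.mem_normalizer_iff]
      intro v
      have key : ∀ v ∈ (R : Subgroup C), (⟨u, huC⟩ : C) * v * (⟨u, huC⟩ : C)⁻¹ = v := fun v hv =>
        Subtype.ext (by
          show u * (v : G) * u⁻¹ = v
          rw [huR v ⟨v, hv, rfl⟩, mul_inv_cancel_right])
      refine ⟨fun hv => by rw [key v hv]; exact hv, fun hv => ?_⟩
      have h4 := key _ hv
      have : v = (⟨u, huC⟩ : C) * v * (⟨u, huC⟩ : C)⁻¹ := mul_left_cancel (mul_right_cancel h4).symm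
      rw [this]; exact hv
    have hsupp : IsPGroup p ((R : Subgroup C) ⊔ U : Subgroup C) :=
      R.isPGroup'.to_sup_of_normal_left' hUp hUn
    have h5 := R.is_maximal' hsupp le_sup_left
    exact ⟨⟨u, huC⟩, h5 ▸ (le_sup_right : U ≤ _) (Subgroup.mem_zpowers _), rfl⟩
  obtain ⟨Q, hQ⟩ := hR₀p.exists_le_sylow
  have hQR : (Q : Subgroup G) = R₀ := by
    haveI : Group.IsNilpotent (Q : Subgroup G) := Q.isPGroup'.isNilpotent
    have hnc : NormalizerCondition (Q : Subgroup G) := normalizerCondition_of_isNilpotent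
    refine le_antisymm ?_ hQ
    by_contra hne
    obtain ⟨⟨u, huQ⟩, huN, huR⟩ := Set.exists_of_ssubset (hnc (R₀.subgroupOf Q) (lt_top_iff_ne_top.2 fun h =>
      hne fun v hv => (Subgroup.mem_subgroupOf (h := (⟨v, hv⟩ : (Q : Subgroup G)))).1 (h ▸ Subgroup.mem_top _)))
    apply huR
    show u ∈ R₀
    refine hnormp u (Subgroup.mem_normalizer_iff.2 fun v => ?_) ?_
    · constructor
      · intro hv
        exact (Subgroup.mem_normalizer_iff.1 huN ⟨v, hQ hv⟩).1 hv
      · intro hv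
        have hvQ : v ∈ (Q : Subgroup G) := by
          have := mul_mem (mul_mem (inv_mem huQ) (hQ hv)) huQ
          simpa [mul_assoc] using this
        exact (Subgroup.mem_normalizer_iff.1 huN ⟨v, hvQ⟩).2 hv
    · obtain ⟨k, hk⟩ := Q.isPGroup' ⟨u, huQ⟩
      obtain ⟨i, -, hi⟩ := (Nat.dvd_prime_pow hp.out).1 (orderOf_dvd_of_pow_eq_one hk)
      exact ⟨i, by rw [← hi, ← Subgroup.orderOf_coe]⟩
  exact ⟨Q, fun u hu => hR₀inv u (hQR ▸ hu), hQR ▸ hzR⟩

theorem defect_zero_or_normalizer_even {p : ℕ} [hp : Fact p.Prime] (h2G : 2 ∣ Nat.card G)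
    (hC : ∀ g : G, g ≠ 1 → (∃ k : ℕ, orderOf g = p ^ k) →
      Odd (Nat.card (Subgroup.centralizer ({g} : Set G)))) :
    (∃ χ : IrrCharacter G,
      (charDegree (χ : G → ℂ)).factorization p = (Nat.card G).factorization p) ∨
    ∀ P : Sylow p G, Even (Nat.card (Subgroup.normalizer ((P : Subgroup G) : Set G))) ∧
      IsMulCommutative (P : Subgroup G) := by
  classical
  haveI : Fact (Nat.Prime 2) := ⟨Nat.prime_two⟩
  obtain ⟨x, hx⟩ := exists_prime_orderOf_dvd_card' (G := G) 2 h2G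
  have hx2 : x * x = 1 := by rw [← pow_two, ← hx, pow_orderOf_eq_one]
  have hfree : ∀ g : G, orderOf g = 2 → ¬ p ∣ Nat.card (Subgroup.centralizer ({g} : Set G)) := by
    intro g hg hdvd
    obtain ⟨⟨y, hyC⟩, hy⟩ := exists_prime_orderOf_dvd_card' p hdvd
    have hy' : orderOf y = p := by rw [← hy, ← Subgroup.orderOf_coe]
    have hgC : g ∈ Subgroup.centralizer ({y} : Set G) := by
      rw [Subgroup.mem_centralizer_singleton_iff] at hyC ⊢
      exact hyC.symm
    have h := (hC y (fun h1 => hp.out.ne_one (by rw [← hy', h1, orderOf_one]))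
      ⟨1, by rw [pow_one, hy']⟩).of_dvd_nat (Subgroup.orderOf_dvd_natCard _ hgC)
    rw [hg] at h
    exact absurd h (by decide)
  have P₀ : Sylow p G := default
  by_cases hinv : ∀ g : G, IsConj x g → ∀ z ∈ (P₀ : Subgroup G), z ≠ 1 → g * z * g⁻¹ ≠ z⁻¹
  · left
    obtain ⟨χ, hχ⟩ := exists_pow_dvd_degree (p := p) hx2 (P₀ : Subgroup G)
      P₀.card_eq_multiplicity hinv
    obtain ⟨d, hd0, hd, hdG⟩ := IsIrrCharacter.exists_degree_dvd χ.2
    rw [Nat.factorization_eq_zero_of_not_dvd (hfree x hx), Nat.sub_zero,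
      charDegree, hd, Complex.natCast_re, Nat.floor_natCast] at hχ
    refine ⟨χ, ?_⟩
    rw [charDegree, hd, Complex.natCast_re, Nat.floor_natCast]
    exact le_antisymm ((Nat.factorization_le_iff_dvd hd0.ne' Nat.card_pos.ne').2 hdG p)
      ((Nat.Prime.pow_dvd_iff_le_factorization hp.out hd0.ne').1 hχ)
  · right
    push Not at hinv
    obtain ⟨g, hgx, z, hz, hz1, hgz⟩ := hinv
    obtain ⟨i, rfl⟩ := isConj_iff.1 hgx
    have hg : orderOf (i * x * i⁻¹) = 2 := by
      rw [← hx]; exact orderOf_injective (MulAut.conj i).toMonoidHom (MulAut.conj i).injective x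
    have hzp : ∃ k, orderOf z = p ^ k := by
      obtain ⟨k, hk⟩ := P₀.isPGroup' ⟨z, hz⟩
      obtain ⟨m, -, hm⟩ := (Nat.dvd_prime_pow hp.out).1 (orderOf_dvd_of_pow_eq_one hk)
      exact ⟨m, by rw [← hm, ← Subgroup.orderOf_coe]⟩
    obtain ⟨Q, hQ, -⟩ := exists_abelian_sylow_inverted (p := p)
      (g := i * x * i⁻¹) (by rw [← pow_two, ← hg, pow_orderOf_eq_one]) hgz hzp (hC z hz1 hzp)
      (hfree _ hg)
    intro P
    obtain ⟨w, hw⟩ := MulAction.exists_smul_eq G Q P
    have hmem : ∀ u ∈ (P : Subgroup G), w⁻¹ * u * w ∈ (Q : Subgroup G) := by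
      intro u hu
      rw [← hw, Sylow.coe_subgroup_smul, Subgroup.mem_pointwise_smul_iff_inv_smul_mem] at hu
      simpa using hu
    set g := i * x * i⁻¹ with hgdef
    have hPinv : ∀ u ∈ (P : Subgroup G), w * g * w⁻¹ * u * (w * g * w⁻¹)⁻¹ = u⁻¹ := by
      intro u hu
      rw [show w * g * w⁻¹ * u * (w * g * w⁻¹)⁻¹ = w * (g * (w⁻¹ * u * w) * g⁻¹) * w⁻¹ by group,
        hQ _ (hmem u hu)]
      group
    constructor
    · have hN : w * g * w⁻¹ ∈ Subgroup.normalizer ((P : Subgroup G) : Set G) := by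
        rw [Subgroup.mem_normalizer_iff]
        intro u
        refine ⟨fun hu => by rw [hPinv u hu]; exact inv_mem hu, fun hu => ?_⟩
        have h1 := hPinv _ hu
        have hgg : g * g = 1 := by rw [← pow_two, ← hg, pow_orderOf_eq_one]
        rw [show w * g * w⁻¹ * (w * g * w⁻¹ * u * (w * g * w⁻¹)⁻¹) * (w * g * w⁻¹)⁻¹ =
          w * (g * g) * w⁻¹ * u * (w * (g * g) * w⁻¹)⁻¹ by group, hgg] at h1
        simp only [mul_one, mul_inv_cancel, inv_one, one_mul] at h1
        rw [h1]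
        exact inv_mem hu
      refine even_iff_two_dvd.2 (dvd_trans ?_ (Subgroup.orderOf_dvd_natCard _ hN))
      rw [← hg]
      exact (orderOf_injective (MulAut.conj w).toMonoidHom (MulAut.conj w).injective g).symm.dvd
    · refine ⟨⟨fun a b => Subtype.ext ?_⟩⟩
      have h := hPinv _ (mul_mem a.2 b.2)
      rw [show w * g * w⁻¹ * ((a : G) * b) * (w * g * w⁻¹)⁻¹ =
        (w * g * w⁻¹ * a * (w * g * w⁻¹)⁻¹) * (w * g * w⁻¹ * b * (w * g * w⁻¹)⁻¹) by group,
        hPinv a a.2, hPinv b b.2, ← mul_inv_rev] at h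
      exact (inv_injective h).symm

end Cfsg.Agent.Lib.CharMisc
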