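import Cfsg.Agent.Lib.BlockHeights.InducedPart
import Cfsg.Agent.Lib.Blocks.Covering
import Cfsg.Agent.Lib.Blocks.PrincipalRestrict
import Mathlib.Data.ZMod.Basic

/-!
# Characters of degree prime to `p` in a block over a character of a normal subgroup
-/

set_option autoImplicit false
set_option linter.unusedSectionVars false
set_option linter.style.haveILetI false

namespace Cfsg.Agent.Lib.CharMisc

open Cfsg Cfsg.Agent.Lib.Blocks Cfsg.Agent.Lib.Characters Cfsg.Agent.Lib.BlockHeights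
open scoped ComplexConjugate

universe u

variable {G : Type u} [Group G] [Fintype G] {p : ℕ} {M : Ideal AlgInt} [M.IsPrime]

open Classical in
/-- The squares of the degrees prime to `p` in a block over `θ` sum to zero modulo `p`. -/
theorem dvd_sum_sq_over (hM : IsPModular p M) {B : Set (IrrCharacter G)} (hB : IsPBlock M B)
    (N : Subgroup G) [N.Normal] [Fintype N] (hidx : p ∣ N.index) (θ : IrrCharacter N)
    [Fintype (IrrCharacter G)] :
    p ∣ ∑ χ ∈ Finset.univ.filter (fun χ : IrrCharacter G => χ ∈ B ∧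
      ¬ p ∣ charDegree (χ : G → ℂ) ∧ classInner (fun n : N => (χ : G → ℂ) n) (θ : N → ℂ) ≠ 0),
      charDegree (χ : G → ℂ) ^ 2 := by
  classical
  haveI := Fintype.ofFinite (IrrCharacter N)
  have hp := hM.1
  choose m hm using fun (χ : IrrCharacter G) (φ : IrrCharacter N) =>
    IsCharacter.exists_classInner_nat (IsCharacter.restrict (irr_isCharacter χ) N)
      (irr_isCharacter φ)
  set K := ∑ φ ∈ Finset.univ.filter (fun φ : IrrCharacter N => φ ∈ conjClosure N {θ}),
    charDegree (φ : N → ℂ) with hK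
  have hres : ∀ χ : IrrCharacter G, m χ θ ≠ 0 → charDegree (χ : G → ℂ) = m χ θ * K := by
    intro χ h0
    have hne : classInner (fun n : N => (χ : G → ℂ) n) (θ : N → ℂ) ≠ 0 := by
      rw [hm]; exact_mod_cast h0
    have h := congrFun (eq_sum_classInner
      (IsCharacter.isClassFunction (IsCharacter.restrict (irr_isCharacter χ) N))) 1
    simp only [Finset.sum_apply, Pi.smul_apply, smul_eq_mul, hm, irr_apply_one,
      OneMemClass.coe_one] at h
    have h' : charDegree (χ : G → ℂ) = ∑ φ, m χ φ * charDegree (φ : N → ℂ) := by exact_mod_cast h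
    rw [h', hK, Finset.mul_sum, Finset.sum_filter]
    refine Finset.sum_congr rfl fun φ _ => ?_
    by_cases hφ : φ ∈ conjClosure N {θ}
    · rw [if_pos hφ]
      obtain ⟨g, ψ, hψ, rfl⟩ := hφ
      rw [Set.mem_singleton_iff] at hψ
      subst hψ
      have he : (m χ (conjIrrN N g ψ) : ℂ) = (m χ ψ : ℂ) := by
        rw [← hm, ← hm, classInner_restrict_conjIrrN]
      rw [Nat.cast_injective he]
    · rw [if_neg hφ]
      by_contra hne'
      have hmφ : classInner (fun n : N => (χ : G → ℂ) n) (φ : N → ℂ) ≠ 0 := by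
        rw [hm]; exact_mod_cast left_ne_zero_of_mul hne'
      obtain ⟨g, hg⟩ := exists_conjIrrN_eq N hne hmφ
      exact hφ ⟨g, θ, rfl, hg.symm⟩
  have htot : p ∣ ∑ χ ∈ Finset.univ.filter (fun χ : IrrCharacter G => χ ∈ B),
      m χ θ * charDegree (χ : G → ℂ) := by
    refine (memLocalIdeal_natCast_iff hM _).1 ?_
    have hval : ((∑ χ ∈ Finset.univ.filter (fun χ : IrrCharacter G => χ ∈ B),
        m χ θ * charDegree (χ : G → ℂ) : ℕ) : ℂ) = blockPart B (indFun N (θ : N → ℂ)) 1 := by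
      rw [Cfsg.Agent.Lib.BlockHeights.blockPart_eq_sum, Finset.sum_apply, Finset.sum_filter,
        Nat.cast_sum]
      refine Finset.sum_congr rfl fun χ _ => ?_
      rw [Pi.smul_apply, smul_eq_mul]
      split_ifs
      · rw [classInner_indFun N _ (irr_isClassFunction χ), ← classInner_conj_symm, hm, map_natCast,
          irr_apply_one]
        push_cast; rfl
      · simp
    rw [hval, blockPart_indFun_one, indFun_one, mul_assoc]
    obtain ⟨c, hc⟩ := hidx
    rw [hc, Nat.cast_mul, mul_assoc]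
    exact memLocalIdeal_mul_right ((memLocalIdeal_natCast_iff hM p).2 dvd_rfl)
      (memLocalRing_mul (memLocalRing_natCast c) (memLocalRing_mul
        (memLocalRing_of_isIntegral' (isIntegral_char θ 1))
        (memLocalRing_omega (isRCentral_resFun N (isRCentral_blockCoeff hM hB)) θ)))
  set S := Finset.univ.filter (fun χ : IrrCharacter G => χ ∈ B ∧
      ¬ p ∣ charDegree (χ : G → ℂ) ∧ classInner (fun n : N => (χ : G → ℂ) n) (θ : N → ℂ) ≠ 0)
    with hS
  have h1 : p ∣ ∑ χ ∈ Finset.univ.filter (fun χ : IrrCharacter G => χ ∈ B),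
      K * (m χ θ * charDegree (χ : G → ℂ)) := by
    rw [← Finset.mul_sum]
    exact dvd_mul_of_dvd_right htot K
  rw [← Finset.sum_filter_add_sum_filter_not _ (fun χ : IrrCharacter G =>
    ¬ p ∣ charDegree (χ : G → ℂ) ∧ classInner (fun n : N => (χ : G → ℂ) n) (θ : N → ℂ) ≠ 0),
    Finset.filter_filter] at h1
  have h2 : p ∣ ∑ χ ∈ (Finset.univ.filter (fun χ : IrrCharacter G => χ ∈ B)).filter (fun χ : IrrCharacter G =>
      ¬ (¬ p ∣ charDegree (χ : G → ℂ) ∧ classInner (fun n : N => (χ : G → ℂ) n) (θ : N → ℂ) ≠ 0)),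
      K * (m χ θ * charDegree (χ : G → ℂ)) := by
    refine Finset.dvd_sum fun χ hχ => ?_
    have h := (Finset.mem_filter.1 hχ).2
    by_cases hd : p ∣ charDegree (χ : G → ℂ)
    · exact dvd_mul_of_dvd_right (dvd_mul_of_dvd_right hd _) _
    · have h0 : classInner (fun n : N => (χ : G → ℂ) n) (θ : N → ℂ) = 0 :=
        by_contra fun hne => h ⟨hd, hne⟩
      rw [hm, Nat.cast_eq_zero] at h0
      simp [h0]
  have h3 := (Nat.dvd_add_left h2).1 h1
  convert h3 using 1
  refine Finset.sum_congr ?_ fun χ hχ => ?_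
  · ext χ; simp [hS]
  · have hne : m χ θ ≠ 0 := by
      have := (Finset.mem_filter.1 hχ).2
      rw [hm] at this
      exact_mod_cast (by tauto : ((m χ θ : ℕ) : ℂ) ≠ 0)
    rw [sq]
    nth_rw 1 [hres χ hne]
    ring

theorem sq_eq_one_of_ne_zero_two : ∀ y : ZMod 2, y ≠ 0 → (1 : ZMod 2) = y ^ 2 := by decide

theorem sq_eq_one_of_ne_zero_three : ∀ y : ZMod 3, y ≠ 0 → (1 : ZMod 3) = y ^ 2 := by decide

theorem over_count (hM : IsPModular p M) {B : Set (IrrCharacter G)} (hB : IsPBlock M B)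
    (P : Sylow p G) (N : Subgroup G) [N.Normal] [Fintype N] (hPN : ¬ (P : Subgroup G) ≤ N)
    (θ : IrrCharacter N) :
    (Nat.card {χ : IrrCharacter G // χ ∈ B ∧ ¬ p ∣ charDegree (χ : G → ℂ) ∧
        classInner (fun n : N => (χ : G → ℂ) n) (θ : N → ℂ) ≠ 0} = 0 ∨
      2 ≤ Nat.card {χ : IrrCharacter G // χ ∈ B ∧ ¬ p ∣ charDegree (χ : G → ℂ) ∧
        classInner (fun n : N => (χ : G → ℂ) n) (θ : N → ℂ) ≠ 0}) ∧
    (p ≤ 3 → p ∣ Nat.card {χ : IrrCharacter G // χ ∈ B ∧ ¬ p ∣ charDegree (χ : G → ℂ) ∧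
        classInner (fun n : N => (χ : G → ℂ) n) (θ : N → ℂ) ≠ 0}) := by
  classical
  haveI := Fintype.ofFinite (IrrCharacter G)
  haveI := Fact.mk hM.1
  have hidx : p ∣ N.index := by_contra fun h => hPN (sylow_le_of_not_dvd_index N h P)
  have h := dvd_sum_sq_over hM hB N hidx θ
  rw [Nat.card_eq_fintype_card, Fintype.card_subtype]
  set S := Finset.univ.filter (fun χ : IrrCharacter G => χ ∈ B ∧
      ¬ p ∣ charDegree (χ : G → ℂ) ∧ classInner (fun n : N => (χ : G → ℂ) n) (θ : N → ℂ) ≠ 0)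
    with hS
  have hu : ∀ χ ∈ S, ¬ p ∣ charDegree (χ : G → ℂ) := fun χ hχ => (Finset.mem_filter.1 hχ).2.2.1
  refine ⟨?_, fun hp3 => ?_⟩
  · by_contra hc
    obtain ⟨χ, hχ⟩ := Finset.card_eq_one.1 (show S.card = 1 by omega)
    rw [hχ, Finset.sum_singleton] at h
    exact hu χ (by rw [hχ]; exact Finset.mem_singleton_self χ) (hM.1.dvd_of_dvd_pow h)
  · have h' := (CharP.cast_eq_zero_iff (ZMod p) p _).2 h
    rw [Nat.cast_sum] at h'
    refine (CharP.cast_eq_zero_iff (ZMod p) p _).1 ?_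
    rw [← h', Finset.card_eq_sum_ones, Nat.cast_sum]
    refine Finset.sum_congr rfl fun χ hχ => ?_
    have hne : (charDegree (χ : G → ℂ) : ZMod p) ≠ 0 := fun h0 =>
      hu χ hχ ((CharP.cast_eq_zero_iff (ZMod p) p _).1 h0)
    rw [Nat.cast_pow, Nat.cast_one]
    rcases (show p = 2 ∨ p = 3 by have := hM.1.two_le; omega) with rfl | rfl
    · exact sq_eq_one_of_ne_zero_two _ hne
    · exact sq_eq_one_of_ne_zero_three _ hne

end Cfsg.Agent.Lib.CharMisc
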