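import Cfsg.Agent.Lib.BlockHeights.DegreeSum
import Cfsg.Agent.Lib.BlockHeights.Galois
import Cfsg.Agent.Lib.OddChar.GaloisConj

/-!
# Sets of characters closed under the pairing on regular elements, and the Galois action on the
principal block
-/

set_option autoImplicit false
set_option linter.unusedSectionVars false
set_option linter.style.haveILetI false

namespace Cfsg.Agent.Lib.CharMisc

open Cfsg Cfsg.Agent.Lib.Blocks Cfsg.Agent.Lib.Characters Cfsg.Agent.Lib.BlockHeights
open scoped ComplexConjugate

universe u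

variable {G : Type u} [Group G] [Fintype G] {p : ℕ} {M : Ideal AlgInt} [M.IsPrime]

theorem pPow_mul_regInd_mul_conj [Fintype (IrrCharacter G)] (hp : p.Prime) (φ : IrrCharacter G)
    (y : G) :
    (p : ℂ) ^ (Nat.card G).factorization p * (regInd p y * conj ((φ : G → ℂ) y)) =
      ∑ ψ : IrrCharacter G, (pairing p φ ψ : ℂ) * conj ((ψ : G → ℂ) y) := by
  have hcl : IsClassFunction G (pPowReg p * (φ : G → ℂ)) :=
    IsGeneralizedCharacter.isClassFunction (IsGeneralizedCharacter.mul
      (isGeneralizedCharacter_pPowReg hp) (IsCharacter.isGeneralizedCharacter (irr_isCharacter φ)))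
  have h := congrArg conj (congrFun (eq_sum_classInner hcl) y)
  simp only [Pi.mul_apply, pPowReg_apply, Finset.sum_apply, Pi.smul_apply, smul_eq_mul, map_mul,
    map_pow, map_natCast, map_sum, conj_regInd, ← pairing_eq_classInner hp, map_intCast] at h
  rw [← h, mul_assoc]

/-- The idempotent of a set of characters closed under the pairing is central and integral. -/
theorem isRCentral_blockCoeff_of_pairing (hM : IsPModular p M) {A : Set (IrrCharacter G)}
    (hA : ∀ χ ∈ A, ∀ ψ, ψ ∉ A → pairing p χ ψ = 0) : IsRCentral M (blockCoeff A) := by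
  classical
  haveI := Fintype.ofFinite (IrrCharacter G)
  have hp := hM.1
  have hp0 : (p : ℂ) ^ (Nat.card G).factorization p ≠ 0 :=
    pow_ne_zero _ (Nat.cast_ne_zero.2 hp.ne_zero)
  have hA' : ∀ χ ψ : IrrCharacter G, pairing p χ ψ ≠ 0 → (χ ∈ A ↔ ψ ∈ A) := fun χ ψ h =>
    ⟨fun hc => by_contra fun hn => h (hA χ hc ψ hn),
      fun hc => by_contra fun hn => h (by rw [pairing_symm hp]; exact hA ψ hc χ hn)⟩
  -- the projection of a combination annihilated on the regular elements
  have key : ∀ c : IrrCharacter G → ℂ,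
      (∀ y, regInd p y * ∑ φ : IrrCharacter G, c φ * conj ((φ : G → ℂ) y) = 0) →
      ∀ y, regInd p y * ∑ φ : IrrCharacter G,
        (if φ ∈ A then c φ * conj ((φ : G → ℂ) y) else 0) = 0 := by
    intro c hc y
    have hz : ∀ ψ : IrrCharacter G, ∑ φ : IrrCharacter G, c φ * (pairing p φ ψ : ℂ) = 0 := by
      intro ψ
      calc ∑ φ : IrrCharacter G, c φ * (pairing p φ ψ : ℂ)
          = (ordPart p G : ℂ)⁻¹ * ∑ y : G, (ψ : G → ℂ) y *
              (regInd p y * ∑ φ : IrrCharacter G, c φ * conj ((φ : G → ℂ) y)) := by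
            simp only [pairing_symm hp _ ψ, pairing_spec hp, Finset.mul_sum]
            rw [Finset.sum_comm]
            exact Finset.sum_congr rfl fun y _ => Finset.sum_congr rfl fun φ _ => by ring
        _ = 0 := by simp [hc]
    refine (mul_eq_zero.1 ?_).resolve_left hp0
    calc (p : ℂ) ^ (Nat.card G).factorization p * (regInd p y * ∑ φ : IrrCharacter G,
          (if φ ∈ A then c φ * conj ((φ : G → ℂ) y) else 0))
        = ∑ φ : IrrCharacter G, ∑ ψ : IrrCharacter G,
            (if φ ∈ A then c φ * (pairing p φ ψ : ℂ) * conj ((ψ : G → ℂ) y) else 0) := by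
          rw [Finset.mul_sum, Finset.mul_sum]
          refine Finset.sum_congr rfl fun φ _ => ?_
          split_ifs
          · simp only [mul_assoc, ← Finset.mul_sum, ← pPow_mul_regInd_mul_conj hp]
            ring
          · simp
      _ = ∑ ψ : IrrCharacter G, (if ψ ∈ A then
            (∑ φ : IrrCharacter G, c φ * (pairing p φ ψ : ℂ)) * conj ((ψ : G → ℂ) y) else 0) := by
          rw [Finset.sum_comm]
          refine Finset.sum_congr rfl fun ψ _ => ?_
          by_cases hψ : ψ ∈ A
          · rw [if_pos hψ, Finset.sum_mul]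
            refine Finset.sum_congr rfl fun φ _ => ?_
            split_ifs with hφ
            · rfl
            · have : pairing p φ ψ = 0 := by_contra fun h => hφ ((hA' φ ψ h).2 hψ)
              simp [this]
          · rw [if_neg hψ]
            refine Finset.sum_eq_zero fun φ _ => ?_
            split_ifs with hφ
            · simp [hA φ hφ ψ hψ]
            · rfl
      _ = 0 := by simp [hz]
  have hval : ∀ y, blockCoeff A y = ∑ φ : IrrCharacter G,
      (if φ ∈ A then (Nat.card G : ℂ)⁻¹ * (φ : G → ℂ) 1 * conj ((φ : G → ℂ) y) else 0) := by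
    intro y
    rw [blockCoeff_eq_finsum_inv, finsum_irr_eq_sum_ite, Finset.mul_sum]
    refine Finset.sum_congr rfl fun φ _ => ?_
    rw [IsCharacter.apply_inv (irr_isCharacter φ)]
    split_ifs <;> ring
  have hsing : ∀ y, ¬ IsPRegular p y → blockCoeff A y = 0 := by
    intro y hy
    refine (mul_eq_zero.1 ?_).resolve_left hp0
    have h : (p : ℂ) ^ (Nat.card G).factorization p * blockCoeff A y =
        ∑ φ : IrrCharacter G, ∑ ψ : IrrCharacter G, (if φ ∈ A then
          (Nat.card G : ℂ)⁻¹ * (φ : G → ℂ) 1 * ((pairing p φ ψ : ℂ) * conj ((ψ : G → ℂ) y))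
            else 0) := by
      rw [hval, Finset.sum_comm, Finset.mul_sum]
      refine Finset.sum_congr rfl fun ψ _ => ?_
      by_cases hψ : ψ ∈ A
      · rw [if_pos hψ]
        calc (p : ℂ) ^ (Nat.card G).factorization p *
              ((Nat.card G : ℂ)⁻¹ * (ψ : G → ℂ) 1 * conj ((ψ : G → ℂ) y))
            = ∑ φ : IrrCharacter G, (Nat.card G : ℂ)⁻¹ * ((pairing p ψ φ : ℂ) * (φ : G → ℂ) 1) *
                conj ((ψ : G → ℂ) y) := by
              rw [← Finset.sum_mul, ← Finset.mul_sum, sum_pairing_mul_apply_one hp]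
              ring
          _ = _ := by
              refine Finset.sum_congr rfl fun φ _ => ?_
              split_ifs with hφ
              · rw [pairing_symm hp φ ψ]; ring
              · have : pairing p ψ φ = 0 := hA ψ hψ φ hφ
                simp [this]
      · rw [if_neg hψ, mul_zero]
        refine (Finset.sum_eq_zero fun φ _ => ?_).symm
        split_ifs with hφ
        · simp [hA φ hφ ψ hψ]
        · rfl
    rw [h]
    refine Finset.sum_eq_zero fun φ _ => ?_
    split_ifs
    · rw [← Finset.mul_sum, ← pPow_mul_regInd_mul_conj hp, regInd_of_singular hy]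
      simp
    · simp
  refine ⟨isClassFunction_blockCoeff A, fun y => ?_⟩
  by_cases hy : IsPRegular p y
  swap
  · rw [hsing y hy]; exact memLocalRing_zero
  obtain ⟨b, hb, hexp⟩ := exists_classIndicator_expansion hM (isPRegular_one (G := G) hp)
  have hdelta : ∀ z : G, classIndicator 1 z =
      regInd p z * ∑ φ : IrrCharacter G, (Nat.card G : ℂ)⁻¹ * (φ : G → ℂ) 1 *
        conj ((φ : G → ℂ) z) := by
    intro z
    have hs := sum_irr_mul_conj (1 : G) z
    simp only [mul_assoc, ← Finset.mul_sum, hs]
    by_cases hz : z = 1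
    · subst hz
      have hc : Subgroup.centralizer ({(1 : G)} : Set G) = ⊤ := by
        ext x; simp [Subgroup.mem_centralizer_singleton_iff]
      rw [if_pos (IsConj.refl 1), hc, Subgroup.card_top, regInd_of_regular (isPRegular_one hp),
        inv_mul_cancel₀ (Nat.cast_ne_zero.2 Nat.card_pos.ne'), mul_one]
      simp [classIndicator]
    · have hn : ¬ IsConj (1 : G) z := fun h => hz ((isConj_one_right.1 h))
      rw [if_neg hn]
      simp [classIndicator, Ne.symm hz]
  have h := key (fun φ => b φ - (Nat.card G : ℂ)⁻¹ * (φ : G → ℂ) 1) (fun z => by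
    simp only [sub_mul, Finset.sum_sub_distrib, mul_sub, ← hexp, ← hdelta, sub_self]) y
  rw [regInd_of_regular hy, one_mul] at h
  have h2 : blockCoeff A y = ∑ φ : IrrCharacter G,
      (if φ ∈ A then b φ * conj ((φ : G → ℂ) y) else 0) := by
    rw [hval, eq_comm, ← sub_eq_zero, ← Finset.sum_sub_distrib, ← h]
    exact Finset.sum_congr rfl fun φ _ => by split_ifs <;> ring
  rw [h2]
  refine memLocalRing_sum _ fun φ _ => ?_
  split_ifs
  · rw [← IsCharacter.apply_inv (irr_isCharacter φ)]
    exact memLocalRing_mul (hb φ) (memLocalRing_of_isIntegral' (isIntegral_char φ _))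
  · exact memLocalRing_zero

/-- A set of characters closed under the pairing is a union of blocks. -/
theorem blockOf_subset_of_pairing (hM : IsPModular p M) {A : Set (IrrCharacter G)}
    (hA : ∀ χ ∈ A, ∀ ψ, ψ ∉ A → pairing p χ ψ = 0) {χ : IrrCharacter G} (hχ : χ ∈ A) :
    blockOf M (χ : G → ℂ) ⊆ A :=
  blockOf_subset_of_isRCentral (isRCentral_blockCoeff_of_pairing hM hA) hχ

/-- Composition with a coprime power map. -/
def powIrr {k : ℕ} (hk : Nat.Coprime k (Nat.card G)) (χ : IrrCharacter G) : IrrCharacter G :=
  ⟨fun g => (χ : G → ℂ) (g ^ k), OddChar.isIrrCharacter_comp_pow hk χ.2⟩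

theorem powIrr_apply {k : ℕ} (hk : Nat.Coprime k (Nat.card G)) (χ : IrrCharacter G) (g : G) :
    (powIrr hk χ : G → ℂ) g = (χ : G → ℂ) (g ^ k) := rfl

theorem powIrr_injective {k : ℕ} (hk : Nat.Coprime k (Nat.card G)) :
    Function.Injective (powIrr hk : IrrCharacter G → IrrCharacter G) := fun χ ψ h => by
  refine Subtype.ext (funext fun g => ?_)
  obtain ⟨g', rfl⟩ := (powCoprime (G := G) hk.symm).surjective g
  exact congrFun (congrArg Subtype.val h) g'

theorem pairing_powIrr (hp : p.Prime) {k : ℕ} (hk : Nat.Coprime k (Nat.card G))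
    (χ ψ : IrrCharacter G) : pairing p (powIrr hk χ) (powIrr hk ψ) = pairing p χ ψ := by
  have h : (pairing p (powIrr hk χ) (powIrr hk ψ) : ℂ) = (pairing p χ ψ : ℂ) := by
    rw [pairing_spec hp, pairing_spec hp]
    congr 1
    refine Fintype.sum_equiv (powCoprime (G := G) hk.symm) _ _ fun g => ?_
    have hreg : regInd p ((powCoprime (G := G) hk.symm) g) = regInd p g := by
      classical
      have hord : orderOf (g ^ k) = orderOf g :=
        Nat.Coprime.orderOf_pow ((hk.coprime_dvd_right (orderOf_dvd_natCard g)).symm)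
      unfold regInd IsPRegular
      simp only [powCoprime_apply, hord]
      split_ifs <;> rfl
    rw [hreg]
    rfl
  exact_mod_cast h

/-- The principal block is stable under the Galois action. -/
theorem powIrr_mem_principalBlock_iff (hM : IsPModular p M) {k : ℕ}
    (hk : Nat.Coprime k (Nat.card G)) (χ : IrrCharacter G) :
    powIrr hk χ ∈ principalBlock M G ↔ χ ∈ principalBlock M G := by
  classical
  set A : Set (IrrCharacter G) := {η | powIrr hk η ∈ principalBlock M G} with hA
  have hsub : principalBlock M G ⊆ A := by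
    have htriv : trivIrr G ∈ A := by
      show powIrr hk (trivIrr G) ∈ principalBlock M G
      have : powIrr hk (trivIrr G) = trivIrr G :=
        Subtype.ext (funext fun g => by rw [powIrr_apply, trivIrr_apply, trivIrr_apply])
      rw [this]
      exact sameBlock_refl _
    have hclosed : ∀ η ∈ A, ∀ ψ, ψ ∉ A → pairing p η ψ = 0 := fun η hη ψ hψ => by
      rw [← pairing_powIrr hM.1 hk]
      exact pairing_eq_zero hM isPBlock_principalBlock hη hψ
    have h1 := blockOf_subset_of_pairing (χ := trivIrr G) hM hclosed htriv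
    intro η hη
    exact h1 (show η ∈ blockOf M (trivIrr G : G → ℂ) from hη)
  have hAfin : A.ncard ≤ (principalBlock M G).ncard :=
    Set.ncard_le_ncard_of_injOn (powIrr hk) (fun η hη => hη) (powIrr_injective hk).injOn
      (Set.toFinite _)
  have heq : principalBlock M G = A :=
    Set.eq_of_subset_of_ncard_le hsub hAfin (Set.toFinite _)
  exact (Set.ext_iff.1 heq χ).symm

end Cfsg.Agent.Lib.CharMisc
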