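import Cfsg.Agent.Lib.CharMisc.PairingClosed
import Cfsg.Agent.Lib.Blocks.Covering
import Cfsg.Agent.Lib.Blocks.Quotient2
import Cfsg.Agent.Lib.Cores.PCore

/-!
# The principal block and a normal subgroup of order prime to `p`; sums of squares of values
-/

set_option autoImplicit false
set_option linter.unusedSectionVars false
set_option linter.style.haveILetI false

namespace Cfsg.Agent.Lib.CharMisc

open Cfsg Cfsg.Agent.Lib.Blocks Cfsg.Agent.Lib.Characters Cfsg.Agent.Lib.BlockHeights
open scoped ComplexConjugate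

universe u

variable {G : Type u} [Group G] [Fintype G] {p : ℕ} {M : Ideal AlgInt} [M.IsPrime]
  (K : Subgroup G) [K.Normal] [Fintype (G ⧸ K)]

theorem inflIrr_injective : Function.Injective (inflIrr K : IrrCharacter (G ⧸ K) → IrrCharacter G) :=
  fun η η' h => Subtype.ext (funext fun c => by
    obtain ⟨g, rfl⟩ := QuotientGroup.mk'_surjective K c
    exact congrFun (congrArg Subtype.val h) g)

theorem regInd_mk' (hp : p.Prime) (hK : ¬ p ∣ Nat.card K) (y : G) :
    regInd p (QuotientGroup.mk' K y) = regInd p y := by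
  classical
  have h : IsPRegular p (QuotientGroup.mk' K y) ↔ IsPRegular p y := by
    unfold IsPRegular
    constructor
    · intro h hd
      have hdvd : orderOf y ∣ orderOf (QuotientGroup.mk' K y) * Nat.card K := by
        refine orderOf_dvd_of_pow_eq_one ?_
        rw [pow_mul]
        have hmem : y ^ orderOf (QuotientGroup.mk' K y) ∈ K := by
          rw [← QuotientGroup.eq_one_iff]
          show QuotientGroup.mk' K (y ^ orderOf (QuotientGroup.mk' K y)) = 1
          rw [map_pow, pow_orderOf_eq_one]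
        exact congrArg Subtype.val (pow_card_eq_one' (x := (⟨_, hmem⟩ : K)))
      rcases hp.dvd_mul.1 (hd.trans hdvd) with h1 | h1
      exacts [h h1, hK h1]
    · exact fun h hd => h (hd.trans (orderOf_map_dvd _ y))
  unfold regInd
  by_cases hy : IsPRegular p y
  · rw [if_pos (h.2 hy), if_pos hy]
  · rw [if_neg (mt h.1 hy), if_neg hy]

theorem sum_comp_mk' (F : G ⧸ K → ℂ) :
    ∑ y : G, F (QuotientGroup.mk' K y) = (Nat.card K : ℂ) * ∑ c : G ⧸ K, F c := by
  classical
  rw [← Finset.sum_fiberwise Finset.univ (fun y => QuotientGroup.mk' K y), Finset.mul_sum]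
  refine Finset.sum_congr rfl fun c _ => ?_
  rw [Finset.sum_congr rfl fun y hy => by rw [(Finset.mem_filter.1 hy).2], Finset.sum_const,
    nsmul_eq_mul]
  congr 2
  obtain ⟨g, rfl⟩ := QuotientGroup.mk'_surjective K c
  rw [← Fintype.card_subtype, ← Nat.card_eq_fintype_card]
  exact Nat.card_congr
    { toFun := fun y => ⟨g⁻¹ * y.1, QuotientGroup.eq.1 (y.2.symm)⟩
      invFun := fun k => ⟨g * k.1, by
        rw [map_mul]
        simp [(QuotientGroup.eq_one_iff _).2 k.2]⟩
      left_inv := fun y => Subtype.ext (mul_inv_cancel_left g y.1)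
      right_inv := fun k => Subtype.ext (inv_mul_cancel_left g k.1) }

theorem pairing_inflIrr_eq_zero (hp : p.Prime) (hK : ¬ p ∣ Nat.card K)
    {η η' : IrrCharacter (G ⧸ K)} (h : pairing p η η' = 0) :
    pairing p (inflIrr K η) (inflIrr K η') = 0 := by
  have h1 := pairing_spec hp η η'
  rw [h, Int.cast_zero, eq_comm, mul_eq_zero] at h1
  have h2 : (pairing p (inflIrr K η) (inflIrr K η') : ℂ) = 0 := by
    rw [pairing_spec hp]
    have : ∑ y : G, regInd p y * ((inflIrr K η : G → ℂ) y * conj ((inflIrr K η' : G → ℂ) y)) =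
        (Nat.card K : ℂ) * ∑ c : G ⧸ K, regInd p c *
          ((η : G ⧸ K → ℂ) c * conj ((η' : G ⧸ K → ℂ) c)) := by
      rw [← sum_comp_mk' K]
      refine Finset.sum_congr rfl fun y _ => ?_
      rw [regInd_mk' K hp hK]
      rfl
    rw [this, h1.resolve_left (inv_ne_zero ordPart_ne_zero), mul_zero, mul_zero]
  exact_mod_cast h2

theorem inflIrr_trivIrr : inflIrr K (trivIrr (G ⧸ K)) = trivIrr G :=
  Subtype.ext (funext fun g => by
    show (trivIrr (G ⧸ K) : G ⧸ K → ℂ) (QuotientGroup.mk' K g) = _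
    rw [trivIrr_apply, trivIrr_apply])

/-- The principal block of `G` is inflated from `G ⧸ K` for `K` of order prime to `p`. -/
theorem principalBlock_eq_image (hM : IsPModular p M) (hK : ¬ p ∣ Nat.card K) :
    principalBlock M G = inflIrr K '' principalBlock M (G ⧸ K) := by
  classical
  haveI : Fintype K := Fintype.ofFinite K
  refine Set.Subset.antisymm ?_ ?_
  · have hmem : trivIrr G ∈ inflIrr K '' principalBlock M (G ⧸ K) :=
      ⟨trivIrr (G ⧸ K), sameBlock_refl _, inflIrr_trivIrr K⟩
    have hclosed : ∀ χ ∈ inflIrr K '' principalBlock M (G ⧸ K),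
        ∀ ψ, ψ ∉ inflIrr K '' principalBlock M (G ⧸ K) → pairing p χ ψ = 0 := by
      rintro _ ⟨η, hη, rfl⟩ ψ hψ
      by_cases hs : ψ ∈ blockOf M (inflIrr K η : G → ℂ)
      · have htr : ∀ n ∈ K, (ψ : G → ℂ) n = (ψ : G → ℂ) 1 :=
          (classInner_trivIrr_ne_zero_iff K ψ).1 (classInner_ne_zero_of_sameBlock K hM hK hs
            ((classInner_trivIrr_ne_zero_iff K (inflIrr K η)).2 fun n hn => by
              show (η : G ⧸ K → ℂ) (QuotientGroup.mk' K n) = (η : G ⧸ K → ℂ) (QuotientGroup.mk' K 1)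
              rw [map_one, (QuotientGroup.eq_one_iff n).2 hn |> fun h => show
                QuotientGroup.mk' K n = 1 from h]))
        obtain ⟨η', hη', he⟩ := IsIrrCharacter.exists_quotient ψ.2 K htr
        have hψe : ψ = inflIrr K ⟨η', hη'⟩ := Subtype.ext he
        rw [hψe] at hψ ⊢
        refine pairing_inflIrr_eq_zero K hM.1 hK (pairing_eq_zero hM isPBlock_principalBlock hη ?_)
        exact fun h => hψ ⟨_, h, rfl⟩
      · exact pairing_eq_zero hM (isPBlock_blockOf _) (self_mem_blockOf _) hs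
    intro χ hχ
    exact blockOf_subset_of_pairing (χ := trivIrr G) hM hclosed hmem
      (show χ ∈ blockOf M (trivIrr G : G → ℂ) from hχ)
  · rintro _ ⟨η, hη, rfl⟩
    have h := sameBlock_inflIrr K (η := trivIrr (G ⧸ K)) (η' := η) hη
    rw [inflIrr_trivIrr] at h
    exact h

theorem finsum_principal_eq_quotient (hM : IsPModular p M) (hK : ¬ p ∣ Nat.card K)
    {A : Type*} [AddCommMonoid A] (F : IrrCharacter G → A) :
    ∑ᶠ χ ∈ principalBlock M G, F χ =
      ∑ᶠ η ∈ principalBlock M (G ⧸ K), F (inflIrr K η) := by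
  rw [principalBlock_eq_image K hM hK, finsum_mem_image (inflIrr_injective K).injOn]

omit [Fintype G] in
/-- The sum of the squared absolute values over the principal block is rational. -/
theorem exists_int_principal_normSq {G : Type u} [Group G] [Fintype G] (hM : IsPModular p M)
    (x : G) : ∃ z : ℤ, ∑ᶠ χ ∈ principalBlock M G, Complex.normSq ((χ : G → ℂ) x) = (z : ℝ) := by
  classical
  haveI : NeZero (Nat.card G) := ⟨Nat.card_pos.ne'⟩
  haveI := Fintype.ofFinite (IrrCharacter G)
  rw [finsum_mem_eq_toFinset_sum]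
  set S := (principalBlock M G).toFinset with hS
  let v : IrrCharacter G → G → cycField (Nat.card G) := fun χ g =>
    ⟨(χ : G → ℂ) g, apply_mem_cycField (irr_isCharacter χ) g⟩
  have hfix : ∀ σ : cycField (Nat.card G) ≃ₐ[ℚ] cycField (Nat.card G),
      σ (∑ χ ∈ S, v χ x * v χ x⁻¹) = ∑ χ ∈ S, v χ x * v χ x⁻¹ := by
    intro σ
    obtain ⟨k, hk, hσ⟩ := exists_galPow (G := G) σ
    rw [map_sum]
    refine Finset.sum_bij (fun χ _ => powIrr hk χ) (fun χ hχ => ?_)
      (fun χ _ ψ _ h => powIrr_injective hk h) (fun ψ hψ => ?_) (fun χ _ => ?_)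
    · rw [hS, Set.mem_toFinset] at hχ ⊢
      exact (powIrr_mem_principalBlock_iff hM hk χ).2 hχ
    · obtain ⟨χ, rfl⟩ := Finite.injective_iff_surjective.1 (powIrr_injective hk) ψ
      rw [hS, Set.mem_toFinset, powIrr_mem_principalBlock_iff hM hk] at hψ
      exact ⟨χ, by rw [hS, Set.mem_toFinset]; exact hψ, rfl⟩
    · rw [map_mul, hσ _ (irr_isCharacter χ) x, hσ _ (irr_isCharacter χ) x⁻¹]
      rfl
  obtain ⟨q, hq⟩ := exists_rat_of_fixed hfix
  have hsum : ((∑ χ ∈ S, Complex.normSq ((χ : G → ℂ) x) : ℝ) : ℂ) = (q : ℂ) := by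
    rw [← hq]
    push_cast
    refine Finset.sum_congr rfl fun χ _ => ?_
    rw [← Complex.mul_conj, ← IsCharacter.apply_inv (irr_isCharacter χ)]
  have hint : IsIntegral ℤ ((q : ℂ)) := by
    rw [← hsum]
    push_cast
    refine IsIntegral.sum _ fun χ _ => ?_
    rw [← Complex.mul_conj, ← IsCharacter.apply_inv (irr_isCharacter χ)]
    exact (isIntegral_char χ x).mul (isIntegral_char χ x⁻¹)
  obtain ⟨z, rfl⟩ := exists_int_of_isIntegral_rat hint
  exact ⟨z, by exact_mod_cast hsum⟩

/-- The four properties of the sums over the principal block. -/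
theorem principal_normSq_spec [Fact p.Prime] [Fintype (G ⧸ pPrimeCore p G)]
    [(pPrimeCore p G).Normal] (hM : IsPModular p M) (x : G) :
    (∃ n : ℕ, 0 < n ∧ ∑ᶠ χ ∈ principalBlock M G, Complex.normSq ((χ : G → ℂ) x) = n) ∧
    ∑ᶠ χ ∈ principalBlock M G, Complex.normSq ((χ : G → ℂ) x) =
      ∑ᶠ ψ ∈ principalBlock M (G ⧸ pPrimeCore p G),
        Complex.normSq ((ψ : G ⧸ pPrimeCore p G → ℂ) (QuotientGroup.mk x)) ∧
    ∑ᶠ χ ∈ principalBlock M G, Complex.normSq ((χ : G → ℂ) x) ≤
      (Nat.card (Subgroup.centralizer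
        ({(QuotientGroup.mk x : G ⧸ pPrimeCore p G)} : Set (G ⧸ pPrimeCore p G))) : ℝ) ∧
    ((∑ᶠ χ ∈ principalBlock M G, charDegree (χ : G → ℂ) ^ 2) = (pPrimeCore p G).index ↔
      ∀ B : Set (IrrCharacter (G ⧸ pPrimeCore p G)), IsPBlock M B →
        B = principalBlock M (G ⧸ pPrimeCore p G)) := by
  classical
  have hK : ¬ p ∣ Nat.card (pPrimeCore p G) := Cores.not_dvd_card_pPrimeCore
  set Q := G ⧸ pPrimeCore p G
  haveI := Fintype.ofFinite (IrrCharacter G)
  haveI := Fintype.ofFinite (IrrCharacter Q)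
  have h2 : ∑ᶠ χ ∈ principalBlock M G, Complex.normSq ((χ : G → ℂ) x) =
      ∑ᶠ ψ ∈ principalBlock M Q, Complex.normSq ((ψ : Q → ℂ) (QuotientGroup.mk x)) :=
    finsum_principal_eq_quotient _ hM hK _
  refine ⟨?_, h2, ?_, ?_⟩
  · obtain ⟨z, hz⟩ := exists_int_principal_normSq hM x
    have h1 : (1 : ℝ) ≤ ∑ᶠ χ ∈ principalBlock M G, Complex.normSq ((χ : G → ℂ) x) := by
      rw [finsum_mem_eq_toFinset_sum]
      refine le_trans ?_ (Finset.single_le_sum (fun χ _ => Complex.normSq_nonneg _)
        (Set.mem_toFinset.2 (show trivIrr G ∈ principalBlock M G from sameBlock_refl _)))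
      rw [trivIrr_apply, map_one]
    rw [hz] at h1
    have hz0 : 0 < z := by exact_mod_cast lt_of_lt_of_le one_pos h1
    refine ⟨z.toNat, by omega, ?_⟩
    rw [hz]
    have : ((z.toNat : ℤ) : ℝ) = (z : ℝ) := by rw [Int.toNat_of_nonneg hz0.le]
    exact_mod_cast this.symm
  · rw [h2, finsum_mem_eq_toFinset_sum]
    have h := sum_irr_mul_conj (QuotientGroup.mk x : Q) (QuotientGroup.mk x : Q)
    rw [if_pos (IsConj.refl _)] at h
    simp only [Complex.mul_conj] at h
    have h' : ∑ ψ : IrrCharacter Q, Complex.normSq ((ψ : Q → ℂ) (QuotientGroup.mk x)) =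
        (Nat.card (Subgroup.centralizer ({(QuotientGroup.mk x : Q)} : Set Q)) : ℝ) := by
      exact_mod_cast h
    rw [← h']
    exact Finset.sum_le_sum_of_subset_of_nonneg (Finset.subset_univ _)
      fun ψ _ _ => Complex.normSq_nonneg _
  · have hd : ∀ η : IrrCharacter Q, charDegree (inflIrr (pPrimeCore p G) η : G → ℂ) =
        charDegree (η : Q → ℂ) := fun η => by
      have : (inflIrr (pPrimeCore p G) η : G → ℂ) 1 = (η : Q → ℂ) 1 :=
        congrArg (η : Q → ℂ) (map_one (QuotientGroup.mk' (pPrimeCore p G)))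
      rw [irr_apply_one, irr_apply_one] at this
      exact_mod_cast this
    have htot : ∑ η : IrrCharacter Q, charDegree (η : Q → ℂ) ^ 2 = (pPrimeCore p G).index := by
      have h := sum_degree_sq (G := Q)
      simp only [irr_apply_one] at h
      rw [Subgroup.index_eq_card]
      exact_mod_cast h
    rw [finsum_principal_eq_quotient _ hM hK]
    simp only [hd]
    rw [finsum_mem_eq_toFinset_sum, ← htot]
    constructor
    · intro h B hB
      obtain ⟨η, hη⟩ := IsPBlock.nonempty hB
      refine IsPBlock.eq_of_mem hB isPBlock_principalBlock hη ?_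
      by_contra hn
      have hlt := Finset.sum_lt_sum_of_subset (f := fun η : IrrCharacter Q =>
        charDegree (η : Q → ℂ) ^ 2) (Finset.subset_univ (principalBlock M Q).toFinset)
        (Finset.mem_univ η) (by simpa using hn) (pow_pos (by
          obtain ⟨d, hd0, hd1⟩ := IsIrrCharacter.exists_apply_one η.2
          rw [irr_apply_one] at hd1
          have : charDegree (η : Q → ℂ) = d := by exact_mod_cast hd1
          omega) 2) fun j _ _ => Nat.zero_le _
      exact hlt.ne h
    · intro h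
      refine congrArg (fun s : Finset (IrrCharacter Q) => ∑ η ∈ s, charDegree (η : Q → ℂ) ^ 2) ?_
      refine Finset.eq_univ_iff_forall.2 fun η => Set.mem_toFinset.2 ?_
      rw [← h _ (isPBlock_blockOf η)]
      exact self_mem_blockOf η

end Cfsg.Agent.Lib.CharMisc
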