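import Cfsg.Agent.Lib.Blocks.Covering2
import Cfsg.Agent.Lib.BlockHeights.CharTools

/-!
# Degree sums of principal blocks and normal subgroups
-/

set_option autoImplicit false
set_option linter.unusedSectionVars false
set_option linter.style.haveILetI false

namespace Cfsg.Agent.Lib.CharMisc

open Cfsg Cfsg.Agent.Lib.Blocks Cfsg.Agent.Lib.Characters Cfsg.Agent.Lib.BlockHeights
open scoped ComplexConjugate

universe u

variable {G : Type u} [Group G] [Fintype G] {p : ℕ} {M : Ideal AlgInt} [M.IsPrime]
  (H : Subgroup G) [H.Normal] [Fintype H]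

theorem trivial_constituent_trivial :
    classInner (fun n : H => (trivIrr G : G → ℂ) n) (trivIrr H : H → ℂ) ≠ 0 := by
  have : (fun n : H => (trivIrr G : G → ℂ) n) = (trivIrr H : H → ℂ) := rfl
  rw [this, IsIrrCharacter.classInner_self (trivIrr H).2]
  exact one_ne_zero

theorem constituent_mem_principal (hM : IsPModular p M) {χ : IrrCharacter G}
    (hχ : χ ∈ principalBlock M G) {θ : IrrCharacter H}
    (hθ : classInner (fun n : H => (χ : G → ℂ) n) (θ : H → ℂ) ≠ 0) :
    θ ∈ principalBlock M H := by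
  obtain ⟨g, φ, hφ, rfl⟩ := constituent_mem_conjClosure H hM (b := principalBlock M H)
    (χ := trivIrr G) (χ' := χ) (θ := trivIrr H)
    (fun η hη => IsPBlock.blockOf_subset isPBlock_principalBlock η hη) hχ
    (sameBlock_refl _) (trivial_constituent_trivial H) hθ
  exact sameBlock_conjFun H (θ := trivIrr H) (φ := φ) hφ g

theorem principal_degree_sum_bounds (hM : IsPModular p M) :
    (∑ᶠ θ ∈ principalBlock M H, charDegree (θ : H → ℂ) ^ 2) ≤
        (∑ᶠ χ ∈ principalBlock M G, charDegree (χ : G → ℂ) ^ 2) ∧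
      (∑ᶠ χ ∈ principalBlock M G, charDegree (χ : G → ℂ) ^ 2) ≤
        H.index * ∑ᶠ θ ∈ principalBlock M H, charDegree (θ : H → ℂ) ^ 2 := by
  classical
  haveI := Fintype.ofFinite (IrrCharacter G)
  haveI := Fintype.ofFinite (IrrCharacter H)
  choose m hm using fun (χ : IrrCharacter G) (θ : IrrCharacter H) =>
    IsCharacter.exists_classInner_nat (IsCharacter.restrict (irr_isCharacter χ) H)
      (irr_isCharacter θ)
  have hres : ∀ χ : IrrCharacter G,
      charDegree (χ : G → ℂ) = ∑ θ, m χ θ * charDegree (θ : H → ℂ) := by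
    intro χ
    have h := congrFun (eq_sum_classInner
      (IsCharacter.isClassFunction (IsCharacter.restrict (irr_isCharacter χ) H))) 1
    simp only [Finset.sum_apply, Pi.smul_apply, smul_eq_mul, hm, irr_apply_one,
      OneMemClass.coe_one] at h
    exact_mod_cast h
  have hind : ∀ θ : IrrCharacter H,
      H.index * charDegree (θ : H → ℂ) = ∑ χ, m χ θ * charDegree (χ : G → ℂ) := by
    intro θ
    have h := congrFun (eq_sum_classInner (isClassFunction_indFun H (θ : H → ℂ))) 1
    have hc : ∀ χ : IrrCharacter G,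
        classInner (indFun H (θ : H → ℂ)) (χ : G → ℂ) = (m χ θ : ℂ) := fun χ => by
      rw [classInner_indFun H _ (irr_isClassFunction χ), ← classInner_conj_symm, hm, map_natCast]
    simp only [Finset.sum_apply, Pi.smul_apply, smul_eq_mul, hc, indFun_one, irr_apply_one] at h
    exact_mod_cast h
  rw [finsum_mem_eq_toFinset_sum, finsum_mem_eq_toFinset_sum]
  set SG := (principalBlock M G).toFinset
  set SH := (principalBlock M H).toFinset
  have hres' : ∀ χ ∈ SG, charDegree (χ : G → ℂ) = ∑ θ ∈ SH, m χ θ * charDegree (θ : H → ℂ) := by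
    intro χ hχ
    rw [hres χ]
    refine (Finset.sum_subset (Finset.subset_univ SH) fun θ _ hθ => ?_).symm
    by_contra h
    have hne : m χ θ ≠ 0 := left_ne_zero_of_mul h
    exact hθ (Set.mem_toFinset.2 (constituent_mem_principal H hM (Set.mem_toFinset.1 hχ)
      (by rw [hm]; exact_mod_cast hne)))
  constructor
  · calc ∑ θ ∈ SH, charDegree (θ : H → ℂ) ^ 2
        ≤ ∑ θ ∈ SH, ∑ χ ∈ SG, (m χ θ * charDegree (θ : H → ℂ)) ^ 2 := by
          refine Finset.sum_le_sum fun θ hθ => ?_
          obtain ⟨χ, hχ, hne⟩ := exists_over_in_block H hM isPBlock_principalBlock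
            (isPBlock_principalBlock (G := H))
            ⟨trivIrr G, sameBlock_refl _, trivIrr H, sameBlock_refl _,
              trivial_constituent_trivial H⟩ (Set.mem_toFinset.1 hθ)
          rw [hm] at hne
          have h1 : 1 ≤ m χ θ := Nat.one_le_iff_ne_zero.2 (by exact_mod_cast hne)
          refine le_trans ?_ (Finset.single_le_sum
            (f := fun χ => (m χ θ * charDegree (θ : H → ℂ)) ^ 2)
            (fun i _ => Nat.zero_le _) (Set.mem_toFinset.2 hχ))
          exact Nat.pow_le_pow_left (Nat.le_mul_of_pos_left _ h1) 2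
      _ = ∑ χ ∈ SG, ∑ θ ∈ SH, (m χ θ * charDegree (θ : H → ℂ)) ^ 2 := Finset.sum_comm
      _ ≤ ∑ χ ∈ SG, charDegree (χ : G → ℂ) ^ 2 := by
          refine Finset.sum_le_sum fun χ hχ => ?_
          rw [hres' χ hχ, sq (∑ θ ∈ SH, m χ θ * charDegree (θ : H → ℂ)), Finset.sum_mul]
          exact Finset.sum_le_sum fun θ hθ => by
            rw [sq]
            exact Nat.mul_le_mul_left _ (Finset.single_le_sum
              (f := fun θ => m χ θ * charDegree (θ : H → ℂ)) (fun i _ => Nat.zero_le _) hθ)
  · calc ∑ χ ∈ SG, charDegree (χ : G → ℂ) ^ 2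
        = ∑ χ ∈ SG, ∑ θ ∈ SH,
            charDegree (θ : H → ℂ) * (m χ θ * charDegree (χ : G → ℂ)) := by
          refine Finset.sum_congr rfl fun χ hχ => ?_
          rw [sq]
          nth_rw 1 [hres' χ hχ]
          rw [Finset.sum_mul]
          exact Finset.sum_congr rfl fun θ _ => by ring
      _ = ∑ θ ∈ SH, charDegree (θ : H → ℂ) * ∑ χ ∈ SG, m χ θ * charDegree (χ : G → ℂ) := by
          rw [Finset.sum_comm]
          simp only [Finset.mul_sum]
      _ ≤ ∑ θ ∈ SH, charDegree (θ : H → ℂ) * (H.index * charDegree (θ : H → ℂ)) :=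
          Finset.sum_le_sum fun θ _ => Nat.mul_le_mul_left _
            ((hind θ).symm ▸ Finset.sum_le_sum_of_subset (Finset.subset_univ _))
      _ = H.index * ∑ θ ∈ SH, charDegree (θ : H → ℂ) ^ 2 := by
          rw [Finset.mul_sum]
          exact Finset.sum_congr rfl fun θ _ => by ring

end Cfsg.Agent.Lib.CharMisc
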