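import Cfsg.Agent.Lib.CharMisc.ResidualCount
import Cfsg.Agent.Lib.CharMisc.PrincipalCoreSums
import Cfsg.Agent.Lib.Blocks.PrincipalFull
import Cfsg.Agent.Lib.BlockHeights.DegreeSum
import Cfsg.Agent.Lib.Cores.Residual

/-!
# One degree of height zero in the principal block
-/

set_option autoImplicit false
set_option linter.unusedSectionVars false
set_option linter.style.haveILetI false

namespace Cfsg.Agent.Lib.CharMisc

open Cfsg Cfsg.Agent.Lib.Blocks Cfsg.Agent.Lib.Characters Cfsg.Agent.Lib.BlockHeights
open scoped ComplexConjugate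

universe u

variable {G : Type u} [Group G] [Fintype G] {p : ℕ} {M : Ideal AlgInt} [M.IsPrime]

theorem minExp_principal : minExp p (principalBlock M G) = 0 := by
  have h1 : charDegree ((trivIrr G : IrrCharacter G) : G → ℂ) = 1 :=
    charDegree_of_apply_one (by rw [trivIrr_apply, Nat.cast_one])
  have h2 := minExp_le (p := p) (B := principalBlock M G) (χ := trivIrr G) (sameBlock_refl _)
  simp only [nu, h1, Nat.factorization_one, Finsupp.coe_zero, Pi.zero_apply] at h2
  exact Nat.le_zero.1 h2

theorem blockHeight_principal_eq_zero_iff (hp : p.Prime) {χ : IrrCharacter G}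
    (hχ : χ ∈ principalBlock M G) :
    blockHeight p (principalBlock M G) (χ : G → ℂ) = 0 ↔ ¬ p ∣ charDegree (χ : G → ℂ) := by
  have h := minExp_add_blockHeight (p := p) hχ
  rw [minExp_principal, zero_add] at h
  rw [h, nu, Nat.factorization_eq_zero_iff]
  have := (charDegree_irr_pos χ).ne'
  tauto

/-- Constant degree in degree prime to `p` gives a normal complement. -/
theorem coprime_pResidual_of_linear [Fact p.Prime] (hM : IsPModular p M)
    (h : ∀ χ ∈ principalBlock M G, ¬ p ∣ charDegree (χ : G → ℂ) → charDegree (χ : G → ℂ) = 1) :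
    (Nat.card (pResidual p G)).Coprime p := by
  classical
  have hp := hM.1
  rw [Nat.coprime_comm, hp.coprime_iff_not_dvd]
  intro hdvd
  haveI := LocalEven.pResidual_normal p G
  set N := pResidual p G with hN
  haveI : Fintype N := Fintype.ofFinite _
  haveI := Fintype.ofFinite (IrrCharacter N)
  have hq : IsPGroup p (G ⧸ N) := LocalEven.quotient_pResidual_isPGroup N le_rfl
  obtain ⟨j, hj⟩ := hq.exists_card_eq
  have hidx : N.index = p ^ j := by rw [Subgroup.index_eq_card, hj]
  obtain ⟨Q⟩ : Nonempty (Sylow p N) := inferInstance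
  set t := Finset.univ.filter fun θ : IrrCharacter N =>
    inertia N (θ : N → ℂ) = ⊤ ∧ θ ∈ principalBlock M N ∧ ¬ p ∣ charDegree (θ : N → ℂ) with ht
  -- the total of the squares over the invariant characters
  have hmod : p ∣ ∑ θ ∈ t, charDegree (θ : N → ℂ) ^ 2 := by
    have h1 := sum_modEq_invariant N hp hq
      (fun θ => if θ ∈ principalBlock M N then charDegree (θ : N → ℂ) ^ 2 else 0) (by
      rintro θ η ⟨g, hg⟩
      have hη : η = conjIrrN N g θ := Subtype.ext hg.symm
      have hd : charDegree (η : N → ℂ) = charDegree (θ : N → ℂ) := by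
        rw [← hg]; simp only [charDegree, conjFun_apply_one]
      have hiff : η ∈ principalBlock M N ↔ θ ∈ principalBlock M N := by
        subst hη
        constructor
        · intro hh
          have h2 := sameBlock_conjFun N (θ := trivIrr N) (φ := conjIrrN N g θ) hh g⁻¹
          rw [conjIrrN_inv_cancel] at h2
          exact h2
        · exact fun hh => sameBlock_conjFun N (θ := trivIrr N) (φ := θ) hh g
      simp only [hd, hiff])
    have h2 : p ∣ ∑ θ : IrrCharacter N,
        if θ ∈ principalBlock M N then charDegree (θ : N → ℂ) ^ 2 else 0 := by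
      have hfac := factorization_sum_degree_sq hM (isPBlock_principalBlock (M := M) (G := N))
      rw [finsum_mem_eq_toFinset_sum] at hfac
      rw [← Finset.sum_filter]
      have hpos : 0 < (Nat.card N).factorization p :=
        hp.factorization_pos_of_dvd Nat.card_pos.ne' hdvd
      refine (Nat.dvd_of_factorization_pos ?_)
      rw [show Finset.univ.filter (fun θ => θ ∈ principalBlock M N) =
        (principalBlock M N).toFinset by ext; simp, hfac]
      omega
    have h3 := (Nat.ModEq.dvd_iff h1 dvd_rfl).1 h2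
    rw [← Finset.sum_filter, Finset.filter_filter] at h3
    rw [← Finset.sum_filter_add_sum_filter_not _ (fun θ : IrrCharacter N =>
      ¬ p ∣ charDegree (θ : N → ℂ)), Finset.filter_filter] at h3
    have h4 : Finset.univ.filter (fun θ : IrrCharacter N =>
        (inertia N (θ : N → ℂ) = ⊤ ∧ θ ∈ principalBlock M N) ∧ ¬ p ∣ charDegree (θ : N → ℂ)) = t := by
      ext θ; simp [ht, and_assoc]
    rw [h4] at h3
    refine (Nat.dvd_add_left ?_).1 h3
    exact Finset.dvd_sum fun θ hθ => dvd_pow (not_not.1 (Finset.mem_filter.1 hθ).2) two_ne_zero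
  -- those characters are linear
  have hlin : ∀ θ ∈ t, charDegree (θ : N → ℂ) = 1 := by
    intro θ hθ
    obtain ⟨hinv, hB, hd⟩ := (Finset.mem_filter.1 hθ).2
    obtain ⟨χ, ⟨hχ, hres, -⟩, -⟩ := Cfsg.Agent.S0867.result N (θ : N → ℂ) θ.2
      (fun g n => congrFun ((mem_inertia_iff N).1 (hinv ▸ Subgroup.mem_top g)) n)
      _ (charDegree_coe θ) (by
        rw [hidx]
        refine Nat.Coprime.pow_left _ (Nat.Coprime.mul_right ?_ ?_) <;>
          rw [Nat.Prime.coprime_iff_not_dvd hp]
        · exact not_dvd_detOrder_pResidual hp (irr_isCharacter θ)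
        · exact hd)
    have hdeg : charDegree χ = charDegree (θ : N → ℂ) :=
      charDegree_of_apply_one (by rw [← charDegree_coe θ, ← hres 1]; rfl)
    have hsame : SameBlock M ((trivIrr G : IrrCharacter G) : G → ℂ)
        ((⟨χ, hχ⟩ : IrrCharacter G) : G → ℂ) := by
      refine sameBlock_of_constituents N hM hidx (θ := trivIrr N) (θ' := θ) hB ?_ ?_
      · have : (fun n : N => (trivIrr G : G → ℂ) n) = (trivIrr N : N → ℂ) := rfl
        rw [this, IsIrrCharacter.classInner_self (trivIrr N).2]
        exact one_ne_zero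
      · rw [show (fun n : N => χ n) = (θ : N → ℂ) from funext hres,
          IsIrrCharacter.classInner_self θ.2]
        exact one_ne_zero
    rw [← hdeg]
    exact h ⟨χ, hχ⟩ hsame (by show ¬ p ∣ charDegree χ; rw [hdeg]; exact hd)
  rw [Finset.sum_congr rfl (g := fun _ => 1) fun θ hθ => by rw [hlin θ hθ, one_pow],
    Finset.sum_const, smul_eq_mul, mul_one] at hmod
  -- they form a group of order prime to `p`
  have hint : ∀ (f : N →* ℂˣ) (x : N), MemLocalRing M ((f x : ℂ)) := fun f x =>
    memLocalRing_of_isIntegral' (isIntegral_char ⟨_, isIrrCharacter_unitsHom f⟩ x)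
  let T : Subgroup (N →* ℂˣ) :=
    { carrier := {f | (∀ (g : G) (n : N),
          f ⟨g * n * g⁻¹, Subgroup.Normal.conj_mem inferInstance _ n.2 g⟩ = f n) ∧
        ∀ x ∈ Subgroup.centralizer ((Q : Subgroup N) : Set N), ¬ p ∣ orderOf x →
          MemLocalIdeal M ((f x : ℂ) - 1)}
      one_mem' := ⟨fun g n => rfl, fun x _ _ => by simp [memLocalIdeal_zero]⟩
      mul_mem' := fun {a b} ha hb => ⟨fun g n => by
          simp only [MonoidHom.mul_apply, ha.1 g n, hb.1 g n], fun x hx hr => by
          have := memLocalIdeal_add (memLocalIdeal_mul_left (hint a x) (hb.2 x hx hr)) (ha.2 x hx hr)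
          convert this using 1
          simp only [MonoidHom.mul_apply, Units.val_mul]
          ring⟩
      inv_mem' := fun {a} ha => ⟨fun g n => by simp only [MonoidHom.inv_apply, ha.1 g n],
        fun x hx hr => by
          have := memLocalIdeal_neg (memLocalIdeal_mul_left (hint a⁻¹ x) (ha.2 x hx hr))
          convert this using 1
          rw [MonoidHom.inv_apply, mul_sub, mul_one, ← Units.val_mul, inv_mul_cancel, Units.val_one]
          ring⟩ }
  haveI : Finite (N →* ℂˣ) := inferInstance
  haveI := Fintype.ofFinite T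
  have hdeg1 : ∀ f : N →* ℂˣ, charDegree (fun n => (f n : ℂ)) = 1 := fun f =>
    charDegree_of_apply_one (by simp)
  have htT : t.card = Nat.card T := by
    rw [Nat.card_eq_fintype_card]
    symm
    refine Finset.card_bij (s := Finset.univ)
      (fun f _ => (⟨_, isIrrCharacter_unitsHom f.1⟩ : IrrCharacter N)) ?_ ?_ ?_
    · intro f _
      have hd : ¬ p ∣ charDegree (fun n => (f.1 n : ℂ)) := by
        rw [hdeg1]; exact hp.not_dvd_one
      rw [ht, Finset.mem_filter]
      refine ⟨Finset.mem_univ _, ?_, ?_, hd⟩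
      · rw [eq_top_iff]
        intro g _
        rw [mem_inertia_iff]
        funext n
        exact congrArg Units.val (f.2.1 g n)
      · rw [mem_principalBlock_iff_congr hM Q _ hd]
        intro x hx hr
        simpa using f.2.2 x hx hr
    · intro a _ b _ hab
      exact Subtype.ext (MonoidHom.ext fun g => Units.ext (congrFun (congrArg Subtype.val hab) g))
    · intro θ hθ
      have h1 := hlin θ hθ
      rw [ht, Finset.mem_filter] at hθ
      obtain ⟨-, hinv, hB, hd⟩ := hθ
      obtain ⟨f, hf⟩ := IsCharacter.exists_hom_of_apply_one (irr_isCharacter θ)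
        (by rw [charDegree_coe θ, h1, Nat.cast_one])
      refine ⟨⟨f, fun g n => ?_, fun x hx hr => ?_⟩, Finset.mem_univ _, Subtype.ext hf.symm⟩
      · refine Units.ext ?_
        have h2 := congrFun ((mem_inertia_iff N).1 (hinv ▸ Subgroup.mem_top g)) n
        simpa [hf, conjFun] using h2
      · have h2 := (mem_principalBlock_iff_congr hM Q θ hd).1 hB x hx hr
        simpa [hf] using h2
  rw [htT] at hmod
  obtain ⟨f, hf⟩ := exists_prime_orderOf_dvd_card' (G := T) p hmod
  have hdet : detOrder (fun n => (f.1 n : ℂ)) = orderOf f.1 := by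
    rw [detOrder, show detChar (fun n => (f.1 n : ℂ)) = fun n => (f.1 n : ℂ) from
      detChar_of_linear f.1, orderOf_eq_orderOf_iff]
    intro n
    simp only [funext_iff, Pi.pow_apply, Pi.one_apply, MonoidHom.ext_iff, Units.ext_iff,
      MonoidHom.pow_apply, Units.val_pow_eq_pow_val, MonoidHom.one_apply, Units.val_one]
  have h5 := not_dvd_detOrder_pResidual hp (θ := fun n => (f.1 n : ℂ))
    (irr_isCharacter ⟨_, isIrrCharacter_unitsHom f.1⟩)
  rw [hdet, Subgroup.orderOf_coe, hf] at h5
  exact h5 dvd_rfl

theorem principal_constant_degree_iff [Fact p.Prime] (hM : IsPModular p M) :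
    (∃ d : ℕ, ∀ χ : IrrCharacter G, χ ∈ principalBlock M G →
      blockHeight p (principalBlock M G) (χ : G → ℂ) = 0 → charDegree (χ : G → ℂ) = d) ↔
    HasNormalPComplement p G := by
  classical
  have hp := hM.1
  constructor
  · rintro ⟨d, hd⟩
    have h1 : charDegree ((trivIrr G : IrrCharacter G) : G → ℂ) = 1 :=
      charDegree_of_apply_one (by rw [trivIrr_apply, Nat.cast_one])
    have htr : trivIrr G ∈ principalBlock M G :=
      show SameBlock M (fun _ : G => (1 : ℂ)) (fun _ : G => (1 : ℂ)) from sameBlock_refl _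
    have hd1 : d = 1 := by
      have h2 := hd (trivIrr G) htr ((blockHeight_principal_eq_zero_iff hp htr).2
        (by rw [h1]; exact hp.not_dvd_one))
      omega
    refine Cores.hasNormalPComplement_iff_pResidual.2 (coprime_pResidual_of_linear hM ?_)
    intro χ hχ hdeg
    rw [hd χ hχ ((blockHeight_principal_eq_zero_iff hp hχ).2 hdeg), hd1]
  · intro h
    refine ⟨1, fun χ hχ h0 => ?_⟩
    haveI := (Cores.pPrimeCore_mem p G).1
    haveI := Fintype.ofFinite (G ⧸ pPrimeCore p G)
    have hdeg := (blockHeight_principal_eq_zero_iff hp hχ).1 h0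
    obtain ⟨k, hk⟩ := (Cores.hasNormalPComplement_iff_pPrimeCore.1 h).exists_card_eq
    rw [principalBlock_eq_image _ hM Cores.not_dvd_card_pPrimeCore] at hχ
    obtain ⟨η, -, rfl⟩ := hχ
    have he : charDegree (inflIrr (pPrimeCore p G) η : G → ℂ) =
        charDegree (η : G ⧸ pPrimeCore p G → ℂ) := by
      simp only [charDegree]
      exact congrArg (fun z : ℂ => ⌊z.re⌋₊) (congrArg (η : G ⧸ pPrimeCore p G → ℂ)
        (map_one (QuotientGroup.mk' (pPrimeCore p G))))
    rw [he] at hdeg ⊢
    obtain ⟨i, -, hi⟩ := (Nat.dvd_prime_pow hp).1 (hk ▸ BlockHeights.charDegree_dvd_card η)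
    rcases Nat.eq_zero_or_pos i with h' | h'
    · rw [hi, h', pow_zero]
    · exact absurd (hi ▸ dvd_pow_self p h'.ne') hdeg

end Cfsg.Agent.Lib.CharMisc
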