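import Cfsg.Agent.Lib.Characters.Convolution
import Cfsg.Agent.Lib.Characters.Integrality
import Cfsg.Agent.Lib.Characters.Kernel
import Cfsg.Prelude.Def_Blocks

/-!
# Degrees forced by a class missing a `p`-subgroup among its quotients
-/

set_option autoImplicit false
set_option linter.unusedSectionVars false
set_option linter.style.haveILetI false

namespace Cfsg.Agent.Lib.CharMisc

open Cfsg Cfsg.Agent.Lib.Characters
open scoped ComplexConjugate

universe u

variable {G : Type u} [Group G] [Finite G]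

/-- Weisner's divisibility for an arbitrary class. -/
theorem exists_pow_dvd_degree_quot {p : ℕ} [hp : Fact p.Prime] {x : G} (P : Subgroup G)
    {c : ℕ} (hP : Nat.card P = p ^ c)
    (hinv : ∀ g h : G, IsConj x g → IsConj x h → g * h⁻¹ ∈ P → g * h⁻¹ = 1) :
    ∃ χ : IrrCharacter G,
      p ^ (c - (Nat.card (Subgroup.centralizer ({x} : Set G))).factorization p) ∣
        charDegree (χ : G → ℂ) := by
  classical
  haveI := Fintype.ofFinite G
  haveI := Fintype.ofFinite (IrrCharacter G)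
  haveI : Fintype P := Fintype.ofFinite _
  set C := Nat.card (Subgroup.centralizer ({x} : Set G)) with hC
  set a := C.factorization p with ha
  by_contra hne
  push Not at hne
  obtain ⟨b, hb⟩ : ∃ b, c - a = b + 1 := by
    refine ⟨c - a - 1, ?_⟩
    have h1 : c - a ≠ 0 := fun h => by
      have := hne ⟨fun _ => 1, isIrrCharacter_one⟩
      rw [h, pow_zero] at this
      exact this (one_dvd _)
    omega
  choose d hd0 hd hdG using fun χ : IrrCharacter G => IsIrrCharacter.exists_degree_dvd χ.2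
  have hcd : ∀ χ : IrrCharacter G, charDegree (χ : G → ℂ) = d χ := fun χ => by
    rw [charDegree, hd, Complex.natCast_re, Nat.floor_natCast]
  set g' := ordCompl[p] (Nat.card G) with hg'
  have hdiv : ∀ χ : IrrCharacter G, d χ ∣ g' * p ^ b := by
    intro χ
    have h2 : ¬ p ^ (b + 1) ∣ d χ := by rw [← hb, ← hcd]; exact hne χ
    have h3 : (d χ).factorization p ≤ b := by
      by_contra h3
      exact h2 ((Nat.Prime.pow_dvd_iff_le_factorization hp.out (hd0 χ).ne').2 (by omega))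
    rw [← Nat.ordProj_mul_ordCompl_eq_self (d χ) p, mul_comm g']
    exact Nat.mul_dvd_mul (pow_dvd_pow p h3) (Nat.ordCompl_dvd_ordCompl_of_dvd (hdG χ) p)
  choose n hn using fun χ : IrrCharacter G =>
    IsCharacter.exists_classInner_nat (IsCharacter.restrict (irr_isCharacter χ) P)
      (isCharacter_one (G := P))
  have hsumP : ∀ χ : IrrCharacter G, ∑ z : P, conj ((χ : G → ℂ) z) = (p : ℂ) ^ c * n χ := by
    intro χ
    have h1 : ∑ z : P, (χ : G → ℂ) z = (p : ℂ) ^ c * n χ := by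
      rw [← hn χ, classInner, ← mul_assoc, ← Nat.cast_pow, ← hP,
        mul_inv_cancel₀ natCard_ne_zero_complex, one_mul]
      simp
    rw [← map_sum, h1]
    simp
  let S : G → ℂ := fun z => ∑ χ : IrrCharacter G,
    (χ : G → ℂ) x * (χ : G → ℂ) x⁻¹ * conj ((χ : G → ℂ) z) / (χ : G → ℂ) 1
  have hS1 : S 1 = C := by
    have h := sum_irr_mul_conj x x
    rw [if_pos (IsConj.refl x)] at h
    rw [← h]
    refine Finset.sum_congr rfl fun χ _ => ?_
    rw [IsCharacter.apply_inv (irr_isCharacter χ), hd, map_natCast, mul_div_cancel_right₀ _ (Nat.cast_ne_zero.2 (hd0 χ).ne')]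
  have hSz : ∀ z ∈ P, z ≠ 1 → S z = 0 := by
    intro z hz hz1
    have h := card_class_mul x x⁻¹ z
    haveI : IsEmpty {q : G × G // IsConj x q.1 ∧ IsConj x⁻¹ q.2 ∧ q.1 * q.2 = z} := by
      refine ⟨fun q => ?_⟩
      obtain ⟨⟨s, t⟩, hs, ht, rfl⟩ := q
      obtain ⟨j, rfl⟩ := isConj_iff.1 ht
      apply hz1
      show s * (j * x⁻¹ * j⁻¹) = 1
      have hjx : (j * x * j⁻¹)⁻¹ = j * x⁻¹ * j⁻¹ := by group
      rw [← hjx] at hz ⊢
      exact hinv s _ hs (isConj_iff.2 ⟨j, rfl⟩) hz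
    rw [Nat.card_of_isEmpty, Nat.cast_zero, eq_comm] at h
    have hne0 : (Nat.card {y : G // IsConj x y} : ℂ) ≠ 0 := by
      haveI : Nonempty {y : G // IsConj x y} := ⟨⟨x, IsConj.refl x⟩⟩
      exact Nat.cast_ne_zero.2 Nat.card_pos.ne'
    have hne1 : (Nat.card {y : G // IsConj x⁻¹ y} : ℂ) ≠ 0 := by
      haveI : Nonempty {y : G // IsConj x⁻¹ y} := ⟨⟨x⁻¹, IsConj.refl _⟩⟩
      exact Nat.cast_ne_zero.2 Nat.card_pos.ne'
    exact (mul_eq_zero.1 h).resolve_left
      (div_ne_zero (mul_ne_zero hne0 hne1) natCard_ne_zero_complex)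
  have hsum : ∑ z : P, S z = C := by
    rw [Finset.sum_eq_single (1 : P) (fun z _ hz => hSz z z.2 fun h => hz (Subtype.ext h))
      (fun h => absurd (Finset.mem_univ _) h)]
    exact hS1
  have hsum' : (p : ℂ) ^ c * ∑ χ : IrrCharacter G,
      (n χ : ℂ) * ((χ : G → ℂ) x * (χ : G → ℂ) x⁻¹) / (d χ : ℂ) = C := by
    rw [← hsum, Finset.mul_sum, Finset.sum_comm]
    refine Finset.sum_congr rfl fun χ _ => ?_
    simp only [mul_div_assoc]
    rw [← Finset.mul_sum, ← Finset.sum_div, hsumP, hd]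
    ring
  have hint : IsIntegral ℤ (((g' * p ^ b : ℕ) : ℂ) * ∑ χ : IrrCharacter G,
      (n χ : ℂ) * ((χ : G → ℂ) x * (χ : G → ℂ) x⁻¹) / (d χ : ℂ)) := by
    rw [Finset.mul_sum]
    refine IsIntegral.sum _ fun χ _ => ?_
    obtain ⟨m, hm⟩ := hdiv χ
    have hdne : (d χ : ℂ) ≠ 0 := Nat.cast_ne_zero.2 (hd0 χ).ne'
    rw [show ((g' * p ^ b : ℕ) : ℂ) * ((n χ : ℂ) * ((χ : G → ℂ) x * (χ : G → ℂ) x⁻¹) / (d χ : ℂ)) =
        ((m * n χ : ℕ) : ℂ) * ((χ : G → ℂ) x * (χ : G → ℂ) x⁻¹) by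
      rw [hm]; push_cast; field_simp]
    exact (isIntegral_algebraMap (R := ℤ) (x := ((m * n χ : ℕ) : ℤ))).mul
      ((IsCharacter.isIntegral (irr_isCharacter χ) x).mul
        (IsCharacter.isIntegral (irr_isCharacter χ) x⁻¹))
  have heq : ((g' * p ^ b : ℕ) : ℂ) * ∑ χ : IrrCharacter G,
      (n χ : ℂ) * ((χ : G → ℂ) x * (χ : G → ℂ) x⁻¹) / (d χ : ℂ) =
        ((C * (g' * p ^ b) : ℕ) : ℂ) / ((p ^ c : ℕ) : ℂ) := by
    rw [eq_div_iff (Nat.cast_ne_zero.2 (pow_ne_zero _ hp.out.ne_zero)), Nat.cast_mul C, ← hsum']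
    push_cast
    ring
  rw [heq] at hint
  have h := dvd_of_isIntegral_div (pow_ne_zero _ hp.out.ne_zero) hint
  have hC0 : C ≠ 0 := Nat.card_pos.ne'
  have hg0 : g' ≠ 0 := (Nat.ordCompl_pos p Nat.card_pos.ne').ne'
  have h2 := (Nat.Prime.pow_dvd_iff_le_factorization hp.out
    (mul_ne_zero hC0 (mul_ne_zero hg0 (pow_ne_zero _ hp.out.ne_zero)))).1 h
  rw [Nat.factorization_mul hC0 (mul_ne_zero hg0 (pow_ne_zero _ hp.out.ne_zero)), Finsupp.add_apply,
    Nat.factorization_mul hg0 (pow_ne_zero _ hp.out.ne_zero), Finsupp.add_apply,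
    hp.out.factorization_pow, Finsupp.single_eq_same, hg', Nat.factorization_ordCompl,
    Finsupp.erase_same, ← ha] at h2
  omega

end Cfsg.Agent.Lib.CharMisc
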