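import Cfsg.Agent.Lib.CharMisc.RealOverOdd
import Cfsg.Agent.Lib.Characters.Clifford
import Cfsg.Agent.Lib.Characters.Convolution
import Cfsg.Agent.Lib.Characters.FrobeniusSchur
import Cfsg.Agent.Lib.Characters.Kernel

/-!
# The real character over a real character of a normal subgroup of odd index has multiplicity one
-/

set_option autoImplicit false
set_option linter.unusedSectionVars false
set_option linter.style.haveILetI false

namespace Cfsg.Agent.Lib.CharMisc

open Cfsg Cfsg.Agent.Lib.Characters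
open scoped ComplexConjugate

universe u

variable {G : Type u} [Group G] [Fintype G] (N : Subgroup G) [hN : N.Normal] [Fintype N]

theorem exists_real_over_mult (hodd : Odd N.index) (φ : IrrCharacter N)
    (hφ : ∀ n : N, ((φ : N → ℂ) n).im = 0) :
    ∃ χ : IrrCharacter G, (∀ g : G, ((χ : G → ℂ) g).im = 0) ∧
      classInner (fun n : N => (χ : G → ℂ) n) (φ : N → ℂ) = 1 ∧
      ∀ χ' : IrrCharacter G, (∀ g : G, ((χ' : G → ℂ) g).im = 0) →
        classInner (fun n : N => (χ' : G → ℂ) n) (φ : N → ℂ) ≠ 0 → χ' = χ := by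
  classical
  haveI := Fintype.ofFinite (IrrCharacter G)
  have hφc := irr_isCharacter φ
  have hreal : ∀ n : N, conj ((φ : N → ℂ) n) = (φ : N → ℂ) n := fun n =>
    Complex.conj_eq_iff_im.2 (hφ n)
  obtain ⟨-, -, δ, -, -, hδ, -, hν⟩ := (frobeniusSchur φ.2).2 hφ
  choose m hm using fun χ : IrrCharacter G =>
    IsCharacter.exists_classInner_nat (IsCharacter.restrict (irr_isCharacter χ) N) hφc
  set Φ := indFun N (φ : N → ℂ) with hΦ
  have hΦc : IsCharacter G Φ := IsCharacter.indFun N hφc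
  have hmΦ : ∀ χ : IrrCharacter G, classInner Φ (χ : G → ℂ) = m χ := fun χ => by
    rw [hΦ, classInner_indFun N _ (irr_isClassFunction χ),
      IsCharacter.classInner_comm hφc (IsCharacter.restrict (irr_isCharacter χ) N)]
    exact hm χ
  have hdec : ∀ g, Φ g = ∑ χ : IrrCharacter G, (m χ : ℂ) * (χ : G → ℂ) g := by
    intro g
    have h := congrFun (eq_sum_classInner (IsCharacter.isClassFunction hΦc)) g
    simpa only [Finset.sum_apply, Pi.smul_apply, smul_eq_mul, hmΦ] using h
  -- the weighted indicator count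
  have hres : ∀ n : N, Φ n = (Nat.card N : ℂ)⁻¹ * ∑ x : G, conjFun N x (φ : N → ℂ) n := fun n => by
    have h := congrFun (indFun_restrict N (φ : N → ℂ)) n
    simpa using h
  have hN0 : (Nat.card N : ℂ) ≠ 0 := natCard_ne_zero_complex
  have hG0 : (Nat.card G : ℂ) ≠ 0 := natCard_ne_zero_complex
  have hcount : ∑ χ : IrrCharacter G, (m χ : ℂ) *
      ((Nat.card G : ℂ)⁻¹ * ∑ g : G, (χ : G → ℂ) (g * g)) = δ := by
    have h1 : ∑ χ : IrrCharacter G, (m χ : ℂ) * ((Nat.card G : ℂ)⁻¹ * ∑ g : G, (χ : G → ℂ) (g * g)) =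
        (Nat.card G : ℂ)⁻¹ * ∑ g : G, Φ (g * g) := by
      simp only [hdec, Finset.mul_sum]
      rw [Finset.sum_comm]
      exact Finset.sum_congr rfl fun g _ => Finset.sum_congr rfl fun χ _ => by ring
    have h2 : ∑ g : G, Φ (g * g) = ∑ n : N, Φ ((n * n : N) : G) := by
      rw [← Finset.sum_subset (Finset.subset_univ (Finset.univ.filter fun g : G => g ∈ N))
        (fun g _ hg => indFun_vanish N _ fun h => hg (by simp [mem_of_sq_mem N hodd h]))]
      exact Finset.sum_subtype (p := fun g : G => g ∈ N) _ (fun g => by simp) fun g => Φ (g * g)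
    rw [h1, h2]
    simp only [hres]
    rw [← Finset.mul_sum, Finset.sum_comm]
    have h3 : ∀ x : G, ∑ n : N, conjFun N x (φ : N → ℂ) (n * n) = δ * (Nat.card N : ℂ) := by
      intro x
      rw [inv_mul_eq_iff_eq_mul₀ hN0, mul_comm] at hν
      rw [← hν]
      refine Fintype.sum_equiv (MulAut.conjNormal x : MulAut N).toEquiv _ _ fun n => ?_
      rw [conjFun_eq_comp]
      simp
    rw [Finset.sum_congr rfl fun x _ => h3 x, Finset.sum_const, Finset.card_univ, nsmul_eq_mul,
      ← Nat.card_eq_fintype_card]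
    field_simp
  -- exactly one real character lies over `φ`
  let f : G → ℂ := fun x => conj (Φ x)
  have hf : IsClassFunction G f := fun a b => by
    show conj _ = conj _
    rw [IsCharacter.isClassFunction hΦc a b]
  have hfsum : ∀ χ : IrrCharacter G, ∑ x, f x * (χ : G → ℂ) x = (Nat.card G : ℂ) * m χ := by
    intro χ
    rw [← hmΦ χ, IsCharacter.classInner_comm hΦc (irr_isCharacter χ), classInner, ← mul_assoc,
      mul_inv_cancel₀ hG0, one_mul]
    exact Finset.sum_congr rfl fun x _ => mul_comm _ _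
  choose d hd0 hd using fun χ : IrrCharacter G => IsIrrCharacter.exists_apply_one χ.2
  have hdne : ∀ χ, (d χ : ℂ) ≠ 0 := fun χ => Nat.cast_ne_zero.2 (hd0 χ).ne'
  have hout : ∀ g, g ∉ N → ∑ χ : IrrCharacter G, (m χ : ℂ) / (d χ : ℂ) *
      ((χ : G → ℂ) g * (χ : G → ℂ) g) = 0 := by
    intro g hg
    have h1 : ∀ χ : IrrCharacter G, (Nat.card G : ℂ) * ((m χ : ℂ) / (d χ : ℂ) *
        ((χ : G → ℂ) g * (χ : G → ℂ) g)) = ∑ x, f x * ((χ : G → ℂ) (g * x) * (χ : G → ℂ) g) := by
      intro χ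
      simp only [← mul_assoc]
      rw [← Finset.sum_mul, IsIrrCharacter.sum_mul_translate χ.2 hf g, hfsum, hd]
      ring
    refine mul_left_cancel₀ hG0 ?_
    rw [mul_zero, Finset.mul_sum, Finset.sum_congr rfl fun χ _ => h1 χ, Finset.sum_comm]
    refine Finset.sum_eq_zero fun x _ => ?_
    by_cases hx : x ∈ N
    · rw [← Finset.mul_sum]
      have h2 := sum_irr_mul_conj (g * x) g⁻¹
      rw [if_neg fun h => hg (mem_of_isConj_inv N hodd hx h)] at h2
      rw [show ∑ χ : IrrCharacter G, (χ : G → ℂ) (g * x) * (χ : G → ℂ) g = 0 from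
        Eq.trans (Finset.sum_congr rfl fun χ _ => by
          rw [IsCharacter.apply_inv (irr_isCharacter χ) g, Complex.conj_conj]) h2, mul_zero]
    · have : f x = 0 := by
        show conj (Φ x) = 0
        rw [hΦ, indFun_vanish N _ hx, map_zero]
      simp [this]
  have hφ1 : (φ : N → ℂ) 1 ≠ 0 := IsIrrCharacter.apply_one_ne_zero φ.2
  set t : ℂ := ((inertia N (φ : N → ℂ)).index : ℂ) with ht
  have ht0 : t ≠ 0 := Nat.cast_ne_zero.2 Subgroup.index_ne_zero_of_finite
  have hdeg : ∀ χ, m χ ≠ 0 → (d χ : ℂ) = m χ * t * (φ : N → ℂ) 1 := fun χ h => by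
    rw [← hd χ, degree_eq N χ.2 φ.2 (by rw [hm]; exact_mod_cast h), hm]
  have hresreal : ∀ χ : IrrCharacter G, m χ ≠ 0 → ∀ n : N, conj ((χ : G → ℂ) n) = (χ : G → ℂ) n := by
    intro χ h n
    have h1 := congrFun (restrict_eq_smul_sum N χ.2 φ.2 (by rw [hm]; exact_mod_cast h)) n
    simp only [Pi.smul_apply, Finset.sum_apply, smul_eq_mul, hm] at h1
    rw [h1, map_mul, map_natCast, map_sum]
    congr 1
    refine Finset.sum_congr rfl fun ψ hψ => ?_
    obtain ⟨x, rfl⟩ := (Set.Finite.mem_toFinset _).1 hψ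
    exact hreal _
  have hinN : ∀ χ : IrrCharacter G, (m χ : ℂ) / (d χ : ℂ) * ∑ n : N, (χ : G → ℂ) n * (χ : G → ℂ) n =
      (Nat.card N : ℂ) / (φ : N → ℂ) 1 * ((m χ : ℂ) * m χ) := by
    intro χ
    rcases _root_.em (m χ = 0) with h | h
    · simp [h]
    have h1 : ∑ n : N, (χ : G → ℂ) n * (χ : G → ℂ) n =
        (Nat.card N : ℂ) * ((m χ : ℂ) * m χ * t) := by
      have h2 : ∑ n : N, (χ : G → ℂ) n * (χ : G → ℂ) n =
          (Nat.card N : ℂ) * classInner (fun n : N => (χ : G → ℂ) n) (fun n : N => (χ : G → ℂ) n) := by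
        rw [classInner, ← mul_assoc, mul_inv_cancel₀ hN0, one_mul]
        exact Finset.sum_congr rfl fun n _ => by rw [hresreal χ h n]
      rw [h2]
      conv_lhs =>
        arg 2
        rw [restrict_eq_smul_sum N χ.2 φ.2 (by rw [hm]; exact_mod_cast h)]
      rw [classInner_smul_left, classInner_smul_right, classInner_sum_left, hm, map_natCast]
      have h4 : ∀ ψ ∈ (Set.finite_range fun g : G => conjFun N g (φ : N → ℂ)).toFinset,
          classInner ψ (∑ η ∈ (Set.finite_range fun g : G => conjFun N g (φ : N → ℂ)).toFinset, η) = 1 := by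
        intro ψ hψ
        obtain ⟨x, rfl⟩ := (Set.Finite.mem_toFinset _).1 hψ
        rw [classInner_sum_right, Finset.sum_eq_single (conjFun N x (φ : N → ℂ))]
        · exact IsIrrCharacter.classInner_self (IsIrrCharacter.conjFun N φ.2 x)
        · intro η hη hne
          obtain ⟨y, rfl⟩ := (Set.Finite.mem_toFinset _).1 hη
          exact IsIrrCharacter.classInner_ne (IsIrrCharacter.conjFun N φ.2 x)
            (IsIrrCharacter.conjFun N φ.2 y) (Ne.symm hne)
        · exact fun h0 => absurd ((Set.Finite.mem_toFinset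
            (Set.finite_range fun g : G => conjFun N g (φ : N → ℂ))).2 ⟨x, rfl⟩) h0
      rw [Finset.sum_congr rfl h4, Finset.sum_const, nsmul_one, ← Set.ncard_eq_toFinset_card _ (Set.finite_range fun g : G => conjFun N g (φ : N → ℂ)),
        ← Nat.card_coe_set_eq, card_conjugates N, ← ht]
      ring
    rw [h1, hdeg χ h]
    have : (m χ : ℂ) ≠ 0 := Nat.cast_ne_zero.2 h
    field_simp
  have hsq : (Nat.card N : ℂ) * ∑ χ : IrrCharacter G, (m χ : ℂ) * m χ =
      (Nat.card (inertia N (φ : N → ℂ)) : ℂ) := by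
    rw [← classInner_indFun_self N φ.2]
    congr 1
    have h : classInner Φ Φ = ∑ χ : IrrCharacter G, classInner Φ (χ : G → ℂ) *
        conj (classInner Φ (χ : G → ℂ)) :=
      classInner_eq_sum_irr (IsCharacter.isClassFunction hΦc) (IsCharacter.isClassFunction hΦc)
    rw [h]
    exact Finset.sum_congr rfl fun χ _ => by rw [hmΦ, map_natCast]
  let R : IrrCharacter G → Prop := fun χ => m χ ≠ 0 ∧ ∀ g, conj ((χ : G → ℂ) g) = (χ : G → ℂ) g
  have hrealsum : ∀ χ : IrrCharacter G, (m χ : ℂ) / (d χ : ℂ) *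
      ∑ g, (χ : G → ℂ) g * (χ : G → ℂ) g =
        if R χ then (Nat.card G : ℂ) / (t * (φ : N → ℂ) 1) else 0 := by
    intro χ
    rcases _root_.em (m χ = 0) with h | h
    · rw [if_neg fun h' => h'.1 h]; simp [h]
    have hconj := IsIrrCharacter.conjugate χ.2
    have h1 : ∑ g, (χ : G → ℂ) g * (χ : G → ℂ) g =
        (Nat.card G : ℂ) * classInner (χ : G → ℂ) (fun g => conj ((χ : G → ℂ) g)) := by
      rw [classInner, ← mul_assoc, mul_inv_cancel₀ hG0, one_mul]
      simp
    rw [h1]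
    by_cases hr : R χ
    · rw [if_pos hr, show (fun g => conj ((χ : G → ℂ) g)) = (χ : G → ℂ) from funext hr.2,
        IsIrrCharacter.classInner_self χ.2, hdeg χ h]
      have : (m χ : ℂ) ≠ 0 := Nat.cast_ne_zero.2 h
      field_simp
    · rw [if_neg hr, IsIrrCharacter.classInner_ne χ.2 hconj fun he =>
        hr ⟨h, fun g => (congrFun he g).symm⟩]
      ring
  have hone : (Finset.univ.filter R).card = 1 := by
    have h1 : ∑ χ : IrrCharacter G, (m χ : ℂ) / (d χ : ℂ) * ∑ g, (χ : G → ℂ) g * (χ : G → ℂ) g =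
        ∑ χ : IrrCharacter G, (m χ : ℂ) / (d χ : ℂ) * ∑ n : N, (χ : G → ℂ) n * (χ : G → ℂ) n := by
      simp only [Finset.mul_sum]
      rw [Finset.sum_comm, ← Finset.sum_subset (Finset.subset_univ (Finset.univ.filter fun g : G => g ∈ N))
        (fun g _ hg => hout g fun h => hg (by simp [h])), Finset.sum_comm (γ := IrrCharacter G)]
      exact Finset.sum_subtype (p := fun g : G => g ∈ N) _ (fun g => by simp)
        fun g => ∑ χ : IrrCharacter G, (m χ : ℂ) / (d χ : ℂ) * ((χ : G → ℂ) g * (χ : G → ℂ) g)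
    rw [Finset.sum_congr rfl fun χ _ => hrealsum χ, Finset.sum_congr rfl fun χ _ => hinN χ,
      ← Finset.sum_filter, Finset.sum_const, nsmul_eq_mul, ← Finset.mul_sum] at h1
    have hT : (Nat.card G : ℂ) = (Nat.card (inertia N (φ : N → ℂ)) : ℂ) * t := by
      rw [ht, ← Nat.cast_mul, Subgroup.card_mul_index]
    rw [hT] at h1
    have hTne : (Nat.card (inertia N (φ : N → ℂ)) : ℂ) ≠ 0 := Nat.cast_ne_zero.2 Nat.card_pos.ne'
    have h2 : ((Finset.univ.filter R).card : ℂ) * (Nat.card (inertia N (φ : N → ℂ)) : ℂ) =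
        1 * (Nat.card (inertia N (φ : N → ℂ)) : ℂ) := by
      rw [one_mul]
      conv_rhs => rw [← hsq]
      field_simp at h1
      simp only [pow_two] at h1
      linear_combination h1
    exact_mod_cast mul_right_cancel₀ hTne h2
  obtain ⟨χ₀, hχ₀⟩ := Finset.card_eq_one.1 hone
  have hR : ∀ χ, R χ ↔ χ = χ₀ := fun χ => by
    rw [← Finset.mem_singleton, ← hχ₀, Finset.mem_filter]
    simp
  have hrest : ∀ χ : IrrCharacter G, χ ≠ χ₀ →
      (m χ : ℂ) * ((Nat.card G : ℂ)⁻¹ * ∑ g : G, (χ : G → ℂ) (g * g)) = 0 := by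
    intro χ hne
    rcases _root_.em (m χ = 0) with h | h
    · simp [h]
    have h2 : ∃ g, ((χ : G → ℂ) g).im ≠ 0 := by
      by_contra h3
      push Not at h3
      exact hne ((hR χ).1 ⟨h, fun g => Complex.conj_eq_iff_im.2 (h3 g)⟩)
    rw [(frobeniusSchur χ.2).1 h2, mul_zero]
  rw [Finset.sum_eq_single χ₀ (fun χ _ hne => hrest χ hne)
    (fun h => absurd (Finset.mem_univ _) h)] at hcount
  obtain ⟨h0, hr0⟩ := (hR χ₀).2 rfl
  obtain ⟨-, -, ε, -, -, hε, -, hval⟩ :=
    (frobeniusSchur χ₀.2).2 fun g => Complex.conj_eq_iff_im.1 (hr0 g)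
  rw [hval] at hcount
  have hm1 : m χ₀ = 1 := by
    rcases hε with rfl | rfl <;> rcases hδ with rfl | rfl
    · exact_mod_cast (by linear_combination hcount : (m χ₀ : ℂ) = 1)
    · exfalso
      have h2 : ((m χ₀ + 1 : ℕ) : ℂ) = 0 := by push_cast; linear_combination hcount
      exact absurd (Nat.cast_eq_zero.1 h2) (Nat.succ_ne_zero _)
    · exfalso
      have h2 : ((m χ₀ + 1 : ℕ) : ℂ) = 0 := by push_cast; linear_combination -hcount
      exact absurd (Nat.cast_eq_zero.1 h2) (Nat.succ_ne_zero _)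
    · exact_mod_cast (by linear_combination -hcount : (m χ₀ : ℂ) = 1)
  refine ⟨χ₀, fun g => Complex.conj_eq_iff_im.1 (hr0 g), by rw [hm, hm1, Nat.cast_one],
    fun χ hχ hne => (hR χ).1 ⟨fun h => hne (by rw [hm, h, Nat.cast_zero]),
      fun g => Complex.conj_eq_iff_im.2 (hχ g)⟩⟩

end Cfsg.Agent.Lib.CharMisc
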