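import Cfsg.Agent.Lib.CharMisc.RealDegreeNormalizer
import Cfsg.Agent.Lib.CharMisc.RealOverOddMult
import Cfsg.Agent.Lib.Glauberman.RelativeGlobal

/-!
# Real characters of degree prime to p: the correspondence with the Sylow normaliser
-/

set_option autoImplicit false
set_option linter.unusedSectionVars false
set_option linter.style.haveILetI false

open scoped ComplexConjugate Pointwise

namespace Cfsg.Agent.Lib.CharMisc.RealDegreeBijection

open Cfsg Cfsg.Agent.Lib.Characters Cfsg.Agent.Lib.Glauberman RealDegreeSylow RealDegreeNormalizer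
open Cfsg.Agent.Lib.BrauerPairs (transIrr transIrr_apply)

universe u

variable {G : Type u} [Group G] [Finite G]

theorem classInner_star {H : Type u} [Group H] [Fintype H] (a b : H → ℂ) {m : ℕ}
    (h : classInner a b = (m : ℂ)) :
    classInner (fun x => conj (a x)) (fun x => conj (b x)) = (m : ℂ) := by
  have h1 := congrArg conj h
  rw [map_natCast, classInner, map_mul, map_inv₀, map_natCast, map_sum] at h1
  rw [classInner, ← h1]
  congr 1
  exact Finset.sum_congr rfl fun x _ => by simp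

/-- A real character has a real constituent on a normal subgroup of odd index. -/
theorem exists_real_constituent (K : Subgroup G) [K.Normal] [Fintype K] (hodd : Odd K.index)
    (χ : IrrCharacter G) (hχ : ∀ g : G, ((χ : G → ℂ) g).im = 0) :
    ∃ θ : IrrCharacter K, (∀ k : K, ((θ : K → ℂ) k).im = 0) ∧
      classInner (fun k : K => (χ : G → ℂ) k) (θ : K → ℂ) ≠ 0 := by
  haveI := Fintype.ofFinite G
  obtain ⟨θ, hθ⟩ := IsCharacter.exists_constituent (IsCharacter.restrict (irr_isCharacter χ) K)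
    (fun h => IsIrrCharacter.apply_one_ne_zero χ.2 (congrFun h 1))
  obtain ⟨m, hm⟩ := IsCharacter.exists_classInner_nat (IsCharacter.restrict (irr_isCharacter χ) K)
    (irr_isCharacter θ)
  have h2 := classInner_star _ _ hm
  rw [show (fun k : K => conj ((χ : G → ℂ) k)) = fun k : K => (χ : G → ℂ) k from
    funext fun k => Complex.conj_eq_iff_im.2 (hχ k)] at h2
  obtain ⟨g, hg⟩ := exists_conjFun_eq K χ.2 θ.2 (IsIrrCharacter.conjugate θ.2) hθ
    (by rw [h2, ← hm]; exact hθ)
  have hgg : g * g ∈ inertia K (θ : K → ℂ) := by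
    rw [mem_inertia_iff, conjFun_mul, hg]
    funext k
    have h := congrFun hg k
    show conj ((θ : K → ℂ) _) = (θ : K → ℂ) k
    simp only [conjFun] at h
    rw [h, Complex.conj_conj]
  have hK : g ^ K.index ∈ inertia K (θ : K → ℂ) :=
    le_inertia K (irr_isClassFunction θ) (Subgroup.pow_index_mem K g)
  have hgI : g ∈ inertia K (θ : K → ℂ) := by
    obtain ⟨j, hj⟩ := hodd
    rw [hj, pow_succ, pow_mul, pow_two] at hK
    exact (Subgroup.mul_mem_cancel_left _ (Subgroup.pow_mem _ hgg j)).1 hK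
  rw [mem_inertia_iff] at hgI
  rw [hgI] at hg
  exact ⟨θ, fun k => Complex.conj_eq_iff_im.1 (congrFun hg k).symm, hθ⟩

variable {p : ℕ} [hp : Fact p.Prime] (P : Sylow p G)

theorem exists_mem_normalizer_mul {I : Subgroup G} (hPI : (P : Subgroup G) ≤ I) {g : G}
    (hg : ∀ x ∈ (P : Subgroup G), g * x * g⁻¹ ∈ I) :
    ∃ h ∈ I, h * g ∈ Subgroup.normalizer ((P : Subgroup G) : Set G) := by
  have h2 : ((g • P : Sylow p G) : Subgroup G) ≤ I := by
    rw [Sylow.coe_subgroup_smul]
    rintro _ ⟨x, hx, rfl⟩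
    exact hg x hx
  obtain ⟨h, hh⟩ := MulAction.exists_smul_eq I ((g • P).subtype h2) (P.subtype hPI)
  refine ⟨h, h.2, ?_⟩
  simp_rw [Sylow.smul_subtype] at hh
  have hh' := Sylow.subtype_injective hh
  rw [Subgroup.smul_def, smul_smul] at hh'
  exact Sylow.smul_eq_iff_mem_normalizer.1 hh'

theorem index_cast_eq_relIndex {I : Subgroup G} (hPI : (P : Subgroup G) ≤ I) :
    (I.index : ZMod p) = (I.relIndex (Subgroup.normalizer ((P : Subgroup G) : Set G)) : ZMod p) := by
  set N := Subgroup.normalizer ((P : Subgroup G) : Set G) with hN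
  have hfix : MulAction.fixedPoints (P : Subgroup G) (G ⧸ I) =
      MulAction.orbit N (QuotientGroup.mk 1 : G ⧸ I) := by
    ext c
    obtain ⟨c, rfl⟩ := QuotientGroup.mk_surjective c
    constructor
    · intro hc
      obtain ⟨h, hh, hn⟩ := exists_mem_normalizer_mul P hPI (g := c⁻¹) (fun x hx => by
        have h' : (QuotientGroup.mk (x⁻¹ * c) : G ⧸ I) = QuotientGroup.mk c :=
          hc ⟨x⁻¹, inv_mem hx⟩
        simpa [mul_assoc] using I.inv_mem (QuotientGroup.eq.mp h'.symm))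
      refine ⟨⟨(h * c⁻¹)⁻¹, N.inv_mem hn⟩, ?_⟩
      show (QuotientGroup.mk ((h * c⁻¹)⁻¹ * 1) : G ⧸ I) = QuotientGroup.mk c
      rw [QuotientGroup.eq]
      simpa [mul_assoc] using hh
    · rintro ⟨n, hn⟩
      rw [← hn]
      intro x
      show (QuotientGroup.mk ((x : G) * ((n : G) * 1)) : G ⧸ I) = QuotientGroup.mk ((n : G) * 1)
      rw [QuotientGroup.eq]
      refine hPI ?_
      have := (Subgroup.mem_normalizer_iff.mp (N.inv_mem n.2) (x : G)⁻¹).mp (inv_mem x.2)
      simpa [mul_assoc] using this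
  have h1 := P.isPGroup'.card_modEq_card_fixedPoints (G ⧸ I)
  rw [← Subgroup.index_eq_card, ← ZMod.natCast_eq_natCast_iff] at h1
  rw [h1, hfix, Nat.card_coe_set_eq, ← MulAction.index_stabilizer]
  congr 2
  ext n
  rw [MulAction.mem_stabilizer_iff]
  show (QuotientGroup.mk ((n : G) * 1) : G ⧸ I) = QuotientGroup.mk 1 ↔ (n : G) ∈ I
  rw [mul_one, QuotientGroup.eq, mul_one, inv_mem_iff]

section Corr

variable (K : Subgroup G) [K.Normal] (Q : Subgroup G) [Q.Normal]

/-- Invariance of a function on a normal subgroup under a Sylow p-subgroup. -/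
def PInv (θ : K → ℂ) : Prop := ∀ x ∈ (P : Subgroup G), conjFun K x θ = θ

theorem pinv_conjFun {θ : K → ℂ} (h : PInv P K θ) {n : G}
    (hn : n ∈ Subgroup.normalizer ((P : Subgroup G) : Set G)) : PInv P K (conjFun K n θ) := by
  intro x hx
  have hx' : n * x * n⁻¹ ∈ (P : Subgroup G) := (Subgroup.mem_normalizer_iff.mp hn x).mp hx
  rw [← conjFun_mul, show n * x = n * x * n⁻¹ * n by group, conjFun_mul, h _ hx']

theorem exists_correspondence (hQp : IsPGroup p Q) (hQK : Q ≤ K)
    (hidx : ¬ p ∣ (Q.subgroupOf K).index) :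
    ∃ g : IrrCharacter K →
        IrrCharacter (K.subgroupOf (Subgroup.normalizer ((P : Subgroup G) : Set G))),
      (∀ θ η : IrrCharacter K, PInv P K θ.1 → PInv P K η.1 → g θ = g η → θ = η) ∧
      (∀ θ : IrrCharacter K, PInv P K θ.1 →
        ((∀ k, (θ.1 k).im = 0) ↔ ∀ c, ((g θ).1 c).im = 0)) ∧
      (∀ θ : IrrCharacter K, PInv P K θ.1 →
        ((charDegree (g θ).1 : ZMod p) = (charDegree θ.1 : ZMod p) ∨
          (charDegree (g θ).1 : ZMod p) = -(charDegree θ.1 : ZMod p))) ∧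
      (∀ β : IrrCharacter (K.subgroupOf (Subgroup.normalizer ((P : Subgroup G) : Set G))),
        (∀ (x : G) (hx : x ∈ (P : Subgroup G)),
          conjFun _ (⟨x, Subgroup.le_normalizer hx⟩ :
            ↥(Subgroup.normalizer ((P : Subgroup G) : Set G))) β.1 = β.1) →
        ∃ θ : IrrCharacter K, PInv P K θ.1 ∧ g θ = β) ∧
      (∀ (n : ↥(Subgroup.normalizer ((P : Subgroup G) : Set G))) (θ η : IrrCharacter K),
        PInv P K θ.1 → η.1 = conjFun K (n : G) θ.1 → (g η).1 = conjFun _ n (g θ).1) := by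
  classical
  haveI := Fintype.ofFinite G
  haveI := Fintype.ofFinite K
  set N := Subgroup.normalizer ((P : Subgroup G) : Set G) with hN
  set C := K.subgroupOf N with hC
  haveI : C.Normal := Subgroup.Normal.comap inferInstance _
  have hPN : (P : Subgroup G) ≤ N := Subgroup.le_normalizer
  have hQP : Q ≤ (P : Subgroup G) := hQp.le_sylow_of_normal P
  have hnorm : ∀ s ∈ (P : Subgroup G), ∀ g ∈ K, s * g * s⁻¹ ∈ K := fun s _ g hg =>
    (inferInstance : K.Normal).conj_mem g hg s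
  set φ := conjHom K (P : Subgroup G) hnorm with hφ
  set Q' := Q.subgroupOf K with hQ'
  haveI : Q'.Normal := Subgroup.Normal.comap inferInstance _
  haveI := Fintype.ofFinite Q'
  have hQ : ∀ a, ∀ q ∈ Q', φ a q ∈ Q' := fun a q hq =>
    (inferInstance : Q.Normal).conj_mem _ hq a
  set C0 := preFixed φ Q' hQ with hC0
  haveI := Fintype.ofFinite C0
  -- a p-element of K lies in Q
  have hPK : ∀ z : G, z ∈ K → z ∈ (P : Subgroup G) → z ∈ Q := by
    intro z hzK hzP
    obtain ⟨j, hj⟩ := P.isPGroup' ⟨z, hzP⟩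
    have hz : (⟨z, hzK⟩ : K) ^ p ^ j = 1 :=
      Subtype.ext (by have := congrArg Subtype.val hj; simpa using this)
    obtain ⟨i, hi⟩ := exists_pow_eq_self_of_coprime (x := (⟨z, hzK⟩ : K)) (n := Q'.index)
      ((((hp.out.coprime_iff_not_dvd).mpr hidx).symm.pow_right j).coprime_dvd_right
        (orderOf_dvd_of_pow_eq_one hz))
    have h : (⟨z, hzK⟩ : K) ∈ Q' := by
      rw [← hi]
      exact Q'.pow_mem (Subgroup.pow_index_mem Q' _) i
    exact h
  have hmem : ∀ c : K, c ∈ C0 ↔ (c : G) ∈ N := by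
    intro c
    rw [hC0, mem_preFixed]
    constructor
    · intro h
      have key : ∀ x ∈ (P : Subgroup G), (c : G) * x * (c : G)⁻¹ ∈ (P : Subgroup G) := by
        intro x hx
        have h1 : (x⁻¹ * (c : G) * x⁻¹⁻¹ * (c : G)⁻¹) ∈ Q := h ⟨x⁻¹, inv_mem hx⟩
        have := (P : Subgroup G).mul_mem hx (hQP h1)
        simpa [mul_assoc] using this
      rw [hN, Subgroup.mem_normalizer_iff]
      intro x
      refine ⟨key x, fun hx => ?_⟩
      let F : ↥(P : Subgroup G) → ↥(P : Subgroup G) := fun y => ⟨(c : G) * y * (c : G)⁻¹, key y y.2⟩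
      have hF : Function.Injective F := fun a b hab => Subtype.ext (by
        have := congrArg Subtype.val hab
        simpa [F] using this)
      obtain ⟨y, hy⟩ := Finite.surjective_of_injective hF ⟨_, hx⟩
      have hy' : (c : G) * (y : G) * (c : G)⁻¹ = (c : G) * x * (c : G)⁻¹ := congrArg Subtype.val hy
      have : (y : G) = x := by simpa using hy'
      exact this ▸ y.2
    · intro hc a
      have h1 : (a : G) * (c : G) * (a : G)⁻¹ * (c : G)⁻¹ ∈ K :=
        K.mul_mem (hnorm a a.2 c c.2) (K.inv_mem c.2)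
      have h2 : (a : G) * (c : G) * (a : G)⁻¹ * (c : G)⁻¹ ∈ (P : Subgroup G) := by
        have := (P : Subgroup G).mul_mem a.2
          ((Subgroup.mem_normalizer_iff.mp hc (a : G)⁻¹).mp (inv_mem a.2))
        simpa [mul_assoc] using this
      exact hPK _ h1 h2
  let e : C ≃* C0 :=
    { toFun := fun c => ⟨⟨((c : N) : G), c.2⟩, (hmem _).2 (c : N).2⟩
      invFun := fun z => ⟨⟨((z : K) : G), (hmem _).1 z.2⟩, (z : K).2⟩
      left_inv := fun _ => rfl
      right_inv := fun _ => rfl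
      map_mul' := fun _ _ => rfl }
  have he : ∀ c : C, ((e c : K) : G) = ((c : N) : G) := fun c => rfl
  obtain ⟨f, hfb, hf⟩ := exists_relative_glauberman φ Q' hQ P.isPGroup'
    (hQp.comap_of_injective K.subtype K.subtype_injective) hidx
  -- the correspondent is the only invariant constituent of multiplicity prime to p
  have huniq : ∀ (χ : InvIrr φ) ξ (m : ℕ),
      classInner (fun d : C0 => (χ.1 : K → ℂ) d) (ξ : InvIrr (restrictAct φ C0
        (map_preFixed_mem φ Q' hQ))).1.1 = (m : ℂ) → ¬ p ∣ m → ξ = f χ := by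
    intro χ ξ m hm hpm
    obtain ⟨m', hm', -, h2⟩ := (hf χ).1 ξ
    by_contra hne
    rw [hm] at hm'
    exact hpm ((Nat.cast_injective hm') ▸ h2 hne)
  have hmult : ∀ χ : InvIrr φ, ∃ m : ℕ,
      classInner (fun d : C0 => (χ.1 : K → ℂ) d) (f χ).1.1 = (m : ℂ) ∧ ¬ p ∣ m := by
    intro χ
    obtain ⟨m, hm, h1, -⟩ := (hf χ).1 (f χ)
    refine ⟨m, hm, fun hd => ?_⟩
    have := h1 rfl
    rw [(ZMod.natCast_eq_zero_iff m p).2 hd] at this
    rcases this with h | h
    · exact zero_ne_one h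
    · exact one_ne_zero (neg_eq_zero.1 h.symm)
  have hinvK : ∀ θ : IrrCharacter K, PInv P K θ.1 → IsInv φ θ.1 := by
    intro θ h s k
    conv_rhs => rw [← h s s.2]
    rfl
  let g : IrrCharacter K → IrrCharacter C := fun θ =>
    if h : IsInv φ θ.1 then transIrr e.symm (f ⟨θ, h⟩).1 else trivIrr C
  have hg : ∀ (θ : IrrCharacter K) (h : IsInv φ θ.1) (c : C),
      (g θ).1 c = (f ⟨θ, h⟩).1.1 (e c) := by
    intro θ h c
    simp only [g, dif_pos h]
    rfl
  refine ⟨g, fun θ η hθ hη h => ?_, fun θ hθ => ?_, fun θ hθ => ?_, fun β hβ => ?_,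
    fun n θ η hθ hη => ?_⟩
  · have h1 : f ⟨θ, hinvK θ hθ⟩ = f ⟨η, hinvK η hη⟩ := by
      refine Subtype.ext (Subtype.ext (funext fun z => ?_))
      rw [← e.apply_symm_apply z, ← hg θ (hinvK θ hθ), ← hg η (hinvK η hη), h]
    exact congrArg Subtype.val (hfb.1 h1)
  · set χ : InvIrr φ := ⟨θ, hinvK θ hθ⟩ with hχ
    have hgr : (∀ c, ((g θ).1 c).im = 0) ↔ ∀ z, ((f χ).1.1 z).im = 0 :=
      ⟨fun h z => by rw [← e.apply_symm_apply z, ← hg θ χ.2]; exact h _,
        fun h c => by rw [hg θ χ.2]; exact h _⟩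
    rw [hgr]
    have hi : IsInv φ (starIrr θ).1 := fun a k => by
      rw [starIrr_apply, starIrr_apply, χ.2 a k]
    have hi' : IsInv (restrictAct φ C0 (map_preFixed_mem φ Q' hQ)) (starIrr (f χ).1).1 :=
      fun a k => by rw [starIrr_apply, starIrr_apply, (f χ).2 a k]
    obtain ⟨m, hm, hpm⟩ := hmult χ
    have hstar : (⟨starIrr (f χ).1, hi'⟩ : InvIrr (restrictAct φ C0 (map_preFixed_mem φ Q' hQ))) =
        f ⟨starIrr θ, hi⟩ := huniq ⟨starIrr θ, hi⟩ _ m (classInner_star _ _ hm) hpm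
    rw [← starIrr_eq_self_iff, ← starIrr_eq_self_iff]
    constructor
    · intro h
      have h2 : (⟨starIrr θ, hi⟩ : InvIrr φ) = χ := Subtype.ext h
      rw [h2] at hstar
      exact congrArg Subtype.val hstar
    · intro h
      have h2 : (⟨starIrr (f χ).1, hi'⟩ :
          InvIrr (restrictAct φ C0 (map_preFixed_mem φ Q' hQ))) = f χ := Subtype.ext h
      rw [h2] at hstar
      exact (congrArg Subtype.val (hfb.1 hstar)).symm
  · have h1 : charDegree (g θ).1 = charDegree (f ⟨θ, hinvK θ hθ⟩).1.1 := by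
      show ⌊((g θ).1 1).re⌋₊ = ⌊((f ⟨θ, hinvK θ hθ⟩).1.1 1).re⌋₊
      rw [hg θ (hinvK θ hθ), map_one]
    rw [h1]
    exact (hf ⟨θ, hinvK θ hθ⟩).2
  · obtain ⟨χ, hχ⟩ := hfb.2 ⟨transIrr e β, fun a z => by
      obtain ⟨c, rfl⟩ := e.surjective z
      have hcc : restrictAct φ C0 (map_preFixed_mem φ Q' hQ) a (e c) =
          e ((MulAut.conjNormal (⟨a, hPN a.2⟩ : N) : MulAut C) c) := Subtype.ext (Subtype.ext (by
            show (a : G) * _ * (a : G)⁻¹ = _
            rw [he, he]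
            simp))
      rw [hcc, transIrr_apply, transIrr_apply]
      have := congrFun (hβ a a.2) c
      rw [conjFun_eq_comp] at this
      exact this⟩
    refine ⟨χ.1, fun x hx => funext fun k => ?_, Subtype.ext (funext fun c => ?_)⟩
    · exact χ.2 ⟨x, hx⟩ k
    · rw [hg χ.1 χ.2, show (⟨χ.1, χ.2⟩ : InvIrr φ) = χ from rfl, hχ, transIrr_apply]
  · have hη' : PInv P K η.1 := by
      rw [hη]
      exact pinv_conjFun P K hθ n.2
    let σ : K ≃* K := ((MulAut.conjNormal (n : G) : MulAut K) : K ≃* K).symm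
    let σ₀ : C0 ≃* C0 := e.symm.trans (((MulAut.conjNormal n : MulAut C) : C ≃* C).symm.trans e)
    have h₀ : ∀ z, ((σ₀ z : C0) : K) = σ z := fun z => Subtype.ext (by
      simp [σ, σ₀, he, MulAut.conjNormal_symm_apply]
      rfl)
    set χ : InvIrr φ := ⟨θ, hinvK θ hθ⟩ with hχ
    obtain ⟨m, hm, hpm⟩ := hmult χ
    have hval : ∀ k, η.1 (σ k) = θ.1 k := fun k => by
      rw [hη, conjFun_eq_comp]
      exact congrArg θ.1 ((MulAut.conjNormal (n : G) : MulAut K).apply_symm_apply k)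
    have hi : IsInv (restrictAct φ C0 (map_preFixed_mem φ Q' hQ)) (transIrr σ₀ (f χ).1).1 := by
      intro a z
      obtain ⟨w, rfl⟩ := σ₀.surjective z
      have ha : (n : G) * (a : G) * (n : G)⁻¹ ∈ (P : Subgroup G) :=
        (Subgroup.mem_normalizer_iff.mp n.2 _).mp a.2
      have hcc : restrictAct φ C0 (map_preFixed_mem φ Q' hQ) a (σ₀ w) =
          σ₀ (restrictAct φ C0 (map_preFixed_mem φ Q' hQ) ⟨_, ha⟩ w) := by
        refine Subtype.ext ?_
        show φ a ((σ₀ w : C0) : K) = ((σ₀ _ : C0) : K)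
        rw [h₀, h₀]
        refine Subtype.ext ?_
        show (a : G) * ((σ (w : K) : K) : G) * (a : G)⁻¹ = ((σ (φ ⟨_, ha⟩ (w : K)) : K) : G)
        simp [σ, φ, conjHom_apply, MulAut.conjNormal_symm_apply, mul_assoc]
      rw [hcc, transIrr_apply, transIrr_apply]
      exact (f χ).2 _ w
    have hm2 : classInner (fun d : C0 => η.1 d) (transIrr σ₀ (f χ).1).1 = (m : ℂ) := by
      rw [← hm, classInner, classInner]
      congr 1
      refine (Fintype.sum_equiv σ₀.toEquiv _ _ fun d => ?_).symm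
      show θ.1 d * conj ((f χ).1.1 d) = η.1 ((σ₀ d : C0) : K) * conj ((transIrr σ₀ (f χ).1).1 (σ₀ d))
      rw [h₀ d, hval, transIrr_apply]
    have hfeq := huniq ⟨η, hinvK η hη'⟩ ⟨_, hi⟩ m hm2 hpm
    funext c
    rw [hg η (hinvK η hη'), ← hfeq, conjFun_eq_comp]
    show (f χ).1.1 (σ₀.symm (e c)) = (g θ).1 ((MulAut.conjNormal n : MulAut C) c)
    rw [hg θ χ.2]
    congr 1

theorem exists_bijection (hodd : Odd K.index) (hQp : IsPGroup p Q) (hQK : Q ≤ K)
    (hidx : ¬ p ∣ (Q.subgroupOf K).index) (hreal : RealPrime p G) :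
    ∃ f : {χ : IrrCharacter G // ∀ g : G, ((χ : G → ℂ) g).im = 0} →
        {ξ : IrrCharacter ↥(Subgroup.normalizer ((P : Subgroup G) : Set G)) //
          (∀ n, (ξ.1 n).im = 0) ∧ ¬ p ∣ charDegree ξ.1},
      Function.Bijective f ∧ ∀ χ,
        ((charDegree (f χ).1.1 : ZMod p) = (charDegree χ.1.1 : ZMod p) ∨
          (charDegree (f χ).1.1 : ZMod p) = -(charDegree χ.1.1 : ZMod p)) := by
  classical
  haveI := Fintype.ofFinite G
  haveI := Fintype.ofFinite K
  set N := Subgroup.normalizer ((P : Subgroup G) : Set G) with hN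
  set C := K.subgroupOf N with hC
  haveI : C.Normal := Subgroup.Normal.comap inferInstance _
  haveI := Fintype.ofFinite N
  haveI := Fintype.ofFinite C
  have hoddC : Odd C.index := hodd.of_dvd_nat (Subgroup.relIndex_dvd_index_of_normal K N)
  obtain ⟨g, hginj, hgreal, hgdeg, hgsurj, hgeq⟩ := exists_correspondence P K Q hQp hQK hidx
  -- a real invariant constituent
  have hrep : ∀ χ : {χ : IrrCharacter G // ∀ g : G, ((χ : G → ℂ) g).im = 0},
      ∃ θ : IrrCharacter K, PInv P K θ.1 ∧ (∀ k, (θ.1 k).im = 0) ∧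
        classInner (fun k : K => χ.1.1 k) θ.1 ≠ 0 := by
    intro χ
    obtain ⟨θ, hθ, hne⟩ := exists_real_constituent K hodd χ.1 χ.2
    obtain ⟨c, ψ, hψ, hψr, hψP⟩ := exists_inv_conjugate K hodd hreal P θ hθ
    refine ⟨ψ, hψP, hψr, ?_⟩
    rw [hψ, classInner_restrict_conjFun K (irr_isClassFunction χ.1)]
    exact hne
  choose rep hrepP hrepr hrepc using hrep
  have hover : ∀ χ, ∀ c, ((g (rep χ)).1 c).im = 0 := fun χ =>
    (hgreal _ (hrepP χ)).1 (hrepr χ)
  choose F hFr hF1 hFu using fun χ =>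
    exists_real_over_mult C hoddC (g (rep χ)) (hover χ)
  have hdegeq : ∀ χ : {χ : IrrCharacter G // ∀ g : G, ((χ : G → ℂ) g).im = 0},
      (charDegree (F χ).1 : ZMod p) = (charDegree χ.1.1 : ZMod p) ∨
        (charDegree (F χ).1 : ZMod p) = -(charDegree χ.1.1 : ZMod p) := by
    intro χ
    obtain ⟨χ₁, hχ₁r, hχ₁m, hχ₁u⟩ := exists_real_over_mult K hodd (rep χ) (hrepr χ)
    have hχeq := hχ₁u χ.1 χ.2 (hrepc χ)
    have hm1 : classInner (fun k : K => χ.1.1 k) (rep χ).1 = 1 := hχeq ▸ hχ₁m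
    have hd1 := degree_eq K χ.1.2 (rep χ).2 (hrepc χ)
    have hd2 := degree_eq C (F χ).2 (g (rep χ)).2 (by rw [hF1 χ]; exact one_ne_zero)
    rw [hm1, one_mul] at hd1
    rw [hF1 χ, one_mul] at hd2
    have hIeq : (inertia C (g (rep χ)).1).index = (inertia K (rep χ).1).relIndex N := by
      rw [Subgroup.relIndex]
      congr 1
      ext n
      rw [mem_inertia_iff, Subgroup.mem_subgroupOf, mem_inertia_iff]
      have h := hgeq n (rep χ) ⟨_, IsIrrCharacter.conjFun K (rep χ).2 (n : G)⟩ (hrepP χ) rfl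
      constructor
      · intro hn
        rw [hn] at h
        exact congrArg Subtype.val (hginj _ (rep χ)
          (pinv_conjFun P K (hrepP χ) n.2) (hrepP χ) (Subtype.ext h))
      · intro hn
        rw [← h]
        exact congrArg (fun z : IrrCharacter K => (g z).1) (Subtype.ext hn)
    have hI : ((inertia K (rep χ).1).index : ZMod p) =
        ((inertia K (rep χ).1).relIndex N : ZMod p) :=
      index_cast_eq_relIndex P (fun x hx => hrepP χ x hx)
    obtain ⟨a, -, ha⟩ := IsIrrCharacter.exists_apply_one (rep χ).2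
    obtain ⟨b, -, hb⟩ := IsIrrCharacter.exists_apply_one (g (rep χ)).2
    have hca : charDegree (rep χ).1 = a := by
      show ⌊((rep χ).1 1).re⌋₊ = a
      rw [ha, Complex.natCast_re, Nat.floor_natCast]
    have hcb : charDegree (g (rep χ)).1 = b := by
      show ⌊((g (rep χ)).1 1).re⌋₊ = b
      rw [hb, Complex.natCast_re, Nat.floor_natCast]
    have hcχ : charDegree χ.1.1 = (inertia K (rep χ).1).index * a := by
      show ⌊(χ.1.1 1).re⌋₊ = _
      rw [hd1, ha, ← Nat.cast_mul, Complex.natCast_re, Nat.floor_natCast]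
    have hcF : charDegree (F χ).1 = (inertia C (g (rep χ)).1).index * b := by
      show ⌊((F χ).1 1).re⌋₊ = _
      rw [hd2, hb, ← Nat.cast_mul, Complex.natCast_re, Nat.floor_natCast]
    rw [hcχ, hcF, hIeq, Nat.cast_mul, Nat.cast_mul, hI]
    have h := hgdeg _ (hrepP χ)
    rw [hca, hcb] at h
    rcases h with h | h
    · exact Or.inl (by rw [h])
    · exact Or.inr (by rw [h]; ring)
  have hFp : ∀ χ, ¬ p ∣ charDegree (F χ).1 := by
    intro χ hd
    rw [← ZMod.natCast_eq_zero_iff] at hd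
    apply hreal χ.1 χ.2
    rw [← ZMod.natCast_eq_zero_iff]
    rcases hdegeq χ with h | h <;> rw [hd] at h
    · exact h.symm
    · exact neg_eq_zero.1 h.symm
  refine ⟨fun χ => ⟨F χ, hFr χ, hFp χ⟩, ⟨fun χ χ' h => ?_, fun ξ => ?_⟩, hdegeq⟩
  · have h' : F χ = F χ' := congrArg Subtype.val h
    obtain ⟨n, hn⟩ := exists_conjFun_eq C (F χ).2 (g (rep χ)).2 (g (rep χ')).2
      (by rw [hF1 χ]; exact one_ne_zero) (by rw [h', hF1 χ']; exact one_ne_zero)
    set η : IrrCharacter K := ⟨_, IsIrrCharacter.conjFun K (rep χ).2 (n : G)⟩ with hη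
    have h2 : η = rep χ' := hginj _ _ (pinv_conjFun P K (hrepP χ) n.2) (hrepP χ')
      (Subtype.ext ((hgeq n (rep χ) η (hrepP χ) rfl).trans hn))
    obtain ⟨χ₁, -, -, hu⟩ := exists_real_over_mult K hodd (rep χ) (hrepr χ)
    refine Subtype.ext ((hu χ.1 χ.2 (hrepc χ)).trans (hu χ'.1 χ'.2 ?_).symm)
    have h3 := hrepc χ'
    rw [← h2, hη, classInner_restrict_conjFun K (irr_isClassFunction χ'.1)] at h3
    exact h3
  · obtain ⟨ξ, hξr, hξp⟩ := ξ
    obtain ⟨β, hβr, hβc⟩ := exists_real_constituent C hoddC ξ hξr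
    obtain ⟨e, he⟩ := IsCharacter.exists_classInner_nat
      (IsCharacter.restrict (irr_isCharacter ξ) C) (irr_isCharacter β)
    obtain ⟨b, -, hb⟩ := IsIrrCharacter.exists_apply_one β.2
    have hd := degree_eq C ξ.2 β.2 hβc
    rw [he, hb] at hd
    have hJ : ¬ p ∣ (inertia C β.1).index := fun h => hξp (by
      have h1 : charDegree ξ.1 = e * (inertia C β.1).index * b := by
        show ⌊(ξ.1 1).re⌋₊ = _
        rw [hd]
        norm_cast
        exact Nat.floor_natCast _
      rw [h1]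
      exact dvd_mul_of_dvd_left (dvd_mul_of_dvd_right h _) _)
    rw [Subgroup.index_eq_card] at hJ
    have hPp : IsPGroup p ↥((P : Subgroup G).subgroupOf N) :=
      P.isPGroup'.comap_of_injective N.subtype N.subtype_injective
    obtain ⟨c, hc⟩ := hPp.nonempty_fixed_point_of_prime_not_dvd_card (N ⧸ inertia C β.1) hJ
    obtain ⟨c, rfl⟩ := QuotientGroup.mk_surjective c
    have hβP : ∀ (x : G) (hx : x ∈ (P : Subgroup G)),
        conjFun C (⟨x, Subgroup.le_normalizer hx⟩ : N) β.1 = β.1 := by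
      intro x hx
      rw [← mem_inertia_iff]
      have hx' : c * (⟨x, Subgroup.le_normalizer hx⟩ : N)⁻¹ * c⁻¹ ∈
          (P : Subgroup G).subgroupOf N := by
        show (c : G) * x⁻¹ * (c : G)⁻¹ ∈ (P : Subgroup G)
        exact (Subgroup.mem_normalizer_iff.mp c.2 _).mp (inv_mem hx)
      have h' : (QuotientGroup.mk ((c * (⟨x, Subgroup.le_normalizer hx⟩ : N)⁻¹ * c⁻¹) * c) :
          N ⧸ inertia C β.1) = QuotientGroup.mk c := hc ⟨_, hx'⟩
      simpa [mul_assoc] using QuotientGroup.eq.mp h'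
    obtain ⟨θ, hθP, hθ⟩ := hgsurj β hβP
    have hθr : ∀ k, (θ.1 k).im = 0 := (hgreal θ hθP).2 (by rw [hθ]; exact hβr)
    obtain ⟨χ, hχr, hχ1, -⟩ := exists_real_over_mult K hodd θ hθr
    refine ⟨⟨χ, hχr⟩, Subtype.ext (Eq.symm (hFu _ ξ hξr ?_))⟩
    obtain ⟨c', hc'⟩ := exists_conjFun_eq K χ.2 θ.2 (rep ⟨χ, hχr⟩).2
      (by rw [hχ1]; exact one_ne_zero) (hrepc ⟨χ, hχr⟩)
    obtain ⟨h, hhI, hhN⟩ := exists_mem_normalizer_mul P (g := c')
      (show (P : Subgroup G) ≤ inertia K θ.1 from fun x hx => hθP x hx) (fun x hx => by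
        rw [mem_inertia_iff, conjFun_mul, conjFun_mul, hc', hrepP ⟨χ, hχr⟩ x hx, ← hc',
          conjFun_inv_cancel])
    have h4 : (rep ⟨χ, hχr⟩).1 = conjFun K (h * c') θ.1 := by
      rw [conjFun_mul, (mem_inertia_iff K).1 hhI, hc']
    rw [hgeq ⟨_, hhN⟩ θ _ hθP h4, hθ, classInner_restrict_conjFun C (irr_isClassFunction ξ)]
    exact hβc

end Corr

/-- The general statement. -/
theorem exists_bijection_normalizer (hsolv : Group.IsSolvable (pEl p G)) (hreal : RealPrime p G) :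
    ∃ f : {χ : IrrCharacter G // ∀ g : G, ((χ : G → ℂ) g).im = 0} →
        {ξ : IrrCharacter ↥(Subgroup.normalizer ((P : Subgroup G) : Set G)) //
          (∀ n, (ξ.1 n).im = 0) ∧ ¬ p ∣ charDegree ξ.1},
      Function.Bijective f ∧ ∀ χ,
        ((charDegree (f χ).1.1 : ZMod p) = (charDegree χ.1.1 : ZMod p) ∨
          (charDegree (f χ).1.1 : ZMod p) = -(charDegree χ.1.1 : ZMod p)) := by
  haveI hKn : (pEl 2 G).Normal := pEl_normal Nat.prime_two
  obtain ⟨R, hRn, hRp, hR⟩ := exists_normal_pgroup p _ G le_rfl hsolv hreal (pEl 2 G) hKn le_rfl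
    ⟨0, by rw [pow_zero, Subgroup.relIndex_self]⟩
  haveI := hRn
  refine exists_bijection P (pEl 2 G) (R ⊓ pEl 2 G) ?_ (hRp.to_le inf_le_left) inf_le_right ?_ hreal
  · rw [Nat.odd_iff, ← Nat.two_dvd_ne_zero]
    intro h
    rw [Subgroup.index_eq_card] at h
    haveI : Fact (Nat.Prime 2) := ⟨Nat.prime_two⟩
    obtain ⟨y, hy⟩ := exists_prime_orderOf_dvd_card' 2 h
    obtain ⟨z, hz, j, hj⟩ := exists_lift (QuotientGroup.mk' (pEl 2 G))
      (QuotientGroup.mk'_surjective _) Nat.prime_two (k := 1) (by rw [hy, pow_one])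
    rw [← hz, QuotientGroup.mk'_apply, (QuotientGroup.eq_one_iff z).mpr
      (Subgroup.subset_closure (show z ∈ {g : G | ∃ k : ℕ, orderOf g = 2 ^ k} from ⟨j, hj⟩)),
      orderOf_one] at hy
    exact absurd hy (by norm_num)
  · intro h
    let S : Sylow p (pEl 2 G) := default
    refine S.not_dvd_index (h.trans (Subgroup.index_dvd_of_le ?_))
    intro x hx
    rw [Subgroup.inf_subgroupOf_right]
    obtain ⟨k, hk⟩ := (IsPGroup.iff_orderOf.mp S.isPGroup') ⟨x, hx⟩
    exact hR x x.2 ⟨k, by rw [← hk, Subgroup.orderOf_mk, Subgroup.orderOf_coe]⟩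

end Cfsg.Agent.Lib.CharMisc.RealDegreeBijection
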