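import Cfsg.Agent.Lib.Characters.Clifford
import Cfsg.Agent.Lib.Characters.Kernel
import Mathlib.GroupTheory.GroupAction.Quotient

/-!
# Orbits on real characters and real classes of a normal subgroup of odd index
-/

set_option autoImplicit false
set_option linter.unusedSectionVars false
set_option linter.style.haveILetI false

namespace Cfsg.Agent.Lib.CharMisc

open Cfsg Cfsg.Agent.Lib.Characters
open scoped ComplexConjugate

universe u

variable {G : Type u} [Group G] (K : Subgroup G) [hK : K.Normal]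

/-- The action of `G` on the irreducible characters of a normal subgroup. -/
@[implicit_reducible]
def irrAction : MulAction G (IrrCharacter K) where
  smul g θ := ⟨_, IsIrrCharacter.conjFun K θ.2 g⁻¹⟩
  one_smul θ := Subtype.ext (by show conjFun K (1 : G)⁻¹ _ = _; rw [inv_one, conjFun_one])
  mul_smul g h θ := Subtype.ext (by
    show conjFun K (g * h)⁻¹ _ = conjFun K g⁻¹ (conjFun K h⁻¹ _)
    rw [mul_inv_rev, conjFun_mul])

/-- The action of `G` on the classes of a normal subgroup. -/
@[implicit_reducible]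
noncomputable def classAction : MulAction G (ConjClasses K) where
  smul g C := ConjClasses.map ((MulAut.conjNormal g : MulAut K)).toMonoidHom C
  one_smul C := by
    obtain ⟨k, rfl⟩ := ConjClasses.mk_surjective C
    show ConjClasses.mk ((MulAut.conjNormal (1 : G) : MulAut K) k) = _
    rw [map_one]; rfl
  mul_smul g h C := by
    obtain ⟨k, rfl⟩ := ConjClasses.mk_surjective C
    show ConjClasses.mk ((MulAut.conjNormal (g * h) : MulAut K) k) =
      ConjClasses.mk ((MulAut.conjNormal g : MulAut K) ((MulAut.conjNormal h : MulAut K) k))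
    rw [map_mul]; rfl

theorem fix_twisted_iff {Z : Type*} [MulAction G Z] (τ : Z → Z) (hτ : ∀ z, τ (τ z) = z)
    (hcomm : ∀ (g : G) z, τ (g • z) = g • τ z) (hodd : Odd K.index)
    (hKfix : ∀ g ∈ K, ∀ z : Z, g • z = z) (g : G) (z : Z) :
    g • τ z = z ↔ g • z = z ∧ τ z = z := by
  constructor
  · intro h
    have h2 : (g * g) • z = z := by
      have h3 : τ z = g⁻¹ • z := (inv_smul_eq_iff.2 h.symm).symm
      have h4 : τ (g • τ z) = g • z := by rw [hcomm, hτ]
      rw [h, h3] at h4
      rw [mul_smul, ← h4, smul_inv_smul]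
    have hm : g ^ K.index • z = z := hKfix _ (Subgroup.pow_index_mem K g) z
    obtain ⟨j, hj⟩ := hodd
    let S := MulAction.stabilizer G z
    have hg : g ∈ S := by
      have h4 : g = (g * g) ^ (j + 1) * (g ^ K.index)⁻¹ := by
        rw [hj, ← pow_two, ← pow_mul, eq_mul_inv_iff_mul_eq, ← pow_succ']
        congr 1
      rw [h4]
      exact mul_mem (pow_mem (MulAction.mem_stabilizer_iff.2 h2) _)
        (inv_mem (MulAction.mem_stabilizer_iff.2 hm))
    have hgz : g • z = z := hg
    refine ⟨hgz, ?_⟩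
    exact MulAction.injective g (h.trans hgz.symm)
  · rintro ⟨h1, h2⟩
    rw [h2, h1]

/-- Burnside's count of the orbits on a subset. -/
theorem card_quot_subset [Fintype G] {Z : Type*} [Finite Z] [MulAction G Z] (P : Z → Prop)
    (hP : ∀ (g : G) z, P z → P (g • z)) :
    Nat.card (Quot fun a b : {z // P z} => ∃ g : G, g • a.1 = b.1) * Nat.card G =
      ∑ g : G, Nat.card {z : Z // g • z = z ∧ P z} := by
  classical
  letI : MulAction G {z // P z} :=
    { smul := fun g z => ⟨g • z.1, hP g z.1 z.2⟩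
      one_smul := fun z => Subtype.ext (one_smul G z.1)
      mul_smul := fun g h z => Subtype.ext (mul_smul g h z.1) }
  haveI := Fintype.ofFinite {z // P z}
  haveI := Fintype.ofFinite (MulAction.orbitRel.Quotient G {z // P z})
  have h := MulAction.sum_card_fixedBy_eq_card_orbits_mul_card_group G {z // P z}
  have e : Quot (fun a b : {z // P z} => ∃ g : G, g • a.1 = b.1) ≃
      MulAction.orbitRel.Quotient G {z // P z} :=
    { toFun := Quot.lift (fun a => Quotient.mk'' a) fun a b ⟨g, hg⟩ =>
        (Quotient.eq''.2 ⟨g, Subtype.ext hg⟩ : (Quotient.mk'' b : MulAction.orbitRel.Quotient G _) = _).symm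
      invFun := fun q => Quotient.liftOn' q (fun a => Quot.mk _ a) fun a b hab => by
        obtain ⟨g, hg⟩ := hab
        exact (Quot.sound ⟨g, congrArg Subtype.val hg⟩).symm
      left_inv := fun q => by induction q using Quot.ind; rfl
      right_inv := fun q => by induction q using Quotient.inductionOn'; rfl }
  rw [Nat.card_congr e, Nat.card_eq_fintype_card, Nat.card_eq_fintype_card, ← h]
  refine Finset.sum_congr rfl fun g _ => ?_
  rw [← Nat.card_eq_fintype_card]
  exact Nat.card_congr
    { toFun := fun z => ⟨z.1.1, congrArg Subtype.val z.2, z.1.2⟩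
      invFun := fun z => ⟨⟨z.1, z.2.2⟩, Subtype.ext z.2.1⟩
      left_inv := fun z => rfl
      right_inv := fun z => rfl }

theorem real_iff [Finite G] (θ : IrrCharacter K) :
    (∀ k : K, ((θ : K → ℂ) k).im = 0) ↔
      (⟨_, IsIrrCharacter.conjugate θ.2⟩ : IrrCharacter K) = θ := by
  rw [Subtype.ext_iff, funext_iff]
  refine forall_congr' fun k => ?_
  exact Complex.conj_eq_iff_im.symm

theorem card_real_orbits [Finite G] (hodd : Odd K.index) :
    Nat.card (Quot (fun θ η : {θ : IrrCharacter K // (∀ k : K, ((θ : K → ℂ) k).im = 0)} =>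
      ∃ g : G, ∀ k k' : K, (k' : G) = g * (k : G) * g⁻¹ → (η.1 : K → ℂ) k' = (θ.1 : K → ℂ) k)) =
    Nat.card (Quot (fun x y : {x : K // IsConj x x⁻¹} => ∃ g : G, (y.1 : G) = g * x.1 * g⁻¹)) := by
  classical
  haveI := Fintype.ofFinite G
  haveI : Finite (ConjClasses K) := Finite.of_surjective _ ConjClasses.mk_surjective
  letI A1 := irrAction K
  letI A2 := classAction K
  have hval : ∀ (g : G) (θ : IrrCharacter K) (k : K),
      ((g • θ : IrrCharacter K) : K → ℂ) k = (θ : K → ℂ) (MulAut.conjNormal g⁻¹ k) := fun g θ k => rfl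
  have hcls : ∀ (g : G) (k : K),
      g • ConjClasses.mk k = ConjClasses.mk ((MulAut.conjNormal g : MulAut K) k) := fun g k => rfl
  let τ : IrrCharacter K → IrrCharacter K := fun θ => ⟨_, IsIrrCharacter.conjugate θ.2⟩
  let τ' : ConjClasses K → ConjClasses K := fun C => Quotient.liftOn' C (fun k => ConjClasses.mk k⁻¹)
    fun a b hab => ConjClasses.mk_eq_mk_iff_isConj.2 (by
      obtain ⟨c, hc⟩ := isConj_iff.1 hab
      exact isConj_iff.2 ⟨c, by rw [← hc]; group⟩)
  have hτ' : ∀ k, τ' (ConjClasses.mk k) = ConjClasses.mk k⁻¹ := fun k => rfl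
  have hKfix : ∀ g ∈ K, ∀ θ : IrrCharacter K, g • θ = θ := fun g hg θ =>
    Subtype.ext (conjFun_of_mem K (irr_isClassFunction θ) (inv_mem hg))
  have hKfix' : ∀ g ∈ K, ∀ C : ConjClasses K, g • C = C := by
    intro g hg C
    obtain ⟨k, rfl⟩ := ConjClasses.mk_surjective C
    rw [hcls]
    refine ConjClasses.mk_eq_mk_iff_isConj.2 (IsConj.symm (isConj_iff.2 ⟨⟨g, hg⟩, Subtype.ext ?_⟩))
    simp
  have h1 := fix_twisted_iff K τ (fun θ => Subtype.ext (funext fun k => Complex.conj_conj _))
    (fun g θ => rfl) hodd hKfix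
  have h2 := fix_twisted_iff K τ' (fun C => by
      obtain ⟨k, rfl⟩ := ConjClasses.mk_surjective C
      rw [hτ', hτ', inv_inv])
    (fun g C => by
      obtain ⟨k, rfl⟩ := ConjClasses.mk_surjective C
      rw [hcls, hτ', hτ', hcls, map_inv]) hodd hKfix'
  have hfix : ∀ g : G, Nat.card {θ : IrrCharacter K // g • θ = θ ∧ τ θ = θ} =
      Nat.card {C : ConjClasses K // g • C = C ∧ τ' C = C} := by
    intro g
    rw [Nat.card_congr (Equiv.subtypeEquivRight fun θ => (h1 g θ).symm),
      card_fixed_irr (fun θ => g • τ θ) (fun k => ((MulAut.conjNormal g⁻¹ : MulAut K) k)⁻¹) fun θ k => by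
        rw [hval]
        exact (IsCharacter.apply_inv (irr_isCharacter θ) _).symm]
    refine Nat.card_congr (Equiv.subtypeEquivRight fun C => ?_)
    obtain ⟨k₀, rfl⟩ := ConjClasses.mk_surjective C
    constructor
    · intro h
      have h3 := ConjClasses.mk_eq_mk_iff_isConj.2 (h k₀ rfl)
      have h4 : g⁻¹ • τ' (ConjClasses.mk k₀) = ConjClasses.mk k₀ := by
        rw [hτ', hcls, map_inv]; exact h3
      obtain ⟨h5, h6⟩ := (h2 _ _).1 h4
      exact ⟨(inv_smul_eq_iff.1 h5).symm, h6⟩
    · rintro ⟨h5, h6⟩ k hk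
      refine ConjClasses.mk_eq_mk_iff_isConj.1 ?_
      rw [hk, ← map_inv, ← hcls, ← hτ', hk, h6, inv_smul_eq_iff]
      exact h5.symm
  have hX := card_quot_subset (G := G) (fun θ : IrrCharacter K => τ θ = θ)
    (fun g θ h => (show τ (g • θ) = g • τ θ from rfl).trans (by rw [h]))
  have hY := card_quot_subset (G := G) (fun C : ConjClasses K => τ' C = C) (fun g C h => by
    obtain ⟨k, rfl⟩ := ConjClasses.mk_surjective C
    calc τ' (g • ConjClasses.mk k) = g • τ' (ConjClasses.mk k) := by
          rw [hcls, hτ', hτ', hcls, map_inv]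
      _ = g • ConjClasses.mk k := by rw [h])
  rw [Finset.sum_congr rfl fun g _ => hfix g, ← hY] at hX
  have hmain := Nat.eq_of_mul_eq_mul_right Nat.card_pos hX
  refine Eq.trans ?_ (hmain.trans ?_)
  · refine Nat.card_congr (Quot.congr (Equiv.subtypeEquivRight fun θ => real_iff K θ) fun a b => ?_)
    refine exists_congr fun g => ⟨fun h => Subtype.ext (funext fun k => ?_), fun h k k' hk => ?_⟩
    · show ((g • a.1 : IrrCharacter K) : K → ℂ) k = (b.1 : K → ℂ) k
      rw [hval]
      refine (h _ k ?_).symm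
      rw [MulAut.conjNormal_apply, inv_inv]; group
    · have h' : ((g • a.1 : IrrCharacter K) : K → ℂ) k' = (b.1 : K → ℂ) k' := by
        have h0 : g • a.1 = b.1 := h
        rw [h0]
      rw [← h', hval]
      refine congrArg _ (Subtype.ext ?_)
      rw [MulAut.conjNormal_apply, hk, inv_inv]; group
  · let f : {x : K // IsConj x x⁻¹} → {C : ConjClasses K // τ' C = C} := fun x =>
      ⟨ConjClasses.mk x.1, by rw [hτ']; exact (ConjClasses.mk_eq_mk_iff_isConj.2 x.2).symm⟩
    symm
    refine Nat.card_eq_of_bijective (Quot.lift (fun x => Quot.mk _ (f x)) ?_) ⟨?_, ?_⟩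
    · rintro x y ⟨g, hg⟩
      refine Quot.sound ⟨g, ?_⟩
      show g • ConjClasses.mk x.1 = ConjClasses.mk y.1
      rw [hcls]
      refine congrArg _ (Subtype.ext ?_)
      rw [MulAut.conjNormal_apply, hg]
    · intro a b
      induction a using Quot.ind with | _ x =>
      induction b using Quot.ind with | _ y =>
      intro h
      have hequiv : Equivalence (fun a b : {C : ConjClasses K // τ' C = C} => ∃ g : G, g • a.1 = b.1) :=
        ⟨fun a => ⟨1, one_smul G a.1⟩, fun ⟨g, hg⟩ => ⟨g⁻¹, by rw [← hg, inv_smul_smul]⟩,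
          fun ⟨g, hg⟩ ⟨g', hg'⟩ => ⟨g' * g, by rw [mul_smul, hg, hg']⟩⟩
      obtain ⟨g, hg⟩ := hequiv.eqvGen_iff.1 (Quot.eqvGen_exact h)
      have hg' : g • ConjClasses.mk x.1 = ConjClasses.mk y.1 := hg
      rw [hcls] at hg'
      obtain ⟨c, hc⟩ := isConj_iff.1 (ConjClasses.mk_eq_mk_iff_isConj.1 hg')
      refine Quot.sound ⟨(c : G) * g, ?_⟩
      rw [← hc]
      simp only [Subgroup.coe_mul, InvMemClass.coe_inv, MulAut.conjNormal_apply]
      group
    · intro q
      induction q using Quot.ind with | _ C =>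
      obtain ⟨C, hC⟩ := C
      obtain ⟨k, rfl⟩ := ConjClasses.mk_surjective C
      exact ⟨Quot.mk _ ⟨k, (ConjClasses.mk_eq_mk_iff_isConj.1 (hτ' k ▸ hC)).symm⟩, rfl⟩

end Cfsg.Agent.Lib.CharMisc
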