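import Cfsg.Agent.Lib.CharMisc.RealDegreeSylow
import Cfsg.Agent.Lib.CharMisc.RealOrbits
import Cfsg.Agent.Lib.CharMisc.RealOverOdd
import Cfsg.Agent.Lib.Glauberman.Equivariance
import Cfsg.Agent.Lib.Glauberman.Conj

/-!
# Real classes meet the Sylow normaliser when real characters have degree prime to p
-/

set_option autoImplicit false
set_option linter.unusedSectionVars false
set_option linter.style.haveILetI false

open scoped ComplexConjugate

namespace Cfsg.Agent.Lib.CharMisc.RealDegreeNormalizer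

open Cfsg Cfsg.Agent.Lib.Characters Cfsg.Agent.Lib.Glauberman RealDegreeSylow
open Cfsg.Agent.Lib.BrauerPairs (transIrr transIrr_apply)

universe u

variable {G : Type u} [Group G] [Finite G]

/-- A real-valued irreducible character of a normal subgroup of odd index lies under a real one. -/
theorem exists_real_over (K : Subgroup G) [K.Normal] (hodd : Odd K.index) (φ : IrrCharacter K)
    (hφ : ∀ k : K, ((φ : K → ℂ) k).im = 0) [Fintype K] :
    ∃ χ : IrrCharacter G, (∀ g : G, ((χ : G → ℂ) g).im = 0) ∧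
      classInner (fun k : K => (χ : G → ℂ) k) (φ : K → ℂ) ≠ 0 := by
  classical
  haveI := Fintype.ofFinite G
  haveI := Fintype.ofFinite (IrrCharacter G)
  by_contra hcon
  push Not at hcon
  have hφc := irr_isCharacter φ
  choose m hm using fun χ : IrrCharacter G =>
    IsCharacter.exists_classInner_nat (IsCharacter.restrict (irr_isCharacter χ) K) hφc
  have hΦ : ∀ χ : IrrCharacter G, classInner (indFun K (φ : K → ℂ)) (χ : G → ℂ) = m χ := fun χ => by
    rw [classInner_indFun K _ (irr_isClassFunction χ),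
      IsCharacter.classInner_comm hφc (IsCharacter.restrict (irr_isCharacter χ) K)]
    exact hm χ
  have hsq := classInner_indFun_self K φ.2
  rw [classInner_eq_sum_irr (isClassFunction_indFun K _) (isClassFunction_indFun K _),
    Finset.sum_congr rfl fun χ _ => by rw [hΦ, map_natCast]] at hsq
  have hsq' : Nat.card K * ∑ χ : IrrCharacter G, m χ * m χ =
      Nat.card (inertia K (φ : K → ℂ)) := by exact_mod_cast hsq
  have hodd' : Odd (∑ χ : IrrCharacter G, m χ * m χ) := by
    have hle : K ≤ inertia K (φ : K → ℂ) := le_inertia K (irr_isClassFunction φ)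
    have h1 := Subgroup.card_mul_index (K.subgroupOf (inertia K (φ : K → ℂ)))
    rw [Nat.card_congr (Subgroup.subgroupOfEquivOfLe hle).toEquiv, ← hsq'] at h1
    rw [← Nat.eq_of_mul_eq_mul_left Nat.card_pos h1]
    exact hodd.of_dvd_nat ⟨_, (Subgroup.relIndex_mul_index hle).symm⟩
  have hzero : (∑ χ : IrrCharacter G, ((m χ : ZMod 2) * (m χ : ZMod 2))) = 0 := by
    refine Finset.sum_involution (fun χ _ => starIrr χ) (fun χ _ => ?_) (fun χ _ hne he => ?_)
      (fun χ _ => Finset.mem_univ _) (fun χ _ => Subtype.ext (funext fun g => ?_))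
    · have h : m (starIrr χ) = m χ := by
        have h2 : classInner (fun k : K => (starIrr χ : G → ℂ) k) (φ : K → ℂ) = m χ := by
          have h4 : classInner (fun k : K => conj ((χ : G → ℂ) k))
              (fun k : K => conj ((φ : K → ℂ) k)) = (m χ : ℂ) := by
            rw [classInner, ← hm χ]
            have h3 := congrArg conj (hm χ)
            rw [map_natCast, classInner, map_mul, map_inv₀, map_natCast, map_sum] at h3
            rw [hm χ, ← h3]
            congr 1
            exact Finset.sum_congr rfl fun k _ => by simp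
          rw [show (fun k : K => conj ((φ : K → ℂ) k)) = (φ : K → ℂ) from
            funext fun k => Complex.conj_eq_iff_im.mpr (hφ k)] at h4
          exact h4
        rw [hm] at h2
        exact_mod_cast h2
      rw [h]
      exact CharTwo.add_self_eq_zero _
    · apply hne
      have : m χ = 0 := by
        have h := hcon χ ((starIrr_eq_self_iff χ).1 he)
        rw [hm] at h
        exact_mod_cast h
      rw [this, Nat.cast_zero, mul_zero]
    · exact Complex.conj_conj _
  have h2 : ((∑ χ : IrrCharacter G, m χ * m χ : ℕ) : ZMod 2) = 0 := by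
    push_cast; exact hzero
  rw [ZMod.natCast_eq_zero_iff_even] at h2
  exact Nat.not_even_iff_odd.mpr hodd' h2

variable {p : ℕ} [hp : Fact p.Prime]

theorem exists_inv_conjugate (K : Subgroup G) [K.Normal] (hodd : Odd K.index)
    (hreal : RealPrime p G) (P : Sylow p G) (φ : IrrCharacter K)
    (hφ : ∀ k : K, ((φ : K → ℂ) k).im = 0) :
    ∃ (g : G) (ψ : IrrCharacter K), (ψ : K → ℂ) = conjFun K g (φ : K → ℂ) ∧
      (∀ k : K, ((ψ : K → ℂ) k).im = 0) ∧
      ∀ x ∈ (P : Subgroup G), conjFun K x (ψ : K → ℂ) = (ψ : K → ℂ) := by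
  haveI := Fintype.ofFinite G
  haveI := Fintype.ofFinite K
  obtain ⟨χ, hχ, hne⟩ := exists_real_over K hodd φ hφ
  have hdeg := degree_eq K χ.2 φ.2 hne
  obtain ⟨e, he⟩ := IsCharacter.exists_classInner_nat (IsCharacter.restrict (irr_isCharacter χ) K)
    (irr_isCharacter φ)
  obtain ⟨d, -, hd⟩ := IsIrrCharacter.exists_apply_one φ.2
  rw [he, hd] at hdeg
  have hI : ¬ p ∣ (inertia K (φ : K → ℂ)).index := by
    intro h
    apply hreal χ hχ
    have h1 : charDegree (χ : G → ℂ) = e * (inertia K (φ : K → ℂ)).index * d := by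
      show ⌊((χ : G → ℂ) 1).re⌋₊ = _
      rw [hdeg]
      norm_cast
      exact Nat.floor_natCast _
    rw [h1]
    exact dvd_mul_of_dvd_left (dvd_mul_of_dvd_right h _) _
  rw [Subgroup.index_eq_card] at hI
  obtain ⟨c, hc⟩ := P.isPGroup'.nonempty_fixed_point_of_prime_not_dvd_card
    (G ⧸ inertia K (φ : K → ℂ)) hI
  obtain ⟨c, rfl⟩ := QuotientGroup.mk_surjective c
  refine ⟨c⁻¹, ⟨_, IsIrrCharacter.conjFun K φ.2 c⁻¹⟩, rfl, fun k => hφ _, fun x hx => ?_⟩
  show conjFun K x (conjFun K c⁻¹ _) = conjFun K c⁻¹ _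
  rw [← conjFun_mul, conjFun_eq_iff]
  have h : (QuotientGroup.mk (x⁻¹ * c) : G ⧸ inertia K (φ : K → ℂ)) = QuotientGroup.mk c :=
    hc ⟨x⁻¹, inv_mem hx⟩
  simpa [mul_assoc] using QuotientGroup.eq.mp h.symm |> Subgroup.inv_mem _

/-- The orbit relation on real irreducible characters of a normal subgroup. -/
def irrRel (K : Subgroup G) (θ η : {θ : IrrCharacter K // ∀ k : K, ((θ : K → ℂ) k).im = 0}) : Prop :=
  ∃ g : G, ∀ k k' : K, (k' : G) = g * (k : G) * g⁻¹ → (η.1 : K → ℂ) k' = (θ.1 : K → ℂ) k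

/-- The orbit relation on real elements of a normal subgroup. -/
def eltRel (K : Subgroup G) (x y : {x : K // IsConj x x⁻¹}) : Prop :=
  ∃ g : G, (y.1 : G) = g * x.1 * g⁻¹

theorem irrRel_equiv (K : Subgroup G) [K.Normal] : Equivalence (irrRel K) := by
  refine ⟨fun θ => ⟨1, fun k k' h => ?_⟩, fun {θ η} ⟨g, hg⟩ => ⟨g⁻¹, fun k k' h => ?_⟩,
    fun {θ η ζ} ⟨g, hg⟩ ⟨g', hg'⟩ => ⟨g' * g, fun k k' h => ?_⟩⟩
  · rw [show k' = k from Subtype.ext (by rw [h]; group)]
  · exact (hg k' k (by rw [h]; group)).symm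
  · have hk := (inferInstance : K.Normal).conj_mem _ k.2 g
    rw [hg' ⟨_, hk⟩ k' (by rw [h]; simp [mul_assoc]), hg k ⟨_, hk⟩ rfl]

theorem eltRel_equiv (K : Subgroup G) : Equivalence (eltRel K) :=
  ⟨fun x => ⟨1, by group⟩, fun {x y} ⟨g, hg⟩ => ⟨g⁻¹, by rw [hg]; group⟩,
    fun {x y z} ⟨g, hg⟩ ⟨g', hg'⟩ => ⟨g' * g, by rw [hg', hg]; group⟩⟩

/-- An element conjugate to its inverse in a group with normal subgroup of odd index is so in it. -/
theorem real_mem (K : Subgroup G) [K.Normal] (hodd : Odd K.index) {x : G} (hx : IsConj x x⁻¹) :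
    ∃ h : x ∈ K, IsConj (⟨x, h⟩ : K) (⟨x, h⟩ : K)⁻¹ := by
  haveI := Fintype.ofFinite G
  haveI := Fintype.ofFinite K
  have hxK : x ∈ K := mem_of_isConj_inv K hodd K.one_mem (by rwa [mul_one])
  obtain ⟨c, hc⟩ := isConj_iff.mp hx
  obtain ⟨j, hj⟩ := hodd
  refine ⟨hxK, isConj_iff.mpr ⟨⟨c ^ K.index, Subgroup.pow_index_mem K c⟩, Subtype.ext ?_⟩⟩
  show c ^ K.index * x * (c ^ K.index)⁻¹ = x⁻¹
  have hcomm : Commute (c ^ 2) x := mul_inv_eq_iff_eq_mul.mp (by
    calc c ^ 2 * x * (c ^ 2)⁻¹ = c * (c * x * c⁻¹) * c⁻¹ := by rw [pow_two]; group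
      _ = c * x⁻¹ * c⁻¹ := by rw [hc]
      _ = (c * x * c⁻¹)⁻¹ := by group
      _ = x := by rw [hc, inv_inv])
  rw [hj, pow_succ, mul_inv_rev]
  calc c ^ (2 * j) * c * x * (c⁻¹ * (c ^ (2 * j))⁻¹)
      = c ^ (2 * j) * (c * x * c⁻¹) * (c ^ (2 * j))⁻¹ := by group
    _ = x⁻¹ := by
      rw [hc, pow_mul, mul_inv_eq_iff_eq_mul]
      exact ((hcomm.pow_left j).inv_right).eq

/-- The case of a normal p'-subgroup of odd index. -/
theorem exists_mem_normalizer_of_coprime (K : Subgroup G) [K.Normal] (hodd : Odd K.index)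
    (hK : ¬ p ∣ Nat.card K) (hreal : RealPrime p G) (P : Sylow p G) {x : G} (hx : IsConj x x⁻¹) :
    ∃ y ∈ Subgroup.normalizer ((P : Subgroup G) : Set G), IsConj x y := by
  classical
  haveI := Fintype.ofFinite G
  haveI := Fintype.ofFinite K
  set N := Subgroup.normalizer ((P : Subgroup G) : Set G) with hN
  set C := K.subgroupOf N with hC
  haveI : C.Normal := Subgroup.Normal.comap inferInstance _
  have hPN : (P : Subgroup G) ≤ N := Subgroup.le_normalizer
  have hnorm : ∀ s ∈ (P : Subgroup G), ∀ g ∈ K, s * g * s⁻¹ ∈ K := fun s _ g hg =>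
    (inferInstance : K.Normal).conj_mem g hg s
  set φ := conjHom K (P : Subgroup G) hnorm with hφ
  haveI := Fintype.ofFinite (fixedSub φ)
  have hA : IsPGroup p (P : Subgroup G) := P.isPGroup'
  have hdis : Disjoint K (P : Subgroup G) := by
    rw [disjoint_iff, ← Subgroup.card_eq_one]
    obtain ⟨a, ha⟩ := (hA.to_le (inf_le_right : K ⊓ (P : Subgroup G) ≤ P)).exists_card_eq
    have h := Subgroup.card_dvd_of_le (inf_le_left : K ⊓ (P : Subgroup G) ≤ K)
    rcases Nat.eq_zero_or_pos a with h0 | h0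
    · rw [ha, h0, pow_zero]
    · exact absurd ((dvd_pow_self p h0.ne').trans (ha ▸ h)) hK
  have hfix : ∀ c : G, c ∈ K → c ∈ N → ∀ s ∈ (P : Subgroup G), s * c * s⁻¹ = c := by
    intro c hcK hcN s hs
    have h1 : s * c * s⁻¹ * c⁻¹ ∈ K := K.mul_mem (hnorm s hs c hcK) (K.inv_mem hcK)
    have h2 : s * c * s⁻¹ * c⁻¹ ∈ (P : Subgroup G) := by
      have := (P : Subgroup G).mul_mem hs
        ((Subgroup.mem_normalizer_iff.mp hcN s⁻¹).mp (inv_mem hs))
      simpa [mul_assoc] using this
    exact mul_inv_eq_one.mp (Subgroup.disjoint_def.mp hdis h1 h2)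
  have hfixN : ∀ z : fixedSub φ, ((z : K) : G) ∈ N := fun z =>
    Subgroup.centralizer_le_normalizer _ (Subgroup.mem_centralizer_iff.mpr fun s hs =>
      mul_inv_eq_iff_eq_mul.mp ((mem_fixedSub_conjHom hnorm).1 z.2 s hs))
  let e : C ≃* fixedSub φ :=
    { toFun := fun c => ⟨⟨((c : N) : G), c.2⟩,
        (mem_fixedSub_conjHom hnorm).2 (hfix _ c.2 (c : N).2)⟩
      invFun := fun z => ⟨⟨((z : K) : G), hfixN z⟩, (z : K).2⟩
      left_inv := fun _ => rfl
      right_inv := fun _ => rfl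
      map_mul' := fun _ _ => rfl }
  have he : ∀ c : C, ((e c : K) : G) = ((c : N) : G) := fun c => rfl
  have hoddC : Odd C.index := hodd.of_dvd_nat (Subgroup.relIndex_dvd_index_of_normal K N)
  obtain ⟨π, hπ, -⟩ := exists_glauberman φ hA hK
  -- every orbit of real characters has an invariant member
  have hrep : ∀ q : Quot (irrRel K), ∃ ψ : InvIrr φ,
      ∃ h : ∀ k : K, ((ψ.1 : K → ℂ) k).im = 0, Quot.mk (irrRel K) ⟨ψ.1, h⟩ = q := by
    intro q
    induction q using Quot.ind with | _ θ =>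
    obtain ⟨g, ψ, hψ, hψr, hψP⟩ := exists_inv_conjugate K hodd hreal P θ.1 θ.2
    refine ⟨⟨ψ, fun s k => ?_⟩, hψr, Quot.sound ⟨g, fun k k' h => ?_⟩⟩
    · conv_rhs => rw [← hψP s s.2]
      rfl
    · show (θ.1 : K → ℂ) k' = (ψ : K → ℂ) k
      rw [hψ]
      exact congrArg (θ.1 : K → ℂ) (Subtype.ext h)
  choose rep hrepr hrepq using hrep
  let F : Quot (irrRel K) → Quot (irrRel C) := fun q => Quot.mk _
    ⟨transIrr e.symm (π (rep q)), fun c => (Glauberman.real_iff φ π hπ (rep q)).1 (hrepr q) (e c)⟩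
  have hF : Function.Injective F := by
    intro q q' h
    obtain ⟨n, hn⟩ := (irrRel_equiv C).eqvGen_iff.1 (Quot.eqvGen_exact h)
    let σ : K ≃* K := MulAut.conjNormal (n : G)
    let σ₀ : fixedSub φ ≃* fixedSub φ := e.symm.trans ((MulAut.conjNormal n : MulAut C).trans e)
    have h₀ : ∀ c, ((σ₀ c : fixedSub φ) : K) = σ c := fun c => Subtype.ext (by
      simp [σ, σ₀, he]
      rfl)
    have hinv : IsInv φ (transIrr σ (rep q).1 : K → ℂ) := by
      intro s k
      show ((rep q).1 : K → ℂ) (σ.symm (φ s k)) = ((rep q).1 : K → ℂ) (σ.symm k)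
      have hs : (n : G)⁻¹ * s * (n : G) ∈ (P : Subgroup G) := by
        have := (Subgroup.mem_normalizer_iff.mp (N.inv_mem n.2) (s : G)).mp s.2
        simpa using this
      rw [← (rep q).2 ⟨_, hs⟩ (σ.symm k)]
      refine congrArg _ (Subtype.ext ?_)
      simp [σ, φ, conjHom_apply, MulAut.conjNormal_symm_apply, mul_assoc]
    have h1 : π ⟨_, hinv⟩ = π (rep q') := by
      rw [apply_transIrr φ π hπ σ σ₀ h₀ (rep q) ⟨_, hinv⟩ rfl]
      refine Subtype.ext (funext fun z => ?_)
      obtain ⟨w, rfl⟩ := σ₀.surjective z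
      rw [transIrr_apply]
      have h2 := hn (e.symm w) ((MulAut.conjNormal n : MulAut C) (e.symm w)) (by simp)
      calc ((π (rep q)) : fixedSub φ → ℂ) w
          = ((π (rep q)) : fixedSub φ → ℂ) (e (e.symm w)) := by rw [e.apply_symm_apply]
        _ = _ := h2.symm
    rw [← hrepq q, ← hrepq q']
    have h3 : transIrr σ (rep q).1 = (rep q').1 := congrArg Subtype.val (π.injective h1)
    refine Quot.sound ⟨(n : G), fun k k' hk => ?_⟩
    show ((rep q').1 : K → ℂ) k' = ((rep q).1 : K → ℂ) k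
    rw [← h3, show k' = σ k from Subtype.ext (by simp [σ, hk]), transIrr_apply]
  -- real elements
  let f : {y : C // IsConj y y⁻¹} → {y : K // IsConj y y⁻¹} := fun y =>
    ⟨(e y.1 : K), by
      have h := ((fixedSub φ).subtype.comp e.toMonoidHom).map_isConj y.2
      simpa using h⟩
  let Ψ : Quot (eltRel C) → Quot (eltRel K) := Quot.lift (fun y => Quot.mk _ (f y))
    (fun y z ⟨g, hg⟩ => Quot.sound ⟨(g : G), by
      have := congrArg (fun t : N => (t : G)) hg
      simpa [f, he] using this⟩)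
  have hΨ : Function.Injective Ψ := by
    intro a b
    induction a using Quot.ind with | _ y =>
    induction b using Quot.ind with | _ z =>
    intro h
    obtain ⟨g, hg⟩ := (eltRel_equiv K).eqvGen_iff.1 (Quot.eqvGen_exact h)
    simp only [f, he] at hg
    have hy : ∀ w : C, ((w : N) : G) ∈ Subgroup.centralizer ((P : Subgroup G) : Set G) := fun w =>
      Subgroup.mem_centralizer_iff.mpr fun s hs =>
        mul_inv_eq_iff_eq_mul.mp (hfix _ w.2 (w : N).2 s hs)
    obtain ⟨m, hm, he'⟩ := Sylow.conj_eq_normalizer_conj_of_mem_centralizer P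
      (((y.1 : C) : N) : G) g⁻¹ (hy y.1) (by rw [inv_inv, ← hg]; exact hy z.1)
    rw [inv_inv, ← hg] at he'
    refine Quot.sound ⟨(⟨m, hm⟩ : N)⁻¹, Subtype.ext ?_⟩
    simp [he']
  haveI : Finite (IrrCharacter C) := inferInstance
  haveI : Finite (Quot (eltRel C)) := Finite.of_surjective _ Quot.mk_surjective
  haveI : Finite (Quot (eltRel K)) := Finite.of_surjective _ Quot.mk_surjective
  haveI : Finite (Quot (irrRel C)) := Finite.of_surjective _ Quot.mk_surjective
  have hcard : Nat.card (Quot (eltRel K)) ≤ Nat.card (Quot (eltRel C)) := by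
    refine le_trans (card_real_orbits K hodd).symm.le ?_
    refine le_trans (Nat.card_le_card_of_injective F hF) ?_
    exact (card_real_orbits C hoddC).le
  have hsurj := ((Nat.bijective_iff_injective_and_card Ψ).mpr
    ⟨hΨ, le_antisymm (Nat.card_le_card_of_injective Ψ hΨ) hcard⟩).2
  obtain ⟨hxK, hxr⟩ := real_mem K hodd hx
  obtain ⟨b, hb⟩ := hsurj (Quot.mk _ ⟨⟨x, hxK⟩, hxr⟩)
  induction b using Quot.ind with | _ y =>
  obtain ⟨g, hg⟩ := (eltRel_equiv K).eqvGen_iff.1 (Quot.eqvGen_exact hb)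
  refine ⟨((y.1 : C) : N), (y.1 : N).2, (isConj_iff.mpr ⟨g, ?_⟩).symm⟩
  simpa [f, he] using hg.symm

/-- The general case. -/
theorem exists_mem_normalizer (hsolv : Group.IsSolvable (pEl p G)) (hreal : RealPrime p G)
    (P : Sylow p G) {x : G} (hx : IsConj x x⁻¹) :
    ∃ y ∈ Subgroup.normalizer ((P : Subgroup G) : Set G), IsConj x y := by
  haveI hKn : (pEl 2 G).Normal := pEl_normal Nat.prime_two
  obtain ⟨R, hRn, hRp, hR⟩ := exists_normal_pgroup p _ G le_rfl hsolv hreal (pEl 2 G) hKn le_rfl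
    ⟨0, by rw [pow_zero, Subgroup.relIndex_self]⟩
  haveI := hRn
  set π := QuotientGroup.mk' R with hπ
  have hπs : Function.Surjective π := QuotientGroup.mk'_surjective R
  set K' := (pEl 2 G).map π with hK'
  haveI : K'.Normal := hKn.map π hπs
  have hodd : Odd K'.index := by
    rw [Nat.odd_iff, ← Nat.two_dvd_ne_zero]
    intro h
    have h' : 2 ∣ (pEl 2 G).index := h.trans ((pEl 2 G).index_map_dvd hπs)
    rw [Subgroup.index_eq_card] at h'
    haveI : Fact (Nat.Prime 2) := ⟨Nat.prime_two⟩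
    obtain ⟨y, hy⟩ := exists_prime_orderOf_dvd_card' 2 h'
    obtain ⟨z, hz, j, hj⟩ := exists_lift (QuotientGroup.mk' (pEl 2 G))
      (QuotientGroup.mk'_surjective _) Nat.prime_two (k := 1) (by rw [hy, pow_one])
    rw [← hz, QuotientGroup.mk'_apply,
      (QuotientGroup.eq_one_iff z).mpr (Subgroup.subset_closure (show z ∈ {g : G | ∃ k : ℕ, orderOf g = 2 ^ k} from ⟨j, hj⟩)), orderOf_one] at hy
    exact absurd hy (by norm_num)
  have hK : ¬ p ∣ Nat.card K' := by
    intro h
    obtain ⟨y, hy⟩ := exists_prime_orderOf_dvd_card' p h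
    obtain ⟨z, hz, j, hj⟩ := exists_lift (π.subgroupMap (pEl 2 G))
      (π.subgroupMap_surjective (pEl 2 G)) hp.out (k := 1) (by rw [hy, pow_one])
    have hzR : (z : G) ∈ R := hR z z.2 ⟨j, by rw [Subgroup.orderOf_coe, hj]⟩
    have : y = 1 := by
      rw [← hz]
      exact Subtype.ext ((QuotientGroup.eq_one_iff (z : G)).mpr hzR)
    rw [this, orderOf_one] at hy
    exact hp.out.one_lt.ne hy
  obtain ⟨y', hy', hc⟩ := exists_mem_normalizer_of_coprime K' hodd hK (hreal.quotient R)
    (P.mapSurjective hπs) (x := π x) (by simpa using π.map_isConj hx)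
  obtain ⟨c', hc'⟩ := isConj_iff.mp hc
  obtain ⟨c, rfl⟩ := hπs c'
  refine ⟨c * x * c⁻¹, ?_, isConj_iff.mpr ⟨c, rfl⟩⟩
  have hRP : R ≤ (P : Subgroup G) := hRp.le_sylow_of_normal P
  rw [Sylow.coe_mapSurjective] at hy'
  have hcomap : ((P : Subgroup G).map π).comap π = P := by
    rw [Subgroup.comap_map_eq, QuotientGroup.ker_mk', sup_eq_left.mpr hRP]
  have hπy : π (c * x * c⁻¹) = y' := by rw [← hc']; simp
  rw [Subgroup.mem_normalizer_iff]
  intro w
  conv_lhs => rw [← hcomap]
  conv_rhs => rw [← hcomap]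
  simp only [Subgroup.mem_comap, map_mul, map_inv]
  rw [← map_inv π c, ← map_mul, ← map_mul, hπy]
  exact Subgroup.mem_normalizer_iff.mp hy' (π w)

end Cfsg.Agent.Lib.CharMisc.RealDegreeNormalizer
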