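import Cfsg.Agent.Lib.Characters.Clifford
import Cfsg.Agent.Lib.Characters.Kernel
import Cfsg.Agent.Lib.LocalEven2.SubnormalSylow
import Cfsg.Agent.Lib.Coprime.Hall
import Cfsg.Prelude.Def_Blocks
import Mathlib.GroupTheory.FiniteAbelian.Duality
import Mathlib.GroupTheory.Perm.Cycle.Type
import Mathlib.GroupTheory.Sylow
import Mathlib.Analysis.Complex.Polynomial.Basic
import Mathlib.RingTheory.RootsOfUnity.AlgebraicallyClosed

/-!
# Groups in which every real irreducible character has degree prime to p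

If the p-elements generate a solvable subgroup, the normal subgroups U containing all 2-elements
as a subgroup of p-power index have normal Sylow p-subgroups; normal subgroups inside the derived
subgroup of a Sylow p-subgroup (p odd) centralise all 2-elements.
-/

set_option autoImplicit false

open scoped ComplexConjugate commutatorElement

namespace Cfsg.Agent.Lib.CharMisc.RealDegreeSylow

open Cfsg Cfsg.Agent.Lib.Characters

universe u v

/-- The subgroup generated by the elements of r-power order. -/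
abbrev pEl (r : ℕ) (G : Type u) [Group G] : Subgroup G :=
  Subgroup.closure {g : G | ∃ k : ℕ, orderOf g = r ^ k}

section Lift

variable {G : Type u} [Group G] [Finite G] {H : Type v} [Group H]

theorem exists_lift (f : G →* H) (hf : Function.Surjective f) {r : ℕ} (hr : r.Prime) {y : H}
    {k : ℕ} (hy : orderOf y = r ^ k) : ∃ x, f x = y ∧ ∃ j, orderOf x = r ^ j := by
  obtain ⟨x₀, rfl⟩ := hf y
  obtain ⟨a, m, hm, ham⟩ :=
    Nat.exists_eq_pow_mul_and_not_dvd (orderOf_pos x₀).ne' r hr.ne_one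
  obtain ⟨s, hs⟩ := exists_pow_eq_self_of_coprime (x := f x₀) (n := m)
    (by rw [hy]; exact ((hr.coprime_iff_not_dvd.mpr hm).symm).pow_right k)
  refine ⟨(x₀ ^ m) ^ s, by rw [map_pow, map_pow, hs], ?_⟩
  have h : ((x₀ ^ m) ^ s) ^ r ^ a = 1 := by
    rw [← pow_mul, ← pow_mul, show m * (s * r ^ a) = orderOf x₀ * s by rw [ham]; ring, pow_mul,
      pow_orderOf_eq_one, one_pow]
  obtain ⟨j, -, hj⟩ := (Nat.dvd_prime_pow hr).mp (orderOf_dvd_of_pow_eq_one h)
  exact ⟨j, hj⟩

theorem map_pEl (f : G →* H) (hf : Function.Surjective f) {r : ℕ} (hr : r.Prime) :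
    (pEl r G).map f = pEl r H := by
  rw [MonoidHom.map_closure]
  congr 1
  ext y
  constructor
  · rintro ⟨x, ⟨k, hk⟩, rfl⟩
    obtain ⟨j, -, hj⟩ := (Nat.dvd_prime_pow hr).mp (hk ▸ orderOf_map_dvd f x)
    exact ⟨j, hj⟩
  · rintro ⟨k, hk⟩
    obtain ⟨x, hx, hj⟩ := exists_lift f hf hr hk
    exact ⟨x, hj, hx⟩

theorem pEl_normal {r : ℕ} (hr : r.Prime) : (pEl r G).Normal :=
  ⟨fun x hx g => by
    have h := map_pEl (MulAut.conj g).toMonoidHom (MulAut.conj g).surjective (G := G) hr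
    exact h ▸ ⟨x, hx, rfl⟩⟩

end Lift

variable {G : Type u} [Group G]

section Char

variable (M : Subgroup G) [hMn : M.Normal]

/-- The stabiliser of a linear character of a normal subgroup. -/
abbrev stab (lam : M →* ℂˣ) : Subgroup G :=
  inertia M (fun m => (lam m : ℂ))

theorem mem_stab {lam : M →* ℂˣ} {g : G} :
    g ∈ stab M lam ↔ ∀ m : M, lam (MulAut.conjNormal g m) = lam m := by
  rw [mem_inertia_iff, funext_iff]
  exact forall_congr' fun m => Units.val_inj

theorem le_stab {lam : M →* ℂˣ} : M ≤ stab M lam :=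
  le_inertia M (IsCharacter.isClassFunction (IsIrrCharacter.isCharacter (isIrrCharacter_unitsHom lam)))

theorem conj_mem_stab {lam : M →* ℂˣ} {n t : G}
    (hn : ∀ m : M, lam (MulAut.conjNormal n m) = (lam m)⁻¹) (ht : t ∈ stab M lam) :
    n * t * n⁻¹ ∈ stab M lam := by
  rw [mem_stab] at ht ⊢
  intro m
  rw [map_mul, map_mul, MulAut.mul_apply, MulAut.mul_apply, hn, ht, ← hn, ← MulAut.mul_apply,
    ← map_mul, mul_inv_cancel, map_one, MulAut.one_apply]

theorem inv_inverts {lam : M →* ℂˣ} {n : G}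
    (hn : ∀ m : M, lam (MulAut.conjNormal n m) = (lam m)⁻¹) (m : M) :
    lam (MulAut.conjNormal n⁻¹ m) = (lam m)⁻¹ := by
  have h := hn (MulAut.conjNormal n⁻¹ m)
  rw [← MulAut.mul_apply, ← map_mul, mul_inv_cancel, map_one, MulAut.one_apply] at h
  rw [h, inv_inv]

theorem exists_real_irr [Finite G] (N₀ : Subgroup G)
    (hd : ∀ g, g ∈ M → g ∈ N₀ → g = 1) (hdec : ∀ g : G, ∃ m ∈ M, ∃ n ∈ N₀, m * n = g)
    (lam : M →* ℂˣ) (n₀ : G) (hn₀ : n₀ ∈ N₀)
    (hinv : ∀ m : M, lam (MulAut.conjNormal n₀ m) = (lam m)⁻¹) :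
    ∃ χ : IrrCharacter G, (∀ g : G, ((χ : G → ℂ) g).im = 0) ∧
      charDegree (χ : G → ℂ) = (stab M lam).index := by
  classical
  haveI := Fintype.ofFinite G
  choose pm hpmM pn hpn hpe using hdec
  have huniq : ∀ (g m n : G), m ∈ M → n ∈ N₀ → m * n = g → pm g = m := by
    intro g m n hm hn he
    have h1 : m⁻¹ * pm g = n * (pn g)⁻¹ := by
      rw [eq_mul_inv_iff_mul_eq, mul_assoc, hpe, ← he, inv_mul_cancel_left]
    have := hd _ (M.mul_mem (M.inv_mem hm) (hpmM g))
      (h1 ▸ N₀.mul_mem hn (N₀.inv_mem (hpn g)))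
    exact (inv_mul_eq_one.mp this).symm
  set T := stab M lam with hT
  have hMT : M ≤ T := le_stab M
  let f : T → ℂˣ := fun t => lam ⟨pm t, hpmM t⟩
  have hf : ∀ a b : T, f (a * b) = f a * f b := by
    intro a b
    have hna : pn a ∈ T := by
      have h := T.mul_mem (T.inv_mem (hMT (hpmM a))) a.2
      rwa [show (pm a)⁻¹ * (a : G) = pn a from inv_mul_eq_of_eq_mul (hpe a).symm] at h
    have hab : pm ((a * b : T) : G) = pm a * (pn a * pm b * (pn a)⁻¹) :=
      huniq _ _ (pn a * pn b) (M.mul_mem (hpmM a) (hMn.conj_mem _ (hpmM b) _))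
        (N₀.mul_mem (hpn a) (hpn b)) (by
          calc pm a * (pn a * pm b * (pn a)⁻¹) * (pn a * pn b)
              = (pm a * pn a) * (pm b * pn b) := by group
            _ = ((a * b : T) : G) := by rw [hpe, hpe]; rfl)
    have hc : (⟨pm ((a * b : T) : G), hpmM _⟩ : M) =
        ⟨pm a, hpmM a⟩ * MulAut.conjNormal (pn a) ⟨pm b, hpmM b⟩ :=
      Subtype.ext (hab.trans (by simp))
    show lam _ = _
    rw [hc, map_mul, (mem_stab M).mp hna]
  let ψ : T →* ℂˣ := MonoidHom.mk' f hf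
  have hψM : ∀ m : M, ψ ⟨m, hMT m.2⟩ = lam m := fun m =>
    congrArg lam (Subtype.ext (huniq _ _ 1 m.2 N₀.one_mem (mul_one _)))
  have hTn : ∀ {t : G}, t ∈ T → n₀ * t * n₀⁻¹ ∈ T := fun ht => conj_mem_stab M hinv ht
  have hψn : ∀ t : T, ψ ⟨n₀ * t * n₀⁻¹, hTn t.2⟩ = (ψ t)⁻¹ := by
    intro t
    have h1 : pm (n₀ * t * n₀⁻¹) = n₀ * pm t * n₀⁻¹ :=
      huniq _ _ (n₀ * pn t * n₀⁻¹) (hMn.conj_mem _ (hpmM t) _)
        (N₀.mul_mem (N₀.mul_mem hn₀ (hpn t)) (N₀.inv_mem hn₀))
        (by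
          calc n₀ * pm t * n₀⁻¹ * (n₀ * pn t * n₀⁻¹) = n₀ * (pm t * pn t) * n₀⁻¹ := by group
            _ = n₀ * t * n₀⁻¹ := by rw [hpe])
    show lam _ = (lam _)⁻¹
    rw [← hinv]
    exact congrArg lam (Subtype.ext (by simp [h1]))
  have hψc := IsIrrCharacter.isCharacter (isIrrCharacter_unitsHom ψ)
  set χ : G → ℂ := indFun T (fun t => (ψ t : ℂ)) with hχdef
  have hχc : IsCharacter G χ := IsCharacter.indFun T hψc
  have hχ1 : χ 1 = (T.index : ℂ) := by rw [hχdef, indFun_one, map_one]; simp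
  have hTpos : 0 < T.index := Nat.pos_of_ne_zero T.index_ne_zero_of_finite
  -- irreducibility
  have hirr : IsIrrCharacter G χ := by
    obtain ⟨φ, hφ⟩ := IsCharacter.exists_constituent hχc (fun h => by
      have := congrFun h 1
      rw [hχ1, Pi.zero_apply] at this
      exact hTpos.ne' (Nat.cast_eq_zero.mp this))
    obtain ⟨rest, hrest, hsum⟩ := IsCharacter.exists_add_of_classInner_ne_zero hχc φ.2 hφ
    have h1 : classInner (fun t : T => (φ : G → ℂ) t) (fun t => (ψ t : ℂ)) ≠ 0 := by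
      intro h
      apply hφ
      rw [hχdef, classInner_indFun T _ (irr_isClassFunction φ), ← classInner_conj_symm, h, map_zero]
    obtain ⟨r2, hr2, hsum2⟩ := IsCharacter.exists_add_of_classInner_ne_zero
      (IsCharacter.restrict (irr_isCharacter φ) T) (isIrrCharacter_unitsHom ψ) h1
    have hθ := isIrrCharacter_unitsHom lam
    have h2 : classInner (fun m : M => (φ : G → ℂ) m) (fun m => (lam m : ℂ)) ≠ 0 := by
      have he : (fun m : M => (φ : G → ℂ) m) =
          (fun m : M => (lam m : ℂ)) + r2 ∘ Subgroup.inclusion hMT := by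
        funext m
        have := congrFun hsum2 ⟨m, hMT m.2⟩
        simp only [Pi.add_apply, hψM] at this
        exact this
      rw [he]
      exact IsCharacter.classInner_ne_zero_of_add (IsIrrCharacter.isCharacter hθ)
        (IsCharacter.comp hr2 _) (IsIrrCharacter.isCharacter hθ)
        (by rw [IsIrrCharacter.classInner_self hθ]; exact one_ne_zero)
    obtain ⟨k, hk⟩ := IsCharacter.exists_classInner_nat
      (IsCharacter.restrict (irr_isCharacter φ) M) (IsIrrCharacter.isCharacter hθ)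
    have hdeg := degree_eq M φ.2 hθ h2
    rw [hk] at hdeg h2
    simp only [map_one, Units.val_one, mul_one] at hdeg
    obtain ⟨n, hn⟩ := IsCharacter.exists_apply_one hrest
    have h3 : T.index = k * T.index + n := by
      have := congrFun hsum 1
      rw [hχ1, Pi.add_apply, hdeg, hn] at this
      exact_mod_cast this
    have hk0 : 1 ≤ k := Nat.pos_of_ne_zero fun h => h2 (by rw [h, Nat.cast_zero])
    have hn0 : n = 0 := by nlinarith
    have hr0 : rest = 0 := funext fun g => by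
      have := IsCharacter.norm_le hrest g
      rw [hn, hn0, Nat.cast_zero, norm_zero] at this
      exact norm_le_zero_iff.mp this
    rw [hsum, hr0, add_zero]
    exact φ.2
  refine ⟨⟨χ, hirr⟩, fun g => ?_, ?_⟩
  · rw [← Complex.conj_eq_iff_im]
    show conj (χ g) = χ g
    rw [hχdef, indFun_conj, indFun_apply, indFun_apply]
    refine congrArg _ (Fintype.sum_equiv (Equiv.mulRight n₀⁻¹) _ _ fun x => ?_)
    have he : (Equiv.mulRight n₀⁻¹ x)⁻¹ * g * Equiv.mulRight n₀⁻¹ x =
        n₀ * (x⁻¹ * g * x) * n₀⁻¹ := by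
      simp [mul_assoc]
    rw [he]
    generalize x⁻¹ * g * x = y
    by_cases hy : y ∈ T
    · rw [extendByZero_of_mem _ _ hy, extendByZero_of_mem _ _ (hTn hy)]
      have h := hψn ⟨y, hy⟩
      rw [h, ← IsCharacter.apply_inv hψc, map_inv]
    · have hy' : n₀ * y * n₀⁻¹ ∉ T := fun h => hy (by
        have := conj_mem_stab M (inv_inverts M hinv) h
        simpa [mul_assoc] using this)
      rw [extendByZero_of_not_mem _ _ hy, extendByZero_of_not_mem _ _ hy']
  · show ⌊(χ 1).re⌋₊ = _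
    rw [hχ1, Complex.natCast_re, Nat.floor_natCast]

theorem exists_hom_ne_one [Finite G] (hab : ∀ a ∈ M, ∀ b ∈ M, a * b = b * a) {m : M}
    (hm : m ≠ 1) : ∃ lam : M →* ℂˣ, lam m ≠ 1 := by
  let _ : CommGroup M :=
    { (inferInstance : Group M) with mul_comm := fun a b => Subtype.ext (hab a a.2 b b.2) }
  haveI : NeZero (Monoid.exponent M) := ⟨Monoid.exponent_ne_zero_of_finite⟩
  exact CommGroup.exists_apply_ne_one_of_hasEnoughRootsOfUnity M ℂ hm

end Char

/-- Some element outside a subgroup has square inside it, if some 2-element is outside. -/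
theorem exists_sq_mem (C : Subgroup G) : ∀ (k : ℕ) (g : G), g ^ 2 ^ k = 1 → g ∉ C →
    ∃ h, h ∉ C ∧ h * h ∈ C ∧ ∃ j, h ^ 2 ^ j = 1 := by
  intro k
  induction k with
  | zero =>
    intro g hg hgC
    exact absurd (by simpa using hg : g = 1) (fun h => hgC (h ▸ C.one_mem))
  | succ k ih =>
    intro g hg hgC
    by_cases h : g * g ∈ C
    · exact ⟨g, hgC, h, k + 1, hg⟩
    · exact ih (g * g) (by rw [← pow_two, ← pow_mul, ← pow_succ']; exact hg) h

section Main

variable (p : ℕ)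

/-- Hypothesis: the real irreducible characters have degree prime to p. -/
def RealPrime (G : Type u) [Group G] : Prop :=
  ∀ χ : IrrCharacter G, (∀ g : G, ((χ : G → ℂ) g).im = 0) → ¬ p ∣ charDegree (χ : G → ℂ)

theorem RealPrime.quotient {p : ℕ} [Finite G] (h : RealPrime p G) (M : Subgroup G) [M.Normal] :
    RealPrime p (G ⧸ M) := by
  intro χ hχ hd
  refine h ⟨_, IsIrrCharacter.comp_surjective χ.2 (QuotientGroup.mk' M)
    (QuotientGroup.mk'_surjective M)⟩ (fun g => hχ _) ?_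
  simpa [charDegree] using hd

theorem exists_normal_pgroup [hp : Fact p.Prime] : ∀ (n : ℕ) (G : Type u) [Group G] [Finite G],
    Nat.card G ≤ n → Group.IsSolvable (pEl p G) → RealPrime p G → ∀ U : Subgroup G, U.Normal →
    pEl 2 G ≤ U → (∃ a : ℕ, (pEl 2 G).relIndex U = p ^ a) →
    ∃ R : Subgroup G, R.Normal ∧ IsPGroup p R ∧
      ∀ g ∈ U, (∃ k : ℕ, orderOf g = p ^ k) → g ∈ R := by
  intro n
  induction n with
  | zero =>
    intro G _ _ hn
    exact absurd hn (Nat.not_le.mpr Nat.card_pos)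
  | succ n ih =>
  intro G _ _ hn hsolv hreal U hU hKU hUp
  haveI := pEl_normal (G := G) hp.out
  haveI hKn : (pEl 2 G).Normal := pEl_normal Nat.prime_two
  haveI := hU
  by_cases hN : U ⊓ pEl p G = ⊥
  · refine ⟨⊥, inferInstance, IsPGroup.of_bot, fun g hg hk => ?_⟩
    rw [← hN]
    exact ⟨hg, Subgroup.subset_closure hk⟩
  obtain ⟨M, hMN, hMn, hM1, hMmin⟩ :=
    LocalEven2.exists_minimal_normal_le (inferInstance : (U ⊓ pEl p G).Normal) hN
  haveI := hMn
  haveI := hsolv
  have hMs : Group.IsSolvable M :=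
    Group.isSolvable_of_isSolvable_injective (Subgroup.inclusion_injective (hMN.trans inf_le_right))
  obtain ⟨q, M', hq, hM'n, hM'1, hM'M, hM'ab, hM'q, hM'exp⟩ :=
    Coprime.exists_normal_abelian_pgroup_le hM1 hMs
  obtain rfl : M' = M := (hMmin M' hM'n hM'M).resolve_left hM'1
  haveI := Fact.mk hq
  have hab : ∀ a ∈ M', ∀ b ∈ M', a * b = b * a := fun a ha b hb =>
    congrArg Subtype.val (hM'ab.is_comm.comm ⟨a, ha⟩ ⟨b, hb⟩)
  have hMU : M' ≤ U := hMN.trans inf_le_left
  set π := QuotientGroup.mk' M' with hπ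
  have hπs : Function.Surjective π := QuotientGroup.mk'_surjective M'
  have hker : π.ker = M' := QuotientGroup.ker_mk' M'
  have hn' : Nat.card (G ⧸ M') ≤ n := by
    have h1 := Subgroup.card_eq_card_quotient_mul_card_subgroup M'
    have h2 : 1 < Nat.card M' := M'.one_lt_card_iff_ne_bot.mpr hM1
    have h3 : 0 < Nat.card (G ⧸ M') := Nat.card_pos
    nlinarith
  have hsolv' : Group.IsSolvable (pEl p (G ⧸ M')) := by
    rw [← map_pEl π hπs hp.out]
    exact Group.isSolvable_of_surjective (π.subgroupMap_surjective (pEl p G))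
  have hK' := map_pEl π hπs Nat.prime_two
  obtain ⟨R', hR'n, hR'p, hR'⟩ := ih (G ⧸ M') hn' hsolv' (hreal.quotient M') (U.map π)
    (hU.map π hπs) (hK' ▸ Subgroup.map_mono hKU) (by
      obtain ⟨a, ha⟩ := hUp
      rw [← hK', Subgroup.relIndex_map_map, hker, sup_eq_left.mpr hMU]
      obtain ⟨b, -, hb⟩ := (Nat.dvd_prime_pow hp.out).mp
        (ha ▸ Subgroup.relIndex_dvd_of_le_left U (le_sup_left : pEl 2 G ≤ pEl 2 G ⊔ M'))
      exact ⟨b, hb⟩)
  haveI := hR'n
  set L := R'.comap π with hL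
  have hML : M' ≤ L := fun x hx => by
    rw [hL, Subgroup.mem_comap, (MonoidHom.mem_ker (f := π)).mp (hker.symm ▸ hx)]
    exact R'.one_mem
  have hUL : ∀ g ∈ U, (∃ k : ℕ, orderOf g = p ^ k) → g ∈ L := by
    rintro g hg ⟨k, hk⟩
    obtain ⟨j, -, hj⟩ := (Nat.dvd_prime_pow hp.out).mp (hk ▸ orderOf_map_dvd π g)
    exact hR' _ ⟨g, hg, rfl⟩ ⟨j, hj⟩
  by_cases hqp : q = p
  · subst hqp
    exact ⟨L, inferInstance, hR'p.comap_of_ker_isPGroup π (hker.symm ▸ hM'q), hUL⟩
  let P : Sylow p L := default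
  set P' := (P : Subgroup L).map L.subtype with hP'
  have hP'p : IsPGroup p P' := P.isPGroup'.map L.subtype
  have hP'L : P' ≤ L := Subgroup.map_subtype_le _
  have hMP : Disjoint M' P' := IsPGroup.disjoint_of_ne q p hqp M' P' hM'q hP'p
  have hLsup : M' ⊔ P' = L := by
    refine le_antisymm (sup_le hML hP'L) (Subgroup.relIndex_eq_one.mp ?_)
    have h1 : M'.relIndex L = Nat.card R' := by
      conv_lhs => rw [← hker, ← MonoidHom.comap_bot, Subgroup.relIndex_comap, hL,
        Subgroup.map_comap_eq_self_of_surjective hπs, Subgroup.relIndex_bot_left]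
    obtain ⟨a, ha⟩ := hR'p.exists_card_eq
    obtain ⟨b, -, hb⟩ := (Nat.dvd_prime_pow hp.out).mp
      ((h1.trans ha) ▸ Subgroup.relIndex_dvd_of_le_left L (le_sup_left : M' ≤ M' ⊔ P'))
    have h2 : P'.relIndex L = (P : Subgroup L).index := by
      rw [Subgroup.relIndex, Subgroup.subgroupOf, hP',
        Subgroup.comap_map_eq_self_of_injective L.subtype_injective]
    have h3 : ¬ p ∣ p ^ b := fun h => P.not_dvd_index
      (h2 ▸ h.trans (hb ▸ Subgroup.relIndex_dvd_of_le_left L le_sup_right))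
    rw [hb]
    rcases Nat.eq_zero_or_pos b with h0 | h0
    · rw [h0, pow_zero]
    · exact absurd (dvd_pow_self p h0.ne') h3
  set N₀ := Subgroup.normalizer (P' : Set G) with hN₀
  have hPN : P' ≤ N₀ := Subgroup.le_normalizer
  have hsup : M' ⊔ N₀ = ⊤ := by
    refine top_le_iff.mp (le_trans (Sylow.normalizer_sup_eq_top P).ge (sup_le le_sup_right ?_))
    rw [← hLsup]
    exact sup_le le_sup_left (hPN.trans le_sup_right)
  by_cases hcen : P' ≤ Subgroup.centralizer (M' : Set G)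
  · -- P' is normal
    refine ⟨P', ?_, hP'p, ?_⟩
    · rw [← Subgroup.normalizer_eq_top_iff]
      refine top_le_iff.mp (hsup ▸ sup_le ?_ le_rfl)
      refine le_trans ?_ (Subgroup.centralizer_le_normalizer _)
      exact Subgroup.le_centralizer_iff.mp hcen
    · intro g hg hk
      have hgL := hUL g hg hk
      rw [← hLsup, Subgroup.mem_sup_of_normal_left] at hgL
      obtain ⟨m, hm, x, hx, rfl⟩ := hgL
      obtain ⟨k, hk⟩ := hk
      obtain ⟨j, hj⟩ := hP'p ⟨x, hx⟩
      have hj' : x ^ p ^ j = 1 := by have := congrArg Subtype.val hj; simpa using this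
      have hc : Commute m x := (Subgroup.mem_centralizer_iff.mp (hcen hx) m hm)
      have h1 : m ^ (p ^ k * p ^ j) = 1 := by
        have h : (m * x) ^ (p ^ k * p ^ j) = 1 := by rw [pow_mul, ← hk, pow_orderOf_eq_one, one_pow]
        rwa [hc.mul_pow, mul_comm (p ^ k) (p ^ j), pow_mul x, hj', one_pow, mul_one,
          mul_comm (p ^ j)] at h
      have hm1 : m = 1 := orderOf_eq_one_iff.mp (Nat.eq_one_of_dvd_coprimes
        ((Nat.coprime_primes hq hp.out).mpr hqp |>.pow 1 (k + j))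
        (by rw [pow_one]; exact orderOf_dvd_of_pow_eq_one (hM'exp m hm))
        (by rw [pow_add]; exact orderOf_dvd_of_pow_eq_one h1))
      rwa [hm1, one_mul]
  exfalso
  -- M' is complemented by N₀
  have hMN0 : ∀ g, g ∈ M' → g ∈ N₀ → g = 1 := by
    intro g hgM hgN
    have hg : g ∈ M' ⊓ Subgroup.centralizer (P' : Set G) := by
      refine ⟨hgM, Subgroup.mem_centralizer_iff.mpr fun x hx => ?_⟩
      have h1 : g * x * g⁻¹ * x⁻¹ ∈ M' := by
        have := M'.mul_mem hgM (hMn.conj_mem _ (M'.inv_mem hgM) x)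
        simpa [mul_assoc] using this
      have h2 : g * x * g⁻¹ * x⁻¹ ∈ P' :=
        P'.mul_mem ((Subgroup.mem_normalizer_iff.mp hgN x).mp hx) (P'.inv_mem hx)
      have h3 := Subgroup.disjoint_def.mp hMP h1 h2
      exact (mul_inv_eq_iff_eq_mul.mp (mul_inv_eq_one.mp h3)).symm
    by_contra hg1
    have hn2 : (M' ⊓ Subgroup.centralizer (P' : Set G)).Normal := by
      rw [← Subgroup.normalizer_eq_top_iff]
      refine top_le_iff.mp (hsup ▸ sup_le (fun m hm => ?_) (fun y hy => ?_))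
      · refine Subgroup.centralizer_le_normalizer _ (Subgroup.mem_centralizer_iff.mpr fun z hz => ?_)
        exact hab z hz.1 m hm
      · rw [Subgroup.mem_normalizer_iff]
        have key : ∀ w : G, w ∈ N₀ → ∀ z, z ∈ M' ⊓ Subgroup.centralizer (P' : Set G) →
            w * z * w⁻¹ ∈ M' ⊓ Subgroup.centralizer (P' : Set G) := by
          intro w hw z hz
          refine ⟨hMn.conj_mem _ hz.1 w, Subgroup.mem_centralizer_iff.mpr fun x hx => ?_⟩
          have hx' : w⁻¹ * x * w ∈ P' := by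
            have := (Subgroup.mem_normalizer_iff.mp (N₀.inv_mem hw) x).mp hx
            simpa using this
          have := congrArg (fun t => w * t * w⁻¹) (Subgroup.mem_centralizer_iff.mp hz.2 _ hx')
          simpa [mul_assoc] using this
        refine fun z => ⟨key y hy z, fun h => ?_⟩
        have := key y⁻¹ (N₀.inv_mem hy) _ h
        simpa [mul_assoc] using this
    rcases hMmin _ hn2 inf_le_left with h | h
    · exact hg1 (Subgroup.mem_bot.mp (h ▸ hg))
    · exact hcen (Subgroup.le_centralizer_iff.mp (inf_eq_left.mp h))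
  have hdec : ∀ g : G, ∃ m ∈ M', ∃ n ∈ N₀, m * n = g := fun g =>
    Subgroup.mem_sup_of_normal_left.mp (hsup ▸ Subgroup.mem_top g)
  -- a linear character fixed by L is trivial
  have hfix : ∀ lam : M' →* ℂˣ, L ≤ stab M' lam → lam = 1 := by
    intro lam hle
    have hC : ⁅L, M'⁆ = M' := by
      refine (hMmin _ inferInstance (Subgroup.commutator_le_right L M')).resolve_left fun h => hcen ?_
      exact hP'L.trans (Subgroup.commutator_eq_bot_iff_le_centralizer.mp h)
    have hle2 : ⁅L, M'⁆ ≤ lam.ker.map M'.subtype := by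
      rw [Subgroup.commutator_le]
      intro l hl m hm
      refine ⟨MulAut.conjNormal l ⟨m, hm⟩ * ⟨m, hm⟩⁻¹, ?_, by simp [commutatorElement_def]⟩
      show lam _ = 1
      rw [map_mul, (mem_stab M').mp (hle hl), map_inv, mul_inv_cancel]
    ext m
    obtain ⟨m', hm', he⟩ := hle2 (hC.symm.le m.2)
    have : m' = m := Subtype.ext he
    rw [← this, (MonoidHom.mem_ker.mp hm')]
    rfl
  -- a linear character inverted by an element of N₀
  obtain ⟨lam, n₀, hn₀, hlam, hinv⟩ : ∃ (lam : M' →* ℂˣ) (n₀ : G), n₀ ∈ N₀ ∧ lam ≠ 1 ∧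
      ∀ m : M', lam (MulAut.conjNormal n₀ m) = (lam m)⁻¹ := by
    by_cases hq2 : q = 2
    · obtain ⟨m, hm, hm1⟩ := Subgroup.bot_or_exists_ne_one M' |>.resolve_left hM1
      obtain ⟨lam, hlam⟩ := exists_hom_ne_one M' hab (m := ⟨m, hm⟩) (fun h => hm1 (congrArg Subtype.val h))
      refine ⟨lam, 1, N₀.one_mem, fun h => hlam (by rw [h]; rfl), fun x => ?_⟩
      rw [map_one, MulAut.one_apply, eq_inv_iff_mul_eq_one, ← map_mul, ← pow_two,
        show x ^ 2 = 1 from Subtype.ext (by have := hM'exp x x.2; rw [hq2] at this; simpa using this),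
        map_one]
    · obtain ⟨g, hgC, k, hgk⟩ : ∃ g : G, g ∉ Subgroup.centralizer (M' : Set G) ∧
          ∃ k, g ^ 2 ^ k = 1 := by
        by_contra hcon
        push Not at hcon
        have hK0 : pEl 2 G ≤ N₀ := by
          rw [Subgroup.closure_le]
          rintro g ⟨k, hk⟩
          obtain ⟨m, hm, x, hx, rfl⟩ := hdec g
          have hgc : m * x ∈ Subgroup.centralizer (M' : Set G) := by
            by_contra h
            exact hcon _ h k (hk ▸ pow_orderOf_eq_one _)
          have hcx : x ∈ Subgroup.centralizer (M' : Set G) := by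
            have := Subgroup.mul_mem _ (Subgroup.inv_mem _ (Subgroup.mem_centralizer_iff.mpr
              fun y hy => hab y hy m hm : m ∈ Subgroup.centralizer (M' : Set G))) hgc
            simpa using this
          have hc : Commute m x := Subgroup.mem_centralizer_iff.mp hcx m hm
          have h1 : m ^ 2 ^ k * x ^ 2 ^ k = 1 := by
            rw [← hc.mul_pow, ← hk, pow_orderOf_eq_one]
          have h2 : m ^ 2 ^ k = 1 := hMN0 _ (M'.pow_mem hm _) (by
            rw [eq_inv_of_mul_eq_one_left h1]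
            exact N₀.inv_mem (N₀.pow_mem hx _))
          have hm1 : m = 1 := orderOf_eq_one_iff.mp (Nat.eq_one_of_dvd_coprimes
            ((Nat.coprime_primes hq Nat.prime_two).mpr hq2 |>.pow 1 k)
            (by rw [pow_one]; exact orderOf_dvd_of_pow_eq_one (hM'exp m hm))
            (orderOf_dvd_of_pow_eq_one h2))
          simpa [hm1] using hx
        obtain ⟨a, ha⟩ := hUp
        refine hM1 ((Subgroup.eq_bot_iff_forall _).mpr fun m hm => hMN0 m hm (hK0 ?_))
        have h1 : m ^ p ^ a ∈ pEl 2 G := by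
          have h := Subgroup.pow_index_mem ((pEl 2 G).subgroupOf U) ⟨m, hMU hm⟩
          rw [show ((pEl 2 G).subgroupOf U).index = p ^ a from ha] at h
          exact h
        obtain ⟨c, hc⟩ := exists_pow_eq_self_of_coprime (x := m) (n := p ^ a)
          (Nat.Coprime.coprime_dvd_right (orderOf_dvd_of_pow_eq_one (hM'exp m hm))
            (((Nat.coprime_primes hp.out hq).mpr (Ne.symm hqp)).pow_left a))
        rw [← hc]
        exact Subgroup.pow_mem _ h1 c
      obtain ⟨h, hhC, hh2, -⟩ := exists_sq_mem _ k g hgk hgC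
      obtain ⟨m₀, hm₀, hne⟩ : ∃ m₀ ∈ M', h * m₀ * h⁻¹ ≠ m₀ := by
        by_contra hcon
        push Not at hcon
        exact hhC (Subgroup.mem_centralizer_iff.mpr fun y hy =>
          (mul_inv_eq_iff_eq_mul.mp (hcon y hy)).symm)
      obtain ⟨lam0, hlam0⟩ := exists_hom_ne_one M' hab
        (m := MulAut.conjNormal h ⟨m₀, hm₀⟩ * ⟨m₀, hm₀⟩⁻¹)
        (fun he => hne (by have := congrArg Subtype.val (mul_inv_eq_one.mp he); simpa using this))
      let lam : M' →* ℂˣ :=
        (lam0.comp (MulAut.conjNormal h : MulAut M').toMonoidHom) / lam0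
      have hlamapp : ∀ m, lam m = lam0 (MulAut.conjNormal h m) / lam0 m := fun m => rfl
      obtain ⟨m1, hm1, n₀, hn₀, hmn⟩ := hdec h
      refine ⟨lam, n₀, hn₀, fun he => hlam0 ?_, fun m => ?_⟩
      · rw [map_mul, map_inv, ← div_eq_mul_inv, ← hlamapp, he]
        rfl
      · have h1 : MulAut.conjNormal n₀ m = MulAut.conjNormal h m := by
          apply Subtype.ext
          have := hab m1 hm1 _ (hMn.conj_mem _ m.2 n₀)
          simp only [MulAut.conjNormal_apply, ← hmn]
          calc n₀ * (m : G) * n₀⁻¹ = n₀ * m * n₀⁻¹ * m1 * m1⁻¹ := by group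
            _ = m1 * (n₀ * m * n₀⁻¹) * m1⁻¹ := by rw [this]
            _ = m1 * n₀ * m * (m1 * n₀)⁻¹ := by group
        have h2 : MulAut.conjNormal h (MulAut.conjNormal h m) = m := by
          apply Subtype.ext
          have := Subgroup.mem_centralizer_iff.mp hh2 m m.2
          simp only [MulAut.conjNormal_apply]
          calc h * (h * (m : G) * h⁻¹) * h⁻¹ = (h * h * m) * (h * h)⁻¹ := by group
            _ = (m : G) := by rw [← this]; group
        rw [h1, hlamapp, hlamapp, h2, inv_div]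
  obtain ⟨χ, hχr, hχd⟩ := exists_real_irr M' N₀ hMN0 hdec lam n₀ hn₀ hinv
  have hTp : ¬ p ∣ (stab M' lam).index := hχd ▸ hreal χ hχr
  rw [Subgroup.index_eq_card] at hTp
  obtain ⟨c, hc⟩ := hP'p.nonempty_fixed_point_of_prime_not_dvd_card (G ⧸ stab M' lam) hTp
  obtain ⟨c, rfl⟩ := QuotientGroup.mk_surjective c
  refine hlam (hfix lam ?_)
  intro l hl
  have hmem : c * l * c⁻¹ ∈ L := (inferInstance : L.Normal).conj_mem _ hl c
  rw [← hLsup, Subgroup.mem_sup_of_normal_left] at hmem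
  obtain ⟨m, hm, x, hx, he⟩ := hmem
  have hl' : l = (c⁻¹ * m * c) * (c⁻¹ * x * c) := by
    calc l = c⁻¹ * (c * l * c⁻¹) * c := by group
      _ = c⁻¹ * (m * x) * c := by rw [he]
      _ = _ := by group
  rw [hl']
  refine Subgroup.mul_mem _ (le_stab M' (by simpa using hMn.conj_mem _ hm c⁻¹)) ?_
  have h := hc ⟨x, hx⟩
  have h' : (QuotientGroup.mk (x * c) : G ⧸ stab M' lam) = QuotientGroup.mk c := h
  simpa [mul_assoc] using Subgroup.inv_mem _ (QuotientGroup.eq.mp h')

theorem sylow_normal [hp : Fact p.Prime] {G : Type u} [Group G] [Finite G]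
    (hsolv : Group.IsSolvable (pEl p G)) (hreal : RealPrime p G) (U : Subgroup G) (hU : U.Normal)
    (hKU : pEl 2 G ≤ U) (hUp : ∃ a : ℕ, (pEl 2 G).relIndex U = p ^ a) (Q : Sylow p U) :
    (Q : Subgroup U).Normal := by
  obtain ⟨R, hRn, hRp, hR⟩ := exists_normal_pgroup p _ G le_rfl hsolv hreal U hU hKU hUp
  haveI := hRn
  have hle : (Q : Subgroup U) ≤ R.subgroupOf U := by
    intro x hx
    obtain ⟨k, hk⟩ := (IsPGroup.iff_orderOf.mp Q.isPGroup') ⟨x, hx⟩
    exact hR x x.2 ⟨k, by rw [← hk, Subgroup.orderOf_mk, Subgroup.orderOf_coe]⟩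
  have heq : R.subgroupOf U = Q :=
    Q.is_maximal' (hRp.comap_of_injective U.subtype U.subtype_injective) hle
  rw [← heq]
  infer_instance

end Main

section Derived

/-- A character of a p-group of degree prime to p has a linear constituent. -/
theorem exists_linear_constituent {P : Type u} [Group P] [Fintype P] {p : ℕ} [hp : Fact p.Prime]
    (hP : IsPGroup p P) {χ : P → ℂ} (hχ : IsCharacter P χ) {d : ℕ} (hd : χ 1 = d) (hpd : ¬ p ∣ d) :
    ∃ ψ : IrrCharacter P, classInner χ (ψ : P → ℂ) ≠ 0 ∧ (ψ : P → ℂ) 1 = 1 := by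
  haveI := Fintype.ofFinite (IrrCharacter P)
  obtain ⟨m, hm, hm'⟩ := IsCharacter.exists_nat_decomp hχ
  choose δ hδpos hδ hδdvd using fun ψ : IrrCharacter P => IsIrrCharacter.exists_degree_dvd ψ.2
  have hsum : d = ∑ ψ, m ψ * δ ψ := by
    have h := congrFun hm 1
    rw [hd, Finset.sum_apply] at h
    simp only [Pi.smul_apply, smul_eq_mul, hδ] at h
    exact_mod_cast h
  obtain ⟨ψ, hψ⟩ : ∃ ψ, ¬ p ∣ m ψ * δ ψ := by
    by_contra h
    push Not at h
    exact hpd (hsum ▸ Finset.dvd_sum fun ψ _ => h ψ)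
  obtain ⟨a, ha⟩ := hP.exists_card_eq
  obtain ⟨b, -, hb⟩ := (Nat.dvd_prime_pow hp.out).mp (ha ▸ hδdvd ψ)
  have hb0 : b = 0 := by
    by_contra h
    exact hψ ((dvd_pow_self p h).trans (hb ▸ dvd_mul_left _ _))
  refine ⟨ψ, ?_, by rw [hδ ψ, hb, hb0, pow_zero, Nat.cast_one]⟩
  rw [hm' ψ, Nat.cast_ne_zero]
  exact fun h => hψ (by rw [h, zero_mul]; exact dvd_zero p)

variable {G : Type u} [Group G] [Finite G] {p : ℕ} [hp : Fact p.Prime]

theorem apply_eq_apply_one (hreal : RealPrime p G) (P : Sylow p G) (M : Subgroup G) [M.Normal]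
    (hMP : M ≤ ⁅(P : Subgroup G), (P : Subgroup G)⁆) {χ : G → ℂ} (hχ : IsIrrCharacter G χ)
    (hr : ∀ g, (χ g).im = 0) {m : G} (hm : m ∈ M) : χ m = χ 1 := by
  haveI := Fintype.ofFinite G
  haveI := Fintype.ofFinite (P : Subgroup G)
  haveI := Fintype.ofFinite M
  have hχc := IsIrrCharacter.isCharacter hχ
  obtain ⟨d, -, hd⟩ := IsIrrCharacter.exists_apply_one hχ
  have hpd : ¬ p ∣ d := by
    have h := hreal ⟨χ, hχ⟩ hr
    change ¬ p ∣ ⌊(χ 1).re⌋₊ at h
    rwa [hd, Complex.natCast_re, Nat.floor_natCast] at h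
  obtain ⟨ψ, hψ, hψ1⟩ := exists_linear_constituent P.isPGroup'
    (IsCharacter.restrict hχc (P : Subgroup G)) (d := d) (by simpa using hd) hpd
  obtain ⟨r, hr, hsum⟩ := IsCharacter.exists_add_of_classInner_ne_zero
    (IsCharacter.restrict hχc (P : Subgroup G)) ψ.2 hψ
  have hMP' : M ≤ (P : Subgroup G) := hMP.trans (Subgroup.commutator_le_self _)
  have he : (fun x : M => χ x) = (fun _ : M => (1 : ℂ)) + r ∘ Subgroup.inclusion hMP' := by
    funext x
    have h := congrFun hsum ⟨x, hMP' x.2⟩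
    have h1 : ψ.1 ⟨x, hMP' x.2⟩ = 1 :=
      IsCharacter.apply_of_mem_commutator (g := (⟨x, hMP' x.2⟩ : (P : Subgroup G))) (irr_isCharacter ψ) hψ1 (by
        have h2 : (x : G) ∈ ⁅(P : Subgroup G), (P : Subgroup G)⁆ := hMP x.2
        rw [← Subgroup.map_subtype_commutator] at h2
        obtain ⟨y, hy, he⟩ := h2
        rwa [show (⟨x, hMP' x.2⟩ : (P : Subgroup G)) = y from Subtype.ext he.symm])
    simp only [Pi.add_apply, h1] at h
    exact h
  have h1 := isIrrCharacter_one (G := M)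
  have hne : classInner (fun x : M => χ x) (fun _ => (1 : ℂ)) ≠ 0 := by
    rw [he]
    exact IsCharacter.classInner_ne_zero_of_add isCharacter_one (IsCharacter.comp hr _)
      isCharacter_one (by rw [IsIrrCharacter.classInner_self h1]; exact one_ne_zero)
  have h := restrict_eq_smul_of_invariant M hχ h1 (fun g => rfl) hne
  have ha := congrFun h ⟨m, hm⟩
  have hb := congrFun h 1
  simp only [Pi.smul_apply, smul_eq_mul, mul_one, OneMemClass.coe_one] at ha hb
  rw [ha, hb]

theorem card_real_classes_quotient (hreal : RealPrime p G) (P : Sylow p G) (M : Subgroup G)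
    [M.Normal] (hMP : M ≤ ⁅(P : Subgroup G), (P : Subgroup G)⁆) :
    Nat.card {C : ConjClasses G // ∀ g : G, ConjClasses.mk g = C → IsConj g g⁻¹} =
      Nat.card {C : ConjClasses (G ⧸ M) //
        ∀ g : G ⧸ M, ConjClasses.mk g = C → IsConj g g⁻¹} := by
  rw [← card_real_irr, ← card_real_irr]
  refine (Nat.card_eq_of_bijective (fun χ : {χ : IrrCharacter (G ⧸ M) //
      ∀ g, ((χ : (G ⧸ M) → ℂ) g).im = 0} =>
    (⟨⟨_, IsIrrCharacter.comp_surjective χ.1.2 (QuotientGroup.mk' M)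
      (QuotientGroup.mk'_surjective M)⟩, fun g => χ.2 _⟩ :
      {χ : IrrCharacter G // ∀ g : G, ((χ : G → ℂ) g).im = 0})) ⟨?_, ?_⟩).symm
  · intro a b h
    have h' := congrArg (fun z => ((z.1 : IrrCharacter G) : G → ℂ)) h
    refine Subtype.ext (Subtype.ext (funext fun y => ?_))
    obtain ⟨g, rfl⟩ := QuotientGroup.mk'_surjective M y
    exact congrFun h' g
  · intro χ
    obtain ⟨ψ, hψ, he⟩ := IsIrrCharacter.exists_quotient χ.1.2 M
      (fun m hm => apply_eq_apply_one hreal P M hMP χ.1.2 χ.2 hm)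
    refine ⟨⟨⟨ψ, hψ⟩, fun y => ?_⟩, Subtype.ext (Subtype.ext he.symm)⟩
    obtain ⟨g, rfl⟩ := QuotientGroup.mk'_surjective M y
    have := χ.2 g
    rw [he] at this
    exact this

/-- An inverted element of the quotient by an odd normal subgroup lifts to an inverted element. -/
theorem exists_real_lift (M : Subgroup G) [M.Normal] (hodd : ¬ 2 ∣ Nat.card M) {a : G ⧸ M}
    (ha : IsConj a a⁻¹) : ∃ h : G, (h : G ⧸ M) = a ∧ IsConj h h⁻¹ := by
  classical
  obtain ⟨c₀, hc₀⟩ := isConj_iff.mp ha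
  obtain ⟨e, m, hm, hem⟩ := Nat.exists_eq_pow_mul_and_not_dvd (orderOf_pos c₀).ne' 2 (by norm_num)
  have hc2 : c₀ ^ 2 * a * (c₀ ^ 2)⁻¹ = a := by
    rw [pow_two, mul_inv_rev]
    calc c₀ * c₀ * a * (c₀⁻¹ * c₀⁻¹) = c₀ * (c₀ * a * c₀⁻¹) * c₀⁻¹ := by group
      _ = c₀ * a⁻¹ * c₀⁻¹ := by rw [hc₀]
      _ = (c₀ * a * c₀⁻¹)⁻¹ := by group
      _ = a := by rw [hc₀, inv_inv]
  have hcomm : Commute (c₀ ^ 2) a := mul_inv_eq_iff_eq_mul.mp hc2
  obtain ⟨i, rfl⟩ : ∃ i, m = 2 * i + 1 := ⟨m / 2, by omega⟩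
  have hcm : c₀ ^ (2 * i + 1) * a * (c₀ ^ (2 * i + 1))⁻¹ = a⁻¹ := by
    rw [pow_succ, mul_inv_rev]
    calc c₀ ^ (2 * i) * c₀ * a * (c₀⁻¹ * (c₀ ^ (2 * i))⁻¹)
        = c₀ ^ (2 * i) * (c₀ * a * c₀⁻¹) * (c₀ ^ (2 * i))⁻¹ := by group
      _ = a⁻¹ := by
        rw [hc₀, pow_mul, mul_inv_eq_iff_eq_mul]
        exact ((hcomm.pow_left i).inv_right).eq
  have hord : ∃ j, orderOf (c₀ ^ (2 * i + 1)) = 2 ^ j := by
    obtain ⟨j, -, hj⟩ := (Nat.dvd_prime_pow Nat.prime_two).mp
      (orderOf_dvd_of_pow_eq_one (show (c₀ ^ (2 * i + 1)) ^ 2 ^ e = 1 by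
        rw [← pow_mul, mul_comm, ← hem, pow_orderOf_eq_one]))
    exact ⟨j, hj⟩
  obtain ⟨j, hj⟩ := hord
  obtain ⟨c, hc, k, hk⟩ := exists_lift (QuotientGroup.mk' M) (QuotientGroup.mk'_surjective M)
    Nat.prime_two hj
  have hpres : ∀ x : G, (x : G ⧸ M) = a → ((c * x⁻¹ * c⁻¹ : G) : G ⧸ M) = a := by
    intro x hx
    show (c : G ⧸ M) * (x : G ⧸ M)⁻¹ * (c : G ⧸ M)⁻¹ = a
    rw [hx, show (c : G ⧸ M) = c₀ ^ (2 * i + 1) from hc, ← inv_inj, mul_inv_rev, mul_inv_rev,
      inv_inv, inv_inv, ← mul_assoc, hcm]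
  let F : {x : G // (x : G ⧸ M) = a} → {x : G // (x : G ⧸ M) = a} :=
    fun x => ⟨c * x.1⁻¹ * c⁻¹, hpres x.1 x.2⟩
  have hF2 : ∀ (t : ℕ) (x : {x : G // (x : G ⧸ M) = a}),
      ((F^[2 * t]) x).1 = c ^ (2 * t) * x.1 * (c ^ (2 * t))⁻¹ := by
    intro t
    induction t with
    | zero => intro x; simp
    | succ t ih =>
      intro x
      rw [show 2 * (t + 1) = (1 + 1) + 2 * t by ring, Function.iterate_add_apply,
        Function.iterate_add_apply, Function.iterate_one]
      show c * (c * ((F^[2 * t]) x).1⁻¹ * c⁻¹)⁻¹ * c⁻¹ = _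
      rw [ih, pow_add, show c ^ (1 + 1) = c * c from pow_two c]
      simp only [mul_inv_rev, inv_inv, mul_assoc]
  have hFid : F^[2 ^ (k + 1)] = id := by
    funext x
    apply Subtype.ext
    rw [pow_succ', hF2, pow_mul', ← hk, pow_orderOf_eq_one]
    simp
  have hbij : Function.Bijective F := by
    refine ⟨fun x y h => ?_, fun y => ?_⟩
    · have h' := congrArg Subtype.val h
      simp only [F, mul_left_inj, mul_right_inj, inv_inj] at h'
      exact Subtype.ext h'
    · obtain ⟨t, ht⟩ : ∃ t, 2 ^ (k + 1) = t + 1 := ⟨2 ^ (k + 1) - 1, by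
        have := Nat.one_le_two_pow (n := k + 1); omega⟩
      refine ⟨(F^[t]) y, ?_⟩
      rw [← Function.iterate_succ_apply' F t y]
      rw [ht] at hFid
      exact congrFun hFid y
  haveI := Fintype.ofFinite {x : G // (x : G ⧸ M) = a}
  have hcard : ¬ 2 ∣ Fintype.card {x : G // (x : G ⧸ M) = a} := by
    obtain ⟨g, rfl⟩ := QuotientGroup.mk_surjective a
    rw [← Nat.card_eq_fintype_card]
    rwa [Nat.card_congr (Equiv.subtypeEquiv (p := fun m : G => m ∈ M)
      (q := fun x : G => (x : G ⧸ M) = (g : G ⧸ M)) (Equiv.mulLeft g) (fun m => by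
        show m ∈ M ↔ (QuotientGroup.mk (g * m) : G ⧸ M) = QuotientGroup.mk g
        rw [eq_comm, QuotientGroup.eq, inv_mul_cancel_left])).symm]
  haveI : Fact (Nat.Prime 2) := ⟨Nat.prime_two⟩
  obtain ⟨x, hx⟩ := Equiv.Perm.exists_fixed_point_of_prime (p := 2) (n := k + 1) hcard
    (σ := Equiv.ofBijective F hbij) (by
      refine Equiv.ext fun x => ?_
      rw [Equiv.Perm.coe_pow]
      exact congrFun hFid x)
  refine ⟨x.1, x.2, IsConj.symm (isConj_iff.mpr ⟨c, ?_⟩)⟩
  exact congrArg Subtype.val hx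

theorem eq_one_of_isConj_inv (hreal : RealPrime p G) (hp2 : p ≠ 2) (P : Sylow p G)
    (M : Subgroup G) [M.Normal] (hMP : M ≤ ⁅(P : Subgroup G), (P : Subgroup G)⁆)
    {m : G} (hm : m ∈ M) (hmr : IsConj m m⁻¹) : m = 1 := by
  have hodd : ¬ 2 ∣ Nat.card M := by
    obtain ⟨a, ha⟩ := (P.isPGroup'.to_le (hMP.trans (Subgroup.commutator_le_self _))).exists_card_eq
    rw [ha]
    exact fun h => hp2 ((Nat.prime_dvd_prime_iff_eq Nat.prime_two hp.out).mp
      (Nat.prime_two.dvd_of_dvd_pow h)).symm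
  let π := QuotientGroup.mk' M
  let Ψ : {C : ConjClasses G // ∀ g : G, ConjClasses.mk g = C → IsConj g g⁻¹} →
      {C : ConjClasses (G ⧸ M) // ∀ g : G ⧸ M, ConjClasses.mk g = C → IsConj g g⁻¹} :=
    fun C => ⟨ConjClasses.map π C.1, by
      obtain ⟨C, hC⟩ := C
      obtain ⟨g, rfl⟩ := ConjClasses.mk_surjective C
      intro y hy
      have h1 : IsConj y (π g) := ConjClasses.mk_eq_mk_iff_isConj.mp hy
      have h2 : IsConj (π g) (π g)⁻¹ := by simpa using π.map_isConj (hC g rfl)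
      have h3 : IsConj (π g)⁻¹ y⁻¹ := by
        obtain ⟨d, hd⟩ := isConj_iff.mp h1.symm
        exact isConj_iff.mpr ⟨d, by rw [← hd]; group⟩
      exact (h1.trans h2).trans h3⟩
  have hsurj : Function.Surjective Ψ := by
    rintro ⟨C, hC⟩
    obtain ⟨a, rfl⟩ := ConjClasses.mk_surjective C
    obtain ⟨h, hh, hhr⟩ := exists_real_lift M hodd (hC a rfl)
    refine ⟨⟨ConjClasses.mk h, fun y hy => ?_⟩, Subtype.ext (congrArg ConjClasses.mk hh)⟩
    have h1 : IsConj y h := ConjClasses.mk_eq_mk_iff_isConj.mp hy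
    obtain ⟨d, hd⟩ := isConj_iff.mp h1.symm
    exact (h1.trans hhr).trans (isConj_iff.mpr ⟨d, by rw [← hd]; group⟩)
  have hinj := ((Nat.bijective_iff_surjective_and_card Ψ).mpr
    ⟨hsurj, card_real_classes_quotient hreal P M hMP⟩).1
  have hr : ∀ x : G, IsConj x x⁻¹ → ∀ g, ConjClasses.mk g = ConjClasses.mk x → IsConj g g⁻¹ := by
    intro x hx g hg
    have h1 : IsConj g x := ConjClasses.mk_eq_mk_iff_isConj.mp hg
    obtain ⟨d, hd⟩ := isConj_iff.mp h1.symm
    exact (h1.trans hx).trans (isConj_iff.mpr ⟨d, by rw [← hd]; group⟩)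
  have h := @hinj ⟨ConjClasses.mk m, hr m hmr⟩
    ⟨ConjClasses.mk 1, hr 1 (by simp)⟩
    (Subtype.ext (congrArg ConjClasses.mk (show π m = π 1 by
      rw [map_one]; exact (QuotientGroup.eq_one_iff m).mpr hm)))
  exact isConj_one_left.mp (ConjClasses.mk_eq_mk_iff_isConj.mp (congrArg Subtype.val h))

theorem pEl_two_le_centralizer (hreal : RealPrime p G) (hp2 : p ≠ 2) (P : Sylow p G)
    (M : Subgroup G) [hMn : M.Normal] (hMP : M ≤ ⁅(P : Subgroup G), (P : Subgroup G)⁆) :
    pEl 2 G ≤ Subgroup.centralizer (M : Set G) := by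
  rw [Subgroup.closure_le]
  rintro g ⟨k, hk⟩
  by_contra hg
  obtain ⟨h, hhC, hh2, -⟩ := exists_sq_mem (Subgroup.centralizer (M : Set G)) k g
    (hk ▸ pow_orderOf_eq_one g) hg
  apply hhC
  refine Subgroup.mem_centralizer_iff.mpr fun m hm => ?_
  have hy : h * m * h⁻¹ * m⁻¹ ∈ M := M.mul_mem (hMn.conj_mem _ hm h) (M.inv_mem hm)
  have hc := Subgroup.mem_centralizer_iff.mp hh2 m hm
  have hinv : h * (h * m * h⁻¹ * m⁻¹) * h⁻¹ = (h * m * h⁻¹ * m⁻¹)⁻¹ := by
    calc h * (h * m * h⁻¹ * m⁻¹) * h⁻¹ = (h * h * m) * (h * h)⁻¹ * (h * m⁻¹ * h⁻¹) := by group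
      _ = (m * (h * h)) * (h * h)⁻¹ * (h * m⁻¹ * h⁻¹) := by rw [hc]
      _ = _ := by group
  have h1 := eq_one_of_isConj_inv hreal hp2 P M hMP hy (isConj_iff.mpr ⟨h, hinv⟩)
  exact (mul_inv_eq_iff_eq_mul.mp (mul_inv_eq_one.mp h1)).symm

end Derived

end Cfsg.Agent.Lib.CharMisc.RealDegreeSylow
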