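import Cfsg.Agent.Lib.Characters.Kernel
import Cfsg.Agent.Lib.Characters.Brauer
import Cfsg.Agent.Lib.BlockHeights.CharTools
import Cfsg.Prelude.Def_Blocks

/-!
# Congruences modulo `p` separate `p`-regular classes
-/

set_option autoImplicit false
set_option linter.unusedSectionVars false
set_option linter.style.haveILetI false

namespace Cfsg.Agent.Lib.CharMisc

open Cfsg Cfsg.Agent.Lib.Characters
open scoped ComplexConjugate

universe u

variable {G : Type u} [Group G] [Fintype G]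

/-- `a` and `b` differ by `p` times an algebraic integer. -/
def CongrMod (p : ℕ) (a b : ℂ) : Prop := ∃ γ : ℂ, IsIntegral ℤ γ ∧ a - b = (p : ℂ) * γ

theorem CongrMod.of_eq (p : ℕ) {a b : ℂ} (h : a = b) : CongrMod p a b :=
  ⟨0, isIntegral_zero, by rw [h, mul_zero, sub_self]⟩

theorem CongrMod.symm {p : ℕ} {a b : ℂ} : CongrMod p a b → CongrMod p b a :=
  fun ⟨γ, hγ, h⟩ => ⟨-γ, hγ.neg, by linear_combination -h⟩

theorem CongrMod.trans {p : ℕ} {a b c : ℂ} : CongrMod p a b → CongrMod p b c → CongrMod p a c :=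
  fun ⟨γ, hγ, h⟩ ⟨δ, hδ, h'⟩ => ⟨γ + δ, hγ.add hδ, by linear_combination h + h'⟩

theorem CongrMod.add {p : ℕ} {a b c d : ℂ} :
    CongrMod p a b → CongrMod p c d → CongrMod p (a + c) (b + d) :=
  fun ⟨γ, hγ, h⟩ ⟨δ, hδ, h'⟩ => ⟨γ + δ, hγ.add hδ, by linear_combination h + h'⟩

theorem CongrMod.mul_left {p : ℕ} {a b c : ℂ} (hc : IsIntegral ℤ c) :
    CongrMod p a b → CongrMod p (c * a) (c * b) :=
  fun ⟨γ, hγ, h⟩ => ⟨c * γ, hc.mul hγ, by linear_combination c * h⟩

theorem CongrMod.sum {p : ℕ} {ι : Type*} (s : Finset ι) {f g : ι → ℂ}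
    (h : ∀ i ∈ s, CongrMod p (f i) (g i)) : CongrMod p (∑ i ∈ s, f i) (∑ i ∈ s, g i) := by
  classical
  induction s using Finset.induction_on with
  | empty => simp only [Finset.sum_empty]; exact CongrMod.of_eq p rfl
  | insert a s ha ih =>
    rw [Finset.sum_insert ha, Finset.sum_insert ha]
    exact (h a (Finset.mem_insert_self a s)).add (ih fun i hi => h i (Finset.mem_insert_of_mem hi))

theorem congr_of_irr {p : ℕ} {u v : G} (h : ∀ χ : IrrCharacter G, CongrMod p ((χ : G → ℂ) u) ((χ : G → ℂ) v))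
    {θ : G → ℂ} (hθ : IsCharacter G θ) : CongrMod p (θ u) (θ v) := by
  haveI := Fintype.ofFinite (IrrCharacter G)
  obtain ⟨m, hm, -⟩ := IsCharacter.exists_nat_decomp hθ
  rw [hm]
  simp only [Finset.sum_apply, Pi.smul_apply, smul_eq_mul]
  exact CongrMod.sum _ fun χ _ => (h χ).mul_left (isIntegral_algebraMap (R := ℤ) (x := (m χ : ℤ)))

theorem isConj_of_congr {p : ℕ} [hp : Fact p.Prime] {u v : G} (hu : ¬ p ∣ orderOf u)
    (hv : ¬ p ∣ orderOf v)
    (h : ∀ χ : IrrCharacter G, CongrMod p ((χ : G → ℂ) u) ((χ : G → ℂ) v)) : IsConj u v := by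
  classical
  by_contra hne
  set L : Subgroup G := Subgroup.centralizer ({u} : Set G) with hL
  obtain ⟨P⟩ := (inferInstance : Nonempty (Sylow p L))
  let PG : Subgroup G := (P : Subgroup L).map L.subtype
  have hPGp : IsPGroup p PG := P.2.map _
  have hPGc : ∀ k ∈ PG, Commute u k := by
    rintro _ ⟨k, -, rfl⟩
    exact (Subgroup.mem_centralizer_singleton_iff.mp k.2).symm
  let Z := Subgroup.zpowers u
  set φ : Z × PG →* G :=
    MonoidHom.noncommCoprod Z.subtype PG.subtype fun y k => by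
      obtain ⟨i, hi⟩ := Subgroup.mem_zpowers_iff.mp y.2
      show Commute (y : G) (k : G)
      rw [← hi]
      exact (hPGc k k.2).zpow_left i
    with hφdef
  have hφval : ∀ q, φ q = (q.1 : G) * (q.2 : G) := fun q => rfl
  have hco : ∀ y : G, y ∈ PG → ∀ w : G, ¬ p ∣ orderOf w → orderOf y ∣ orderOf w → y = 1 := by
    intro y hy w hw hd
    obtain ⟨j, hj⟩ := hPGp ⟨y, hy⟩
    have h1 : orderOf y ∣ p ^ j := orderOf_dvd_of_pow_eq_one (congrArg Subtype.val hj)
    exact orderOf_eq_one_iff.mp (Nat.eq_one_of_dvd_coprimes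
      (Nat.Coprime.pow_left j ((Nat.Prime.coprime_iff_not_dvd hp.out).2 hw)) h1 hd)
  have hφ : Function.Injective φ := by
    rw [injective_iff_map_eq_one]
    rintro ⟨y, k⟩ h'
    rw [hφval] at h'
    have hk1 : (k : G) = 1 := by
      refine hco k k.2 u hu ?_
      rw [eq_inv_of_mul_eq_one_right h', orderOf_inv, Subgroup.orderOf_coe, ← Nat.card_zpowers u]
      exact orderOf_dvd_natCard y
    have hy1 : (y : G) = 1 := by rwa [hk1, mul_one] at h'
    ext <;> assumption
  let E : Subgroup G := φ.range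
  let e : Z × PG ≃* E := MonoidHom.ofInjective hφ
  let u0 : Z := ⟨u, Subgroup.mem_zpowers u⟩
  let π : E →* Z := (MonoidHom.fst _ _).comp e.symm.toMonoidHom
  haveI := Fintype.ofFinite (IrrCharacter Z)
  haveI : Fintype E := Fintype.ofFinite _
  -- the induced function as a combination of induced characters
  set f : G → ℂ := fun g => ∑ lam : IrrCharacter Z,
    conj ((lam : Z → ℂ) u0) * indFun E (fun w => (lam : Z → ℂ) (π w)) g with hf
  have hint : CongrMod p (f u) (f v) := by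
    refine CongrMod.sum _ fun lam _ => (congr_of_irr h (IsCharacter.indFun E ?_)).mul_left ?_
    · exact IsCharacter.comp (irr_isCharacter lam) π
    · rw [← IsCharacter.apply_inv (irr_isCharacter lam)]
      exact IsCharacter.isIntegral (irr_isCharacter lam) _
  have hψ : ∀ w : E, ∑ lam : IrrCharacter Z, conj ((lam : Z → ℂ) u0) * (lam : Z → ℂ) (π w) =
      if π w = u0 then (Nat.card Z : ℂ) else 0 := by
    intro w
    have h2 := sum_irr_mul_conj (π w) u0
    rw [Finset.sum_congr rfl fun lam _ => mul_comm _ _] at h2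
    rw [h2]
    have hc : IsConj (π w) u0 ↔ π w = u0 := by
      constructor
      · intro hc
        obtain ⟨c, hc⟩ := isConj_iff.1 hc
        rw [← hc, mul_comm' c, mul_inv_cancel_right]
      · intro hc; rw [hc]
    have hcent : Subgroup.centralizer ({π w} : Set Z) = ⊤ := by
      ext c; simp [Subgroup.mem_centralizer_singleton_iff, mul_comm']
    by_cases hw : π w = u0
    · rw [if_pos hw, if_pos (hc.2 hw), hcent, Subgroup.card_top]
    · rw [if_neg hw, if_neg (fun h' => hw (hc.1 h'))]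
  have hval : ∀ g : G, ¬ p ∣ orderOf g → f g = (Nat.card E : ℂ)⁻¹ * (Nat.card Z : ℂ) *
      ((Finset.univ.filter fun t : G => t⁻¹ * g * t = u).card : ℂ) := by
    intro g hg
    simp only [hf, indFun_apply]
    simp only [Finset.mul_sum]
    rw [Finset.sum_comm, Finset.card_eq_sum_ones, Nat.cast_sum, Finset.mul_sum, Finset.sum_filter]
    refine Finset.sum_congr rfl fun t _ => ?_
    by_cases hE : t⁻¹ * g * t ∈ E
    · simp only [extendByZero_of_mem _ _ hE]
      rw [Finset.sum_congr rfl fun lam _ => mul_left_comm _ _ _, ← Finset.mul_sum, hψ]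
      obtain ⟨⟨z, k⟩, hzk⟩ := e.surjective ⟨_, hE⟩
      have hπ : π ⟨_, hE⟩ = z := by rw [← hzk]; simp [π]
      have hzk' : t⁻¹ * g * t = (z : G) * k := by
        rw [← hφval (z, k)]; exact (congrArg Subtype.val hzk).symm
      have hk : (k : G) = 1 := by
        refine hco k k.2 g hg ?_
        have h1 : orderOf (z, k) = orderOf g := by
          rw [← e.orderOf_eq, ← Subgroup.orderOf_coe, congrArg Subtype.val hzk]
          simpa using (MulAut.conj t⁻¹).orderOf_eq g
        rw [← h1, Prod.orderOf, Subgroup.orderOf_coe]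
        exact Nat.dvd_lcm_right _ _
      rw [hk, mul_one] at hzk'
      rw [hπ]
      by_cases hu' : t⁻¹ * g * t = u
      · rw [if_pos hu', if_pos (Subtype.ext (hzk'.symm.trans hu'))]
        simp
      · rw [if_neg hu', if_neg (fun h' => hu' (hzk'.trans (congrArg Subtype.val h'))), mul_zero]
    · simp only [extendByZero_of_not_mem _ _ hE, mul_zero, Finset.sum_const_zero]
      rw [if_neg]
      intro hu'
      apply hE
      rw [hu']
      exact ⟨(u0, 1), (hφval _).trans (mul_one u)⟩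
  have hv0 : f v = 0 := by
    rw [hval v hv, Finset.card_eq_zero.2 (Finset.filter_eq_empty_iff.2 fun t _ ht =>
      hne (isConj_iff.2 ⟨t, by rw [← ht]; group⟩)), Nat.cast_zero, mul_zero]
  have hu1 : f u = ((P : Subgroup L).index : ℂ) := by
    rw [hval u hu]
    have hcard : (Finset.univ.filter fun t : G => t⁻¹ * u * t = u).card = Nat.card L := by
      rw [Nat.card_eq_fintype_card, ← Fintype.card_subtype]
      refine Fintype.card_congr (Equiv.subtypeEquivRight fun t => ?_)
      rw [hL, Subgroup.mem_centralizer_singleton_iff]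
      constructor
      · intro ht
        calc t * u = t * (t⁻¹ * u * t) := by rw [ht]
          _ = u * t := by group
      · intro ht
        rw [mul_assoc, ← ht, inv_mul_cancel_left]
    have hPcard : Nat.card PG = Nat.card (P : Subgroup L) :=
      Nat.card_congr ((P : Subgroup L).equivMapOfInjective L.subtype L.subtype_injective).toEquiv.symm
    rw [hcard, ← Subgroup.card_mul_index (P : Subgroup L), ← Nat.card_congr e.toEquiv, Nat.card_prod,
      hPcard]
    have h1 : (Nat.card Z : ℂ) ≠ 0 := natCard_ne_zero_complex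
    have h2 : (Nat.card (P : Subgroup L) : ℂ) ≠ 0 := Nat.cast_ne_zero.2 Nat.card_pos.ne'
    push_cast
    field_simp
  obtain ⟨γ, hγ, hγe⟩ := hint
  rw [hv0, sub_zero, hu1] at hγe
  have h2 : IsIntegral ℤ (((P : Subgroup L).index : ℂ) / (p : ℂ)) := by
    rw [hγe, mul_div_cancel_left₀ _ (Nat.cast_ne_zero.2 hp.out.ne_zero)]; exact hγ
  exact P.not_dvd_index (dvd_of_isIntegral_div hp.out.ne_zero h2)

theorem congr_pow_prime {p : ℕ} [hp : Fact p.Prime] {χ : G → ℂ} (hχ : IsCharacter G χ) (x : G)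
    (k : ℕ) : CongrMod p (χ x ^ p ^ k) (χ (x ^ p ^ k)) := by
  obtain ⟨ι, hι, μ, hμ, h⟩ := BlockHeights.exists_eigen_sum hχ x
  let R := integralClosure ℤ ℂ
  let ν : ι → R := fun i => ⟨μ i, isIntegral_of_pow_eq_one (orderOf_pos x).ne' (hμ i)⟩
  obtain ⟨r, hr⟩ := BlockHeights.exists_sum_pow_prime_pow hp.out (Finset.univ : Finset ι) ν k
  have hr' := congrArg Subtype.val hr
  simp only [SubmonoidClass.coe_pow, AddSubmonoidClass.coe_finsetSum, MulMemClass.coe_mul,
    AddMemClass.coe_add, SubringClass.coe_natCast, ν] at hr'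
  have h1 := h 1
  simp only [pow_one] at h1
  exact ⟨r, r.2, by rw [h1, h, hr']; ring⟩

theorem isConj_iff_congr_pow {p : ℕ} [hp : Fact p.Prime] {x y x' y' : G}
    (hx : (∃ k : ℕ, orderOf (x * x'⁻¹) = p ^ k) ∧ Commute (x * x'⁻¹) x' ∧ ¬ p ∣ orderOf x')
    (hy : (∃ k : ℕ, orderOf (y * y'⁻¹) = p ^ k) ∧ Commute (y * y'⁻¹) y' ∧ ¬ p ∣ orderOf y') :
    IsConj x' y' ↔ ∀ χ : IrrCharacter G,
      CongrMod p ((χ : G → ℂ) x ^ p ^ (Nat.card G).factorization p)
        ((χ : G → ℂ) y ^ p ^ (Nat.card G).factorization p) := by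
  set a := (Nat.card G).factorization p with ha
  have hpow : ∀ {x x' : G}, ((∃ k : ℕ, orderOf (x * x'⁻¹) = p ^ k) ∧ Commute (x * x'⁻¹) x' ∧
      ¬ p ∣ orderOf x') → x ^ p ^ a = x' ^ p ^ a := by
    rintro x x' ⟨⟨k, hk⟩, hc, -⟩
    have hka : k ≤ a := by
      have h1 : p ^ k ∣ Nat.card G := hk ▸ orderOf_dvd_natCard _
      exact (Nat.Prime.pow_dvd_iff_le_factorization hp.out Nat.card_pos.ne').1 h1
    have h1 : (x * x'⁻¹) ^ p ^ a = 1 :=
      orderOf_dvd_iff_pow_eq_one.1 (hk ▸ pow_dvd_pow p hka)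
    calc x ^ p ^ a = ((x * x'⁻¹) * x') ^ p ^ a := by rw [inv_mul_cancel_right]
      _ = x' ^ p ^ a := by rw [hc.mul_pow, h1, one_mul]
  have hval : ∀ {x x' : G}, ((∃ k : ℕ, orderOf (x * x'⁻¹) = p ^ k) ∧ Commute (x * x'⁻¹) x' ∧
      ¬ p ∣ orderOf x') → ∀ χ : IrrCharacter G,
      CongrMod p ((χ : G → ℂ) x ^ p ^ a) ((χ : G → ℂ) (x' ^ p ^ a)) := fun {x x'} h χ => by
    rw [← hpow h]; exact congr_pow_prime (irr_isCharacter χ) x a
  constructor
  · intro h χ
    refine (hval hx χ).trans (CongrMod.trans (CongrMod.of_eq p ?_) (hval hy χ).symm)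
    exact IsClassFunction.eq_of_isConj (irr_isClassFunction χ) (h.pow _)
  · intro h
    have hc : IsConj (x' ^ p ^ a) (y' ^ p ^ a) := isConj_of_congr (p := p)
      (fun hd => hx.2.2 (hd.trans (orderOf_pow_dvd _)))
      (fun hd => hy.2.2 (hd.trans (orderOf_pow_dvd _)))
      fun χ => ((hval hx χ).symm.trans (h χ)).trans (hval hy χ)
    obtain ⟨j, hj⟩ : ∃ j : ℕ, x' ^ (p ^ a * j) = x' ∧ y' ^ (p ^ a * j) = y' := by
      have hcop : Nat.Coprime (p ^ a) (orderOf x' * orderOf y') :=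
        Nat.Coprime.pow_left _ (Nat.Coprime.mul_right ((Nat.Prime.coprime_iff_not_dvd hp.out).2 hx.2.2)
          ((Nat.Prime.coprime_iff_not_dvd hp.out).2 hy.2.2))
      set n := orderOf x' * orderOf y' with hn
      have hn0 : n ≠ 0 := mul_ne_zero (orderOf_pos x').ne' (orderOf_pos y').ne'
      haveI : NeZero n := ⟨hn0⟩
      refine ⟨(((ZMod.unitOfCoprime _ hcop)⁻¹ : (ZMod n)ˣ) : ZMod n).val, ?_⟩
      have hmod : p ^ a * (((ZMod.unitOfCoprime _ hcop)⁻¹ : (ZMod n)ˣ) : ZMod n).val ≡ 1 [MOD n] := by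
        rw [← ZMod.natCast_eq_natCast_iff, Nat.cast_mul, ZMod.natCast_zmod_val, Nat.cast_one,
          ← ZMod.coe_unitOfCoprime _ hcop, Units.mul_inv]
      exact ⟨(pow_eq_pow_iff_modEq.2 (hmod.of_dvd (dvd_mul_right _ _))).trans (pow_one _),
        (pow_eq_pow_iff_modEq.2 (hmod.of_dvd (dvd_mul_left _ _))).trans (pow_one _)⟩
    rw [← hj.1, ← hj.2, pow_mul, pow_mul]
    exact hc.pow j

end Cfsg.Agent.Lib.CharMisc
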