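import Cfsg.Agent.S0867
import Cfsg.Agent.Lib.Characters.Clifford
import Cfsg.Agent.Lib.Characters.DegreeRatio
import Cfsg.Agent.Lib.Characters.Kernel
import Cfsg.Agent.Lib.LocalEven.Residual
import Cfsg.Prelude.Def_Blocks

/-!
# The order of the `p`-residual modulo `p`, and Thompson's degree theorem
-/

set_option autoImplicit false
set_option linter.unusedSectionVars false
set_option linter.style.haveILetI false

namespace Cfsg.Agent.Lib.CharMisc

open Cfsg Cfsg.Agent.Lib.Characters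

universe u

variable {G : Type u} [Group G]

theorem charDegree_of_apply_one {χ : G → ℂ} {d : ℕ} (h : χ 1 = d) : charDegree χ = d := by
  rw [charDegree, h, Complex.natCast_re, Nat.floor_natCast]

theorem charDegree_coe [Finite G] (χ : IrrCharacter G) :
    (χ : G → ℂ) 1 = (charDegree (χ : G → ℂ) : ℂ) := by
  obtain ⟨d, -, hd⟩ := IsIrrCharacter.exists_apply_one χ.2
  rw [charDegree_of_apply_one hd, hd]

/-- The residual has no linear character of order divisible by `p`. -/
theorem not_dvd_detOrder_pResidual [Finite G] {p : ℕ} (hp : p.Prime) {θ : pResidual p G → ℂ}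
    (hθ : IsCharacter (pResidual p G) θ) : ¬ p ∣ detOrder θ := by
  classical
  intro hdvd
  have hd := isCharacter_detChar hθ
  obtain ⟨lam, hlam⟩ := IsCharacter.exists_hom_of_apply_one hd.1 hd.2
  obtain ⟨c, hc⟩ := hdvd
  have hopos : 0 < detOrder θ := by
    rw [detOrder, orderOf_pos_iff, isOfFinOrder_iff_pow_eq_one]
    refine ⟨Nat.card (pResidual p G), Nat.card_pos, funext fun n => ?_⟩
    rw [hlam, Pi.pow_apply, ← Units.val_pow_eq_pow_val, ← map_pow, pow_card_eq_one', map_one,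
      Units.val_one, Pi.one_apply]
  let μ : (pResidual p G) →* ℂˣ := lam ^ c
  have hker : (⊤ : Subgroup (pResidual p G)) ≤ μ.ker := by
    rintro ⟨g, hg⟩ -
    revert hg
    suffices h : ∀ g (hg : g ∈ pResidual p G), μ ⟨g, hg⟩ = 1 from fun hg => MonoidHom.mem_ker.2 (h g hg)
    intro g hg
    induction hg using Subgroup.closure_induction with
    | mem x hx =>
      have h1 : μ ⟨x, Subgroup.subset_closure hx⟩ ^ p = 1 := by
        show (lam ⟨x, _⟩ ^ c) ^ p = 1
        rw [← pow_mul, mul_comm, ← hc]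
        apply Units.ext
        have h2 := congrFun (pow_orderOf_eq_one (detChar θ)) ⟨x, Subgroup.subset_closure hx⟩
        rw [Pi.pow_apply, hlam] at h2
        rw [Units.val_pow_eq_pow_val, Units.val_one, detOrder, hlam]
        simpa using h2
      have h2 : μ ⟨x, Subgroup.subset_closure hx⟩ ^ orderOf x = 1 := by
        rw [← map_pow]
        convert map_one μ
        exact Subtype.ext (pow_orderOf_eq_one x)
      have h3 := Nat.dvd_gcd (orderOf_dvd_of_pow_eq_one h1) (orderOf_dvd_of_pow_eq_one h2)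
      rw [Nat.Coprime.gcd_eq_one (Nat.Coprime.symm hx)] at h3
      exact orderOf_eq_one_iff.1 (Nat.dvd_one.1 h3)
    | one => exact map_one μ
    | mul x y hx hy ihx ihy =>
      calc μ ⟨x * y, _⟩ = μ (⟨x, hx⟩ * ⟨y, hy⟩) := rfl
        _ = 1 := by rw [map_mul, ihx, ihy, one_mul]
    | inv x hx ih =>
      calc μ ⟨x⁻¹, _⟩ = μ (⟨x, hx⟩⁻¹) := rfl
        _ = 1 := by rw [map_inv, ih, inv_one]
  have hzero : detChar θ ^ c = 1 := by
    funext n
    have h1 : μ n = 1 := hker (Subgroup.mem_top n)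
    rw [Pi.pow_apply, hlam, Pi.one_apply, ← Units.val_pow_eq_pow_val]
    exact congrArg Units.val h1
  have h2 := orderOf_dvd_of_pow_eq_one hzero
  rw [show orderOf (detChar θ) = p * c from hc] at h2
  rcases Nat.eq_zero_or_pos c with h0 | h0
  · rw [h0, mul_zero] at hc; omega
  · have := Nat.le_of_dvd h0 h2
    have := hp.two_le
    nlinarith

theorem detChar_of_linear [Finite G] (f : G →* ℂˣ) :
    detChar (fun g => (f g : ℂ)) = fun g => (f g : ℂ) := by
  have h := detChar_eq (linRep ((Units.coeHom ℂ).comp f))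
  rw [linRep_character] at h
  refine (show detChar (fun g => (f g : ℂ)) = _ from h).trans (funext fun g => ?_)
  simp [linRep, Algebra.algebraMap_eq_smul_one, Module.End.one_eq_id]

variable [Fintype G] (N : Subgroup G) [N.Normal]

/-- Sums over characters of `N` reduce modulo `p` to the invariant ones. -/
theorem sum_modEq_invariant [Fintype N] [Fintype (IrrCharacter N)] {p : ℕ} (hp : p.Prime)
    (hpow : IsPGroup p (G ⧸ N)) (f : IrrCharacter N → ℕ)
    (hf : ∀ θ η : IrrCharacter N, (∃ g, conjFun N g (θ : N → ℂ) = (η : N → ℂ)) → f θ = f η)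
    [DecidablePred fun θ : IrrCharacter N => inertia N (θ : N → ℂ) = ⊤] :
    (∑ θ, f θ : ℕ) ≡ ∑ θ ∈ Finset.univ.filter (fun θ : IrrCharacter N => inertia N (θ : N → ℂ) = ⊤), f θ
      [MOD p] := by
  classical
  haveI := Fact.mk hp
  let cj : G → IrrCharacter N → IrrCharacter N := fun g θ => ⟨_, IsIrrCharacter.conjFun N θ.2 g⟩
  let O : IrrCharacter N → Finset (IrrCharacter N) := fun θ => Finset.univ.image fun g => cj g θ
  have hO : ∀ θ η : IrrCharacter N, η ∈ O θ ↔ ∃ g, conjFun N g (θ : N → ℂ) = (η : N → ℂ) :=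
    fun θ η => by simp [O, cj, Subtype.ext_iff]
  have hOeq : ∀ θ η : IrrCharacter N, η ∈ O θ → O η = O θ := by
    intro θ η h
    obtain ⟨g, hg⟩ := (hO θ η).1 h
    ext ψ
    rw [hO, hO]
    constructor
    · rintro ⟨k, hk⟩; exact ⟨g * k, by rw [conjFun_mul, hg, hk]⟩
    · rintro ⟨k, hk⟩; exact ⟨g⁻¹ * k, by rw [conjFun_mul, ← hg, conjFun_inv_cancel, hk]⟩
  rw [← Finset.sum_filter_add_sum_filter_not Finset.univ
    (fun θ : IrrCharacter N => inertia N (θ : N → ℂ) = ⊤) f]
  suffices h : p ∣ ∑ θ ∈ Finset.univ.filter (fun θ : IrrCharacter N => ¬ inertia N (θ : N → ℂ) = ⊤), f θ by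
    exact (Nat.ModEq.add_left _ ((Nat.modEq_zero_iff_dvd).2 h)).trans (by rw [add_zero])
  set s := Finset.univ.filter fun θ : IrrCharacter N => ¬ inertia N (θ : N → ℂ) = ⊤ with hs
  rw [← Finset.sum_fiberwise_of_maps_to (g := O) (fun θ hθ => Finset.mem_image_of_mem O hθ)]
  refine Finset.dvd_sum fun o ho => ?_
  obtain ⟨θ, hθ, rfl⟩ := Finset.mem_image.1 ho
  have hθ' : ¬ inertia N (θ : N → ℂ) = ⊤ := (Finset.mem_filter.1 hθ).2
  have hfib : s.filter (fun η => O η = O θ) = O θ := by
    ext η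
    constructor
    · intro h
      rw [← (Finset.mem_filter.1 h).2, hO]
      exact ⟨1, conjFun_one N _⟩
    · intro h
      refine Finset.mem_filter.2 ⟨Finset.mem_filter.2 ⟨Finset.mem_univ _, fun htop => hθ' ?_⟩, hOeq θ η h⟩
      obtain ⟨g, hg⟩ := (hO θ η).1 h
      have hη : ∀ k, conjFun N k (η : N → ℂ) = (η : N → ℂ) := fun k =>
        (mem_inertia_iff N).1 (htop ▸ Subgroup.mem_top k)
      rw [eq_top_iff]
      intro k _
      rw [mem_inertia_iff]
      calc conjFun N k (θ : N → ℂ)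
          = conjFun N g⁻¹ (conjFun N (g⁻¹ * k * g) (η : N → ℂ)) := by
            rw [← hg, ← conjFun_mul, ← conjFun_mul]; congr 1; group
        _ = (θ : N → ℂ) := by rw [hη, ← hg, conjFun_inv_cancel]
  rw [hfib, Finset.sum_congr rfl (g := fun _ => f θ) fun η hη => (hf θ η ((hO θ η).1 hη)).symm,
    Finset.sum_const, smul_eq_mul]
  refine Dvd.dvd.mul_right ?_ _
  have hcard : (O θ).card = (inertia N (θ : N → ℂ)).index := by
    rw [← card_conjugates N, ← Set.ncard_coe_finset, ← Nat.card_coe_set_eq]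
    exact Nat.card_congr
      { toFun := fun x => ⟨(x.1 : N → ℂ), (hO θ x.1).1 x.2⟩
        invFun := fun x => ⟨⟨x.1, by obtain ⟨g, hg⟩ := x.2; exact hg ▸ IsIrrCharacter.conjFun N θ.2 g⟩,
          (hO θ _).2 x.2⟩
        left_inv := fun x => rfl
        right_inv := fun x => rfl }
  rw [hcard]
  obtain ⟨j, hj⟩ := hpow.exists_card_eq
  have hdvd : (inertia N (θ : N → ℂ)).index ∣ p ^ j := by
    rw [← hj, ← Subgroup.index_eq_card]
    exact Subgroup.index_dvd_of_le (le_inertia N (irr_isClassFunction θ))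
  obtain ⟨i, -, hi⟩ := (Nat.dvd_prime_pow hp).1 hdvd
  rw [hi]
  refine dvd_pow_self p fun h0 => hθ' ?_
  rw [h0, pow_zero] at hi
  exact Subgroup.index_eq_one.1 hi

/-- The count of characters prime to `p` in degree and determinant. -/
theorem card_pResidual_modEq {p : ℕ} (hp : p.Prime) :
    (Nat.card (pResidual p G) : ℤ) ≡ (∑ᶠ χ ∈ {χ : IrrCharacter G |
      ¬ p ∣ charDegree (χ : G → ℂ) ∧ ¬ p ∣ detOrder (χ : G → ℂ)},
        (charDegree (χ : G → ℂ) : ℤ) ^ 2) [ZMOD p] := by
  classical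
  haveI := Fact.mk hp
  haveI := LocalEven.pResidual_normal p G
  set N := pResidual p G with hN
  haveI : Fintype N := Fintype.ofFinite _
  haveI := Fintype.ofFinite (IrrCharacter N)
  haveI := Fintype.ofFinite (IrrCharacter G)
  have hq : IsPGroup p (G ⧸ N) := LocalEven.quotient_pResidual_isPGroup N le_rfl
  obtain ⟨j, hj⟩ := hq.exists_card_eq
  have hidx : N.index = p ^ j := by rw [Subgroup.index_eq_card, hj]
  let s := Finset.univ.filter fun χ : IrrCharacter G =>
    ¬ p ∣ charDegree (χ : G → ℂ) ∧ ¬ p ∣ detOrder (χ : G → ℂ)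
  let t := Finset.univ.filter fun θ : IrrCharacter N =>
    inertia N (θ : N → ℂ) = ⊤ ∧ ¬ p ∣ charDegree (θ : N → ℂ)
  have hres : ∀ χ ∈ s, ∃ θ ∈ t, ∀ n : N, (χ : G → ℂ) n = (θ : N → ℂ) n := by
    intro χ hχ
    obtain ⟨hd, -⟩ := (Finset.mem_filter.1 hχ).2
    have hc := IsCharacter.restrict (irr_isCharacter χ) N
    have hne : (fun n : N => (χ : G → ℂ) n) ≠ 0 := fun h =>
      IsIrrCharacter.apply_one_ne_zero χ.2 (congrFun h 1)
    obtain ⟨θ, hθ⟩ := IsCharacter.exists_constituent hc hne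
    obtain ⟨e, he, hedvd⟩ := degree_ratio_dvd_index N χ.2 θ.2 hθ
    have hdeg : charDegree (χ : G → ℂ) = e * charDegree (θ : N → ℂ) :=
      charDegree_of_apply_one (by rw [he, charDegree_coe θ, Nat.cast_mul])
    obtain ⟨i, -, hi⟩ := (Nat.dvd_prime_pow hp).1 (hidx ▸ hedvd)
    have he1 : e = 1 := by
      rcases Nat.eq_zero_or_pos i with h0 | h0
      · rw [hi, h0, pow_zero]
      · exact absurd (hdeg ▸ Dvd.dvd.mul_right (hi ▸ dvd_pow_self p h0.ne') _) hd
    obtain ⟨ψ, hψ, hadd⟩ := IsCharacter.exists_add_of_classInner_ne_zero hc θ.2 hθ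
    have hψ0 : ∀ n, ψ n = 0 := fun n => by
      have h1 := congrFun hadd 1
      simp only [Pi.add_apply, OneMemClass.coe_one, he, he1, Nat.cast_one, one_mul, left_eq_add] at h1
      have h2 := IsCharacter.norm_le hψ n
      rw [h1, norm_zero] at h2
      exact norm_le_zero_iff.1 h2
    have heq : ∀ n : N, (χ : G → ℂ) n = (θ : N → ℂ) n := fun n => by
      have h1 := congrFun hadd n
      simpa [hψ0] using h1
    refine ⟨θ, Finset.mem_filter.2 ⟨Finset.mem_univ _, ?_, ?_⟩, heq⟩
    · rw [eq_top_iff]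
      intro g _
      rw [mem_inertia_iff, ← (funext heq : (fun n : N => (χ : G → ℂ) n) = θ)]
      exact conjFun_restrict N (irr_isClassFunction χ) g
    · rw [hdeg, he1, one_mul] at hd
      exact hd
  haveI : Nonempty (IrrCharacter N) := ⟨⟨_, isIrrCharacter_one⟩⟩
  choose! r hrt hr using hres
  have hext : ∀ θ ∈ t, ∃ χ : G → ℂ, (IsIrrCharacter G χ ∧ (∀ n : N, χ n = (θ : N → ℂ) n) ∧
      detOrder χ = detOrder (θ : N → ℂ)) ∧ ∀ χ' : G → ℂ, IsIrrCharacter G χ' →
        (∀ n : N, χ' n = (θ : N → ℂ) n) → Nat.Coprime N.index (detOrder χ') → χ' = χ := by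
    intro θ hθ
    obtain ⟨hinv, hd⟩ := (Finset.mem_filter.1 hθ).2
    refine Cfsg.Agent.S0867.result N (θ : N → ℂ) θ.2 (fun g n => ?_) _ (charDegree_coe θ) ?_
    · exact congrFun ((mem_inertia_iff N).1 (hinv ▸ Subgroup.mem_top g)) n
    · rw [hidx]
      refine Nat.Coprime.pow_left _ (Nat.Coprime.mul_right ?_ ?_) <;>
        rw [Nat.Prime.coprime_iff_not_dvd hp]
      · exact not_dvd_detOrder_pResidual hp (irr_isCharacter θ)
      · exact hd
  have hbij : ∑ χ ∈ s, charDegree (χ : G → ℂ) ^ 2 = ∑ θ ∈ t, charDegree (θ : N → ℂ) ^ 2 := by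
    refine Finset.sum_bij (fun χ _ => r χ) hrt ?_ ?_ ?_
    · intro a ha b hb h
      obtain ⟨χ₀, -, hu⟩ := hext (r a) (hrt a ha)
      have hcop : ∀ c ∈ s, Nat.Coprime N.index (detOrder (c : G → ℂ)) := fun c hc => by
        rw [hidx]
        exact Nat.Coprime.pow_left _ ((Nat.Prime.coprime_iff_not_dvd hp).2 (Finset.mem_filter.1 hc).2.2)
      exact Subtype.ext ((hu a a.2 (hr a ha) (hcop a ha)).trans
        (hu b b.2 (fun n => by rw [h]; exact hr b hb n) (hcop b hb)).symm)
    · intro θ hθ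
      obtain ⟨χ, ⟨hχ, hres, hord⟩, -⟩ := hext θ hθ
      have hdeg : charDegree χ = charDegree (θ : N → ℂ) :=
        charDegree_of_apply_one (by rw [← charDegree_coe θ, ← hres 1]; rfl)
      have hs : (⟨χ, hχ⟩ : IrrCharacter G) ∈ s := Finset.mem_filter.2 ⟨Finset.mem_univ _,
        hdeg ▸ (Finset.mem_filter.1 hθ).2.2,
        hord ▸ not_dvd_detOrder_pResidual hp (irr_isCharacter θ)⟩
      exact ⟨_, hs, Subtype.ext (funext fun n => ((hr _ hs n).symm.trans (hres n)))⟩
    · intro a ha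
      congr 1
      exact charDegree_of_apply_one (by rw [← charDegree_coe (r a), ← hr a ha 1]; rfl)
  have hsum : ∑ θ : IrrCharacter N, charDegree (θ : N → ℂ) ^ 2 = Nat.card N := by
    have h1 : ∑ θ : IrrCharacter N, ((charDegree (θ : N → ℂ) : ℂ)) ^ 2 = (Nat.card N : ℂ) := by
      rw [← sum_degree_sq (G := N)]
      exact Finset.sum_congr rfl fun θ _ => by rw [charDegree_coe θ]
    exact_mod_cast h1
  have hmain : Nat.card N ≡ ∑ θ ∈ t, charDegree (θ : N → ℂ) ^ 2 [MOD p] := by
    refine (hsum ▸ sum_modEq_invariant N hp hq (fun θ => charDegree (θ : N → ℂ) ^ 2)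
      fun θ η ⟨g, hg⟩ => ?_).trans ?_
    · show charDegree (θ : N → ℂ) ^ 2 = charDegree (η : N → ℂ) ^ 2
      rw [← hg]
      simp only [charDegree, conjFun_apply_one]
    · rw [← Finset.sum_filter_add_sum_filter_not
        (Finset.univ.filter fun θ : IrrCharacter N => inertia N (θ : N → ℂ) = ⊤)
        (fun θ : IrrCharacter N => ¬ p ∣ charDegree (θ : N → ℂ)), Finset.filter_filter]
      conv_rhs => rw [← Nat.add_zero (∑ θ ∈ t, charDegree (θ : N → ℂ) ^ 2)]
      exact Nat.ModEq.add_left _ (Nat.modEq_zero_iff_dvd.2 (Finset.dvd_sum fun θ hθ =>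
        dvd_pow (not_not.1 (Finset.mem_filter.1 hθ).2) two_ne_zero))
  rw [← hbij, ← Int.natCast_modEq_iff] at hmain
  rw [finsum_mem_eq_finite_toFinset_sum _ (Set.toFinite _)]
  push_cast at hmain
  refine hmain.trans ?_
  rw [show (Set.toFinite {χ : IrrCharacter G | ¬ p ∣ charDegree (χ : G → ℂ) ∧
    ¬ p ∣ detOrder (χ : G → ℂ)}).toFinset = s by ext; simp [s]]

/-- Thompson: if `p` divides every nonlinear degree, there is a normal `p`-complement. -/
theorem coprime_card_pResidual {p : ℕ} (hp : p.Prime)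
    (hdeg : ∀ χ : IrrCharacter G, charDegree (χ : G → ℂ) ≠ 1 → p ∣ charDegree (χ : G → ℂ)) :
    (Nat.card (pResidual p G)).Coprime p := by
  classical
  haveI := Fintype.ofFinite (IrrCharacter G)
  rw [Nat.coprime_comm, Nat.Prime.coprime_iff_not_dvd hp]
  intro hdvd
  have h := card_pResidual_modEq (G := G) hp
  rw [finsum_mem_eq_finite_toFinset_sum _ (Set.toFinite _)] at h
  set S := (Set.toFinite {χ : IrrCharacter G | ¬ p ∣ charDegree (χ : G → ℂ) ∧
    ¬ p ∣ detOrder (χ : G → ℂ)}).toFinset with hS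
  rw [Finset.sum_congr rfl (g := fun _ => (1 : ℤ)) fun χ hχ => by
    have h1 : charDegree (χ : G → ℂ) = 1 := by
      by_contra h1
      obtain ⟨hd, -⟩ := (Set.Finite.mem_toFinset _).1 hχ
      exact hd (hdeg χ h1)
    rw [h1]; norm_num, Finset.sum_const, nsmul_eq_mul, mul_one] at h
  have hcard : p ∣ S.card := by
    have h2 : (p : ℤ) ∣ (S.card : ℤ) :=
      Int.modEq_zero_iff_dvd.1 (h.symm.trans (Int.modEq_zero_iff_dvd.2 (Int.natCast_dvd_natCast.2 hdvd)))
    exact_mod_cast h2
  -- the linear characters of order prime to `p` form a group of order prime to `p`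
  haveI : Finite (G →* ℂˣ) := inferInstance
  let T : Subgroup (G →* ℂˣ) :=
    { carrier := {f | ¬ p ∣ orderOf f}
      one_mem' := by simpa using hp.ne_one
      mul_mem' := fun {a b} ha hb h' => by
        rcases (Nat.Prime.dvd_lcm hp).1 (h'.trans (Commute.all a b).orderOf_mul_dvd_lcm) with h2 | h2
        exacts [ha h2, hb h2]
      inv_mem' := fun {a} ha => by simpa using ha }
  have hcoe : ∀ f : G →* ℂˣ, IsIrrCharacter G (fun g => (f g : ℂ)) :=
    fun f => isIrrCharacter_unitsHom f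
  have hdet : ∀ f : G →* ℂˣ, detOrder (fun g => (f g : ℂ)) = orderOf f := by
    intro f
    have h1 : detChar (fun g => (f g : ℂ)) = fun g => (f g : ℂ) := detChar_of_linear f
    rw [detOrder, h1, orderOf_eq_orderOf_iff]
    intro n
    simp only [funext_iff, Pi.pow_apply, Pi.one_apply, MonoidHom.ext_iff, Units.ext_iff,
      MonoidHom.pow_apply, Units.val_pow_eq_pow_val, MonoidHom.one_apply, Units.val_one]
  haveI := Fintype.ofFinite T
  have hST : S.card = Nat.card T := by
    rw [Nat.card_eq_fintype_card]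
    symm
    refine Finset.card_bij (s := Finset.univ) (fun f _ => (⟨_, hcoe f.1⟩ : IrrCharacter G)) ?_ ?_ ?_
    · intro f _
      rw [hS, Set.Finite.mem_toFinset]
      refine ⟨?_, ?_⟩
      · rw [charDegree_of_apply_one (d := 1) (by simp)]; exact hp.not_dvd_one
      · rw [hdet]; exact f.2
    · intro a _ b _ hab
      exact Subtype.ext (MonoidHom.ext fun g => Units.ext (congrFun (congrArg Subtype.val hab) g))
    · intro χ hχ
      rw [hS, Set.Finite.mem_toFinset] at hχ
      have h1 : charDegree (χ : G → ℂ) = 1 := by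
        by_contra h1; exact hχ.1 (hdeg χ h1)
      obtain ⟨f, hf⟩ := IsCharacter.exists_hom_of_apply_one (irr_isCharacter χ)
        (by rw [charDegree_coe χ, h1, Nat.cast_one])
      refine ⟨⟨f, ?_⟩, Finset.mem_univ _, Subtype.ext hf.symm⟩
      show ¬ p ∣ orderOf f
      rw [← hdet, ← hf]
      exact hχ.2
  rw [hST] at hcard
  haveI := Fact.mk hp
  obtain ⟨x, hx⟩ := exists_prime_orderOf_dvd_card' (G := T) p hcard
  exact x.2 (by rw [Subgroup.orderOf_coe, hx])

end Cfsg.Agent.Lib.CharMisc
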