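import Cfsg.Agent.Lib.Characters.Gallagher
import Cfsg.Agent.Lib.BlockHeights.Galois

/-!
# A character is irreducible on a normal subgroup iff it vanishes on none of its cosets
-/

set_option autoImplicit false
set_option linter.unusedSectionVars false
set_option linter.style.haveILetI false

namespace Cfsg.Agent.Lib.CharMisc

open Cfsg Cfsg.Agent.Lib.Characters Cfsg.Agent.Lib.BlockHeights
open scoped ComplexConjugate

universe u

variable {G : Type u} [Group G]

/-- Mean absolute value at least one on a power-closed set of nonzero values. -/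
theorem card_le_sum_norm [Finite G] {χ : G → ℂ} (hχ : IsCharacter G χ) (S : Finset G)
    (hS : PowClosed S) (hne : ∀ g ∈ S, χ g ≠ 0) : (S.card : ℝ) ≤ ∑ g ∈ S, ‖χ g‖ := by
  rcases S.eq_empty_or_nonempty with h | h
  · simp [h]
  obtain ⟨z, hz⟩ := exists_int_prod hχ S hS
  have hz0 : z ≠ 0 := by
    rintro rfl
    simp only [Int.cast_zero, Finset.prod_eq_zero_iff] at hz
    obtain ⟨g, hg, h0⟩ := hz
    exact hne g hg h0
  have h1 : (1 : ℝ) ≤ ∏ g ∈ S, ‖χ g‖ := by
    rw [← norm_prod, hz, Complex.norm_intCast]
    exact_mod_cast Int.one_le_abs hz0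
  have hc : (0 : ℝ) < S.card := by exact_mod_cast h.card_pos
  have amgm := Real.geom_mean_le_arith_mean S (fun _ => (1 : ℝ)) (fun g => ‖χ g‖)
    (fun _ _ => zero_le_one) (by simpa using h.card_pos) (fun g _ => norm_nonneg _)
  simp only [Real.rpow_one, Finset.sum_const, nsmul_eq_mul, mul_one, one_mul] at amgm
  have h2 : (1 : ℝ) ≤ (∏ g ∈ S, ‖χ g‖) ^ ((S.card : ℝ)⁻¹) :=
    Real.one_le_rpow h1 (by positivity)
  have h3 := h2.trans amgm
  rwa [le_div_iff₀ hc, one_mul] at h3

theorem not_irr_restrict_iff [Fintype G] (N : Subgroup G) [N.Normal] (χ : IrrCharacter G) :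
    ¬ IsIrrCharacter N (fun n : N => (χ : G → ℂ) n) ↔
      ∃ x : G, ∀ n : N, (χ : G → ℂ) ((n : G) * x) = 0 := by
  classical
  haveI : Fintype N := Fintype.ofFinite _
  have hc := irr_isCharacter χ
  have hres : IsCharacter N (fun n : N => (χ : G → ℂ) n) := IsCharacter.comp hc N.subtype
  constructor
  · intro hirr
    by_contra hne
    push Not at hne
    set P : G → ℂ := (χ : G → ℂ) * fun g => conj ((χ : G → ℂ) g) with hP
    set F : G → ℂ := avgN N P with hF
    have hFc : IsCharacter G F := IsCharacter.avgN N (IsCharacter.mul hc (IsCharacter.conjugate hc))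
    have hnn : ∀ g, F g = ((Nat.card N : ℝ)⁻¹ * ∑ n : N, Complex.normSq ((χ : G → ℂ) ((n : G) * g)) : ℝ) := by
      intro g
      simp only [hF, avgN, hP, Pi.mul_apply, Complex.mul_conj]
      push_cast
      rfl
    have hpos : ∀ g, 0 < (Nat.card N : ℝ)⁻¹ * ∑ n : N, Complex.normSq ((χ : G → ℂ) ((n : G) * g)) := by
      intro g
      obtain ⟨n, hn⟩ := hne g
      refine mul_pos (inv_pos.2 (Nat.cast_pos.2 Nat.card_pos)) (lt_of_lt_of_le
        (Complex.normSq_pos.2 hn) (Finset.single_le_sum
          (f := fun n : N => Complex.normSq ((χ : G → ℂ) ((n : G) * g)))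
          (fun i _ => Complex.normSq_nonneg _) (Finset.mem_univ n)))
    have hm1 : F 1 = classInner (fun n : N => (χ : G → ℂ) n) (fun n : N => (χ : G → ℂ) n) := by
      rw [hF, avgN_one]
      simp [classInner, hP]
    obtain ⟨m, hm⟩ := IsCharacter.exists_classInner_nat hres hres
    rw [hm] at hm1
    have hmne : m ≠ 1 := fun h1 =>
      hirr ((IsCharacter.isIrr_iff hres).2 (by rw [hm, h1, Nat.cast_one]))
    have hm0 : m ≠ 0 := fun h0 => by
      have := hpos 1
      have h2 := hnn 1
      rw [hm1, h0, Nat.cast_zero] at h2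
      rw [← Complex.ofReal_zero] at h2
      exact this.ne (Complex.ofReal_injective h2)
    have htot : ∑ g, F g = (Nat.card G : ℂ) := by
      have h1 := classInner_avgN_of_const N P (φ := fun _ => (1 : ℂ)) fun _ _ => rfl
      have h2 : classInner P (fun _ => 1) = 1 := by
        refine Eq.trans ?_ (IsIrrCharacter.classInner_self χ.2)
        simp [classInner, hP]
      rw [h2, classInner, inv_mul_eq_one₀ natCard_ne_zero_complex] at h1
      simpa [hF] using h1.symm
    let S : Finset G := Finset.univ.filter fun g => g ∉ N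
    have hS : PowClosed S := by
      intro g hg k hk
      simp only [S, Finset.mem_filter, Finset.mem_univ, true_and] at hg ⊢
      intro h
      apply hg
      obtain ⟨j, hj⟩ := exists_pow_eq_self_of_coprime
        (x := g) (n := k) (hk.coprime_dvd_right (orderOf_dvd_natCard g))
      rw [← hj]
      exact pow_mem h j
    have hge := card_le_sum_norm hFc S hS fun g _ h0 => by
      have h2 := hnn g
      rw [h0, ← Complex.ofReal_zero] at h2
      exact (hpos g).ne (Complex.ofReal_injective h2)
    have hnorm : ∀ g, (‖F g‖ : ℝ) = (F g).re := fun g => by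
      rw [hnn g, Complex.norm_real, Real.norm_of_nonneg (hpos g).le, Complex.ofReal_re]
    have hin : ∑ g ∈ Finset.univ.filter (fun g : G => g ∈ N), (F g).re = Nat.card N * (m : ℝ) := by
      have hconst : ∀ g ∈ Finset.univ.filter (fun g : G => g ∈ N), (F g).re = m := fun g hg => by
        rw [hF, show g = ((⟨g, (Finset.mem_filter.1 hg).2⟩ : N) : G) from rfl, avgN_apply_coe,
          ← hF, hm1, Complex.natCast_re]
      rw [Finset.sum_congr rfl hconst, Finset.sum_const, nsmul_eq_mul, Nat.card_eq_fintype_card,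
        Fintype.card_subtype]
    have hsplit : ∑ g ∈ Finset.univ.filter (fun g : G => g ∈ N), (F g).re + ∑ g ∈ S, (F g).re =
        (Nat.card G : ℝ) := by
      rw [Finset.sum_filter_add_sum_filter_not, ← Complex.re_sum, htot, Complex.natCast_re]
    have hScard : (S.card : ℝ) + Nat.card N = Nat.card G := by
      have h1 := Finset.card_filter_add_card_filter_not (s := (Finset.univ : Finset G)) (fun g => g ∈ N)
      rw [Finset.card_univ, ← Fintype.card_subtype, ← Nat.card_eq_fintype_card,
        ← Nat.card_eq_fintype_card] at h1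
      rw [← h1]; push_cast; ring
    rw [Finset.sum_congr rfl fun g _ => hnorm g] at hge
    have hm2 : (2 : ℝ) ≤ m := by exact_mod_cast (by omega : 2 ≤ m)
    have hNpos : (0 : ℝ) < Nat.card N := Nat.cast_pos.2 Nat.card_pos
    rw [hin] at hsplit
    nlinarith
  · rintro ⟨x, hx⟩ hirr
    have h1 := congrFun (avgN_mul_conj_self N χ.2 hirr) x
    simp [avgN, hx] at h1

end Cfsg.Agent.Lib.CharMisc
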