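import Cfsg.Agent.Lib.CharMisc.RootValuedCore

/-!
# Faithful characters of absolute value one on `p`-singular elements: centraliser, Sylow subgroup
-/

set_option autoImplicit false
set_option linter.unusedSectionVars false
set_option linter.unusedSimpArgs false
set_option linter.style.haveILetI false

namespace Cfsg.Agent.Lib.CharMisc.RootValued

open Cfsg Cfsg.Agent.Lib.Characters
open scoped ComplexConjugate

universe u

variable {G : Type u} [Group G] [Finite G]

/-- In a character `r` dominated by a multiplicity free character, the norm is the degree. -/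
theorem norm_eq_degree {P : Subgroup G} [Fintype P] {ψ : P → ℂ}
    (hlin : ∀ φ : IrrCharacter P, (φ : P → ℂ) 1 = 1)
    (hmult : ∀ φ : IrrCharacter P, ∃ k : ℕ, k ≤ 1 ∧ classInner ψ (φ : P → ℂ) = k)
    {r s : P → ℂ} (hr : IsCharacter P r) (hs : IsCharacter P s) (h : ψ = r + s) :
    classInner r r = r 1 := by
  classical
  haveI := Fintype.ofFinite (IrrCharacter P)
  obtain ⟨m, hm, hm'⟩ := IsCharacter.exists_nat_decomp hr
  have hle : ∀ φ, m φ = 0 ∨ m φ = 1 := fun φ => by
    obtain ⟨k, hk, hk'⟩ := hmult φ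
    obtain ⟨l, hl⟩ := IsCharacter.exists_classInner_nat hs (irr_isCharacter φ)
    rw [h, classInner_add_left, hm', hl] at hk'
    have : m φ + l = k := by exact_mod_cast hk'
    omega
  have h1 : r 1 = ∑ φ : IrrCharacter P, (m φ : ℂ) := by
    conv_lhs => rw [hm]
    simp [Finset.sum_apply, hlin]
  have h2 : classInner r r = ∑ φ : IrrCharacter P, (m φ : ℂ) * conj (m φ : ℂ) := by
    conv_lhs => rw [hm]
    exact classInner_sum_sum _ _
  rw [h1, h2]
  refine Finset.sum_congr rfl fun φ _ => ?_
  rcases hle φ with h | h <;> simp [h]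

variable {p : ℕ} [Fact p.Prime]

/-- The centraliser of `P` is `P × Z(G)`. -/
theorem centralizer_eq {χ : G → ℂ} (hχ : IsIrrCharacter G χ)
    (hfaith : ∀ g : G, χ g = χ 1 → g = 1) (hnl : χ 1 ≠ 1)
    (hroot : ∀ g : G, p ∣ orderOf g → ‖χ g‖ = 1)
    (P : Subgroup G) [P.Normal] [Fintype P] (hPp : IsPGroup p P) (hP : P ≠ ⊥) :
    Subgroup.centralizer (P : Set G) = P ⊔ Subgroup.center G ∧
      (∀ x ∈ Subgroup.centralizer (P : Set G), (∃ k : ℕ, x ^ p ^ k = 1) → x ∈ P) := by
  classical
  have hp : p.Prime := Fact.out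
  haveI := Fintype.ofFinite G
  obtain ⟨hdP, h3, hab, hexp, hPZ, θ, hθ, hθne, htP, hmult, hcover⟩ :=
    restrict_structure hχ hfaith hnl hroot P hPp hP
  have hχc := IsIrrCharacter.isCharacter hχ
  set C : Subgroup G := Subgroup.centralizer (P : Set G) with hC
  haveI := Fintype.ofFinite (IrrCharacter P)
  haveI := Fintype.ofFinite (IrrCharacter C)
  have hPC : P ≤ C := fun a ha => Subgroup.mem_centralizer_iff.2 fun b hb => hab b hb a ha
  obtain ⟨d, hd0, hd⟩ := IsIrrCharacter.exists_apply_one hχ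
  have hd2 : 2 ≤ d := by
    rcases Nat.lt_or_ge d 2 with h | h
    · exact absurd (by rw [hd, show d = 1 by omega, Nat.cast_one]) hnl
    · exact h
  have hdP' : d + 1 = Nat.card P := by
    have : ((d + 1 : ℕ) : ℂ) = (Nat.card P : ℂ) := by push_cast; rw [← hd, hdP]; ring
    exact_mod_cast this
  have hlinP : ∀ φ : IrrCharacter P, (φ : P → ℂ) 1 = 1 := fun φ =>
    IsIrrCharacter.apply_one_of_comm (fun a b => Subtype.ext (hab a a.2 b b.2)) φ.2
  have hmult' : ∀ φ : IrrCharacter P, ∃ k : ℕ, k ≤ 1 ∧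
      classInner (fun n : P => χ n) (φ : P → ℂ) = k := fun φ => by
    rw [hmult φ]
    split_ifs
    · exact ⟨0, zero_le_one, by simp⟩
    · exact ⟨1, le_rfl, by simp⟩
  have hχC : IsCharacter C (fun c : C => χ c) := IsCharacter.restrict hχc C
  obtain ⟨m, hm, hm'⟩ := IsCharacter.exists_nat_decomp hχC
  -- all constituents on `C` are linear
  have hlinC : ∀ η : IrrCharacter C, m η ≠ 0 → (η : C → ℂ) 1 = 1 := by
    intro η hη
    obtain ⟨n, hn0, hn⟩ := IsIrrCharacter.exists_apply_one η.2
    obtain ⟨rest, hrest, hsplit⟩ := IsCharacter.exists_add_of_classInner_ne_zero hχC η.2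
      (by rw [hm']; exact_mod_cast hη)
    let ι : P →* C := Subgroup.inclusion hPC
    have hr : IsCharacter P (fun a : P => (η : C → ℂ) (ι a)) :=
      IsCharacter.comp (irr_isCharacter η) ι
    have hs : IsCharacter P (fun a : P => rest (ι a)) := IsCharacter.comp hrest ι
    have hN := norm_eq_degree hlinP hmult' hr hs (funext fun a => congrFun hsplit (ι a))
    have habs : ∀ a : P, (η : C → ℂ) (ι a) * conj ((η : C → ℂ) (ι a)) = ((n : ℂ)) ^ 2 := by
      intro a
      have hc : ι a ∈ Subgroup.center C := Subgroup.mem_center_iff.2 fun c => Subtype.ext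
        ((Subgroup.mem_centralizer_iff.1 c.2 a a.2).symm)
      obtain ⟨z, hz, hmul⟩ := IsIrrCharacter.exists_central_scalar η.2 hc
      have h1 := hmul 1
      rw [mul_one] at h1
      rw [h1, hn, map_mul, map_natCast]
      linear_combination ((n : ℂ) ^ 2) * hz
    have hN2 : classInner (fun a : P => (η : C → ℂ) (ι a)) (fun a : P => (η : C → ℂ) (ι a)) =
        (n : ℂ) ^ 2 := by
      rw [classInner, Finset.sum_congr rfl fun a _ => habs a, Finset.sum_const, Finset.card_univ,
        nsmul_eq_mul, ← Nat.card_eq_fintype_card, inv_mul_cancel_left₀ natCard_ne_zero_complex]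
    rw [hN2, map_one, hn] at hN
    have h' : n ^ 2 = n := by exact_mod_cast hN
    rw [hn, show n = 1 by nlinarith, Nat.cast_one]
  have hCab : ∀ a b : C, a * b = b * a := by
    intro a b
    rw [← commutatorElement_eq_one_iff_mul_comm]
    open scoped commutatorElement in
    have hc : ⁅a, b⁆ ∈ commutator C :=
      Subgroup.commutator_mem_commutator (Subgroup.mem_top a) (Subgroup.mem_top b)
    refine Subtype.ext (hfaith _ ?_)
    have h1 := congrFun hm ⁅a, b⁆
    have h2 := congrFun hm 1
    simp only [OneMemClass.coe_one] at h2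
    rw [h1, h2, Finset.sum_apply, Finset.sum_apply]
    refine Finset.sum_congr rfl fun η _ => ?_
    rcases eq_or_ne (m η) 0 with h | h
    · simp [h]
    · simp only [Pi.smul_apply]
      rw [IsCharacter.apply_of_mem_commutator (irr_isCharacter η) (hlinC η h) hc, hlinC η h]
  -- the norm of the restriction to `C`
  have hNge : ∃ N : ℕ, d ≤ N ∧ classInner (fun c : C => χ c) (fun c : C => χ c) = N := by
    refine ⟨∑ η, m η * m η, ?_, ?_⟩
    · have : d = ∑ η, m η := by
        have h2 := congrFun hm 1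
        simp only [OneMemClass.coe_one, hd, Finset.sum_apply, Pi.smul_apply, smul_eq_mul] at h2
        have : (d : ℂ) = ((∑ η, m η : ℕ) : ℂ) := by
          rw [h2]; push_cast
          refine Finset.sum_congr rfl fun η _ => ?_
          rcases eq_or_ne (m η) 0 with h | h
          · simp [h]
          · rw [hlinC η h, mul_one]
        exact_mod_cast this
      rw [this]
      exact Finset.sum_le_sum fun η _ => Nat.le_mul_self _
    · rw [hm, classInner_sum_sum]; push_cast; simp
  obtain ⟨N, hdN, hN⟩ := hNge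
  set S : Finset C := Finset.univ.filter fun c : C => ¬ p ∣ orderOf c with hS
  have hSP : ∀ c ∈ S, ∀ (a : P) (c' : C) (_ : c' ∈ S) (a' : P),
      c * Subgroup.inclusion hPC a = c' * Subgroup.inclusion hPC a' → c = c' ∧ a = a' := by
    intro c hc a c' hc' a' h
    have hcomm : Commute c'⁻¹ c := hCab _ _
    have e1 : c'⁻¹ * c = Subgroup.inclusion hPC (a' * a⁻¹) := by
      rw [map_mul, map_inv, eq_mul_inv_iff_mul_eq, mul_assoc, h, inv_mul_cancel_left]
    have h1 : orderOf (c'⁻¹ * c) ∣ Nat.lcm (orderOf c') (orderOf c) := by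
      have := hcomm.orderOf_mul_dvd_lcm
      rwa [orderOf_inv] at this
    have h2 : a' * a⁻¹ = 1 := by
      by_contra hne
      have h3 : p ∣ orderOf (c'⁻¹ * c) := by
        rw [e1, orderOf_injective _ (Subgroup.inclusion_injective hPC)]
        exact dvd_orderOf hPp hne
      have h4 : p ∣ orderOf c' * orderOf c :=
        h3.trans (h1.trans (Nat.lcm_dvd (Dvd.intro _ rfl) (Dvd.intro_left _ rfl)))
      rcases hp.dvd_mul.1 h4 with h5 | h5
      · exact (Finset.mem_filter.1 hc').2 h5
      · exact (Finset.mem_filter.1 hc).2 h5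
    have ha : a = a' := (mul_inv_eq_one.1 h2).symm
    subst ha
    exact ⟨mul_right_cancel h, rfl⟩
  set φm : S × P → C := fun x => (x.1 : C) * Subgroup.inclusion hPC x.2 with hφm
  have hinj : Function.Injective φm := fun x y h => by
    obtain ⟨h1, h2⟩ := hSP x.1 x.1.2 x.2 y.1 y.1.2 y.2 h
    exact Prod.ext (Subtype.ext h1) h2
  have hcardle : S.card * Nat.card P ≤ Nat.card C := by
    have := Nat.card_le_card_of_injective _ hinj
    rwa [Nat.card_prod, Nat.card_eq_fintype_card (α := S), Fintype.card_coe] at this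
  -- compare the two estimates of the norm
  have hbd : ∀ c : C, Complex.normSq (χ c) ≤ (d : ℝ) ^ 2 := fun c => by
    have := IsCharacter.norm_le hχc (c : G)
    rw [hd, Complex.norm_natCast] at this
    rw [Complex.normSq_eq_norm_sq]
    exact pow_le_pow_left₀ (norm_nonneg _) this 2
  have hout : ∀ c : C, c ∉ S → Complex.normSq (χ c) = 1 := fun c hc => by
    have hpc : p ∣ orderOf c := by simpa [hS] using hc
    rw [Complex.normSq_eq_norm_sq, hroot c (by rwa [Subgroup.orderOf_coe]), one_pow]
  have hCreal : (∑ c : C, Complex.normSq (χ c)) = (Nat.card C : ℝ) * N := by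
    have h := hN
    rw [classInner, inv_mul_eq_iff_eq_mul₀ natCard_ne_zero_complex] at h
    simp only [Complex.mul_conj] at h
    exact_mod_cast h
  have hsplit : (∑ c : C, Complex.normSq (χ c)) =
      (∑ c ∈ S, Complex.normSq (χ c)) + ((Nat.card C : ℝ) - S.card) := by
    rw [← Finset.sum_add_sum_compl S]
    congr 1
    rw [Finset.sum_congr rfl fun c hc => hout c (Finset.mem_compl.1 hc), Finset.sum_const,
      Finset.card_compl, nsmul_one, Nat.card_eq_fintype_card, Nat.cast_sub (Finset.card_le_univ S)]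
  have hSle : (∑ c ∈ S, Complex.normSq (χ c)) ≤ S.card * (d : ℝ) ^ 2 := by
    refine (Finset.sum_le_card_nsmul _ _ _ fun c _ => hbd c).trans_eq ?_
    rw [nsmul_eq_mul]
  have hdR : (2 : ℝ) ≤ d := by exact_mod_cast hd2
  have hkey : (Nat.card C : ℝ) * d ≤ (∑ c ∈ S, Complex.normSq (χ c)) + (Nat.card C - S.card) := by
    rw [← hsplit, hCreal]
    exact mul_le_mul_of_nonneg_left (by exact_mod_cast hdN) (Nat.cast_nonneg _)
  have hcardle' : (S.card : ℝ) * ((d : ℝ) + 1) ≤ Nat.card C := by
    rw [← hdP'] at hcardle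
    exact_mod_cast hcardle
  have heq1 : (∑ c ∈ S, Complex.normSq (χ c)) = S.card * (d : ℝ) ^ 2 := by nlinarith
  have heq2 : S.card * Nat.card P = Nat.card C := by
    refine le_antisymm hcardle ?_
    have : (Nat.card C : ℝ) ≤ (S.card : ℝ) * ((d : ℝ) + 1) := by nlinarith
    rw [← hdP']
    exact_mod_cast this
  have hScentral : ∀ c ∈ S, (c : G) ∈ Subgroup.center G := by
    intro c hc
    have h := (Finset.sum_eq_sum_iff_of_le (fun c _ => hbd c)).1 (by
      rw [heq1, Finset.sum_const, nsmul_eq_mul]) c hc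
    refine CharMisc.mem_center_of_norm_eq hχ hfaith ?_
    rw [Complex.normSq_eq_norm_sq] at h
    rw [hd, Complex.norm_natCast]
    exact (pow_left_inj₀ (norm_nonneg _) (Nat.cast_nonneg _) two_ne_zero).1 h
  have hsurj : Function.Surjective φm := by
    refine (Finite.injective_iff_surjective_of_equiv ?_).1 hinj
    refine Finite.equivFinOfCardEq ?_ |>.trans (Finite.equivFin _).symm
    rw [Nat.card_prod, Nat.card_eq_fintype_card (α := S), Fintype.card_coe, heq2]
  refine ⟨le_antisymm (fun x hx => ?_) (sup_le hPC ?_), fun x hx => ?_⟩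
  · obtain ⟨⟨c, a⟩, hca⟩ := hsurj ⟨x, hx⟩
    have : x = (c.1 : G) * (a : G) := (congrArg Subtype.val hca).symm
    rw [this]
    exact Subgroup.mul_mem _ (Subgroup.mem_sup_right (hScentral c.1 c.2))
      (Subgroup.mem_sup_left a.2)
  · exact Subgroup.center_le_centralizer _
  · rintro ⟨k, hk⟩
    obtain ⟨⟨c, a⟩, hca⟩ := hsurj ⟨x, hx⟩
    have hcx : (c : C) = ⟨x, hx⟩ * (Subgroup.inclusion hPC a)⁻¹ := eq_mul_inv_of_mul_eq hca
    obtain ⟨l, hl⟩ := hPp a
    have hpow : (c : C) ^ p ^ (k + l) = 1 := by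
      have h1 : (⟨x, hx⟩ : C) ^ p ^ (k + l) = 1 := Subtype.ext (by
        simp [pow_add, pow_mul, hk])
      have h2 : (Subgroup.inclusion hPC a) ^ p ^ (k + l) = 1 := by
        rw [← map_pow, add_comm k l, pow_add, pow_mul, hl, one_pow, map_one]
      rw [hcx, Commute.mul_pow (hCab _ _), inv_pow, h1, h2, inv_one, one_mul]
    have hc1 : (c : C) = 1 := by
      by_contra hne
      obtain ⟨j, -, hj⟩ := (Nat.dvd_prime_pow hp).1 (orderOf_dvd_of_pow_eq_one hpow)
      rcases j with - | j
      · exact hne (orderOf_eq_one_iff.1 (by simpa using hj))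
      · exact (Finset.mem_filter.1 c.2).2 (hj ▸ dvd_pow_self p (Nat.succ_ne_zero j))
    have : x = (c.1 : G) * (a : G) := (congrArg Subtype.val hca).symm
    rw [this, hc1]
    simp

/-- A `p`-element `x` with `x ^ p ∈ P`, `x ∉ P` forces `p = 2`. -/
theorem eq_two_of_extension {χ : G → ℂ} (hχ : IsIrrCharacter G χ)
    (hfaith : ∀ g : G, χ g = χ 1 → g = 1) (hnl : χ 1 ≠ 1)
    (hroot : ∀ g : G, p ∣ orderOf g → ‖χ g‖ = 1)
    (P : Subgroup G) [P.Normal] [Fintype P] (hPp : IsPGroup p P) (hP : P ≠ ⊥)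
    (T : Subgroup G) [Fintype T] (hTp : IsPGroup p T) (hT : Nat.card T = p * Nat.card P) :
    p = 2 ∧ classInner (fun t : T => χ t) (fun t : T => χ t) * 2 = (Nat.card P : ℂ) := by
  classical
  have hp : p.Prime := Fact.out
  haveI := Fintype.ofFinite G
  obtain ⟨hdP, h3, -⟩ := restrict_structure hχ hfaith hnl hroot P hPp hP
  have hχT := IsCharacter.restrict (IsIrrCharacter.isCharacter hχ) T
  obtain ⟨N, hN⟩ := IsCharacter.exists_classInner_nat hχT hχT
  have hpP : p ∣ Nat.card P := by
    obtain ⟨k, hk⟩ := IsPGroup.iff_card.1 hPp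
    rcases k with - | k
    · exact absurd (Subgroup.card_eq_one.1 (by simpa using hk)) hP
    · exact hk ▸ dvd_pow_self p (Nat.succ_ne_zero k)
  have h := hN
  rw [classInner, sum_mul_conj_eq (1 : T) fun x hx => hroot x (by
    rw [Subgroup.orderOf_coe]; exact dvd_orderOf hTp hx),
    inv_mul_eq_iff_eq_mul₀ natCard_ne_zero_complex] at h
  simp only [OneMemClass.coe_one, hdP, map_sub, map_natCast, map_one, hT] at h
  rw [Nat.cast_sub (by nlinarith [hp.two_le])] at h
  push_cast at h
  have hne : (Nat.card P : ℂ) ≠ 0 := natCard_ne_zero_complex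
  have h2 : (Nat.card P : ℂ) + p = N * p + 2 := by
    refine mul_left_cancel₀ hne ?_
    linear_combination h
  have h2' : Nat.card P + p = N * p + 2 := by exact_mod_cast h2
  have hp2 : p = 2 := by
    have : p ∣ N * p + 2 := h2' ▸ dvd_add hpP (dvd_refl p)
    exact (Nat.prime_dvd_prime_iff_eq hp Nat.prime_two).1
      ((Nat.dvd_add_right (Dvd.intro_left _ rfl)).1 this)
  refine ⟨hp2, ?_⟩
  rw [hN]
  exact_mod_cast (show N * 2 = Nat.card P by subst hp2; omega)

end Cfsg.Agent.Lib.CharMisc.RootValued
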