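import Cfsg.Prelude.Def_Solvable
import Cfsg.Prelude.Def_Transfer
import Cfsg.Agent.Lib.Characters.Clifford
import Cfsg.Agent.Lib.Characters.Kernel
import Cfsg.Agent.Lib.Characters.BlichfeldtCore
import Cfsg.Agent.Lib.CharMisc.CenterSylowDefect

/-!
# Faithful characters of absolute value one on `p`-singular elements: the `p`-core

If `P` is a non-trivial normal `p`-subgroup then `P` is elementary abelian, its non-principal
linear characters form one orbit, and the character restricts to `P` as their sum.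
-/

set_option autoImplicit false
set_option linter.unusedSectionVars false
set_option linter.unusedSimpArgs false
set_option linter.style.haveILetI false

namespace Cfsg.Agent.Lib.CharMisc.RootValued

open Cfsg Cfsg.Agent.Lib.Characters
open scoped ComplexConjugate
open scoped commutatorElement

universe u

/-- The arithmetic step. -/
theorem arith {p Pn e t d' : ℕ} (hp : p.Prime) (hpPn : p ∣ Pn) (hd' : d' = 1 ∨ p ∣ d')
    (ht : 1 ≤ t) (he : 1 ≤ e) (hle : t * d' ^ 2 + 1 ≤ Pn)
    (heq : e ^ 2 * t * Pn + 1 = e ^ 2 * t ^ 2 * d' ^ 2 + Pn) :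
    d' = 1 ∧ e = 1 ∧ (t + 1 = Pn ∨ t = 1) := by
  obtain ⟨s, hs⟩ : ∃ s, Pn = t * d' ^ 2 + s := ⟨Pn - t * d' ^ 2, by omega⟩
  have hs1 : 1 ≤ s := by omega
  have h2 : e ^ 2 * t * s + 1 = Pn := by
    have : e ^ 2 * t * Pn = e ^ 2 * t ^ 2 * d' ^ 2 + e ^ 2 * t * s := by rw [hs]; ring
    omega
  have hd1 : d' = 1 := by
    refine hd'.resolve_right fun hpd => ?_
    have h3 : p ∣ t * d' ^ 2 := Dvd.dvd.mul_left (hpd.trans (dvd_pow_self d' two_ne_zero)) t
    have h4 : p ∣ s := (Nat.dvd_add_right h3).1 (hs ▸ hpPn)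
    have h5 : p ∣ 1 := (Nat.dvd_add_right (Dvd.dvd.mul_left h4 _)).1 (h2 ▸ hpPn)
    exact hp.not_dvd_one h5
  subst hd1
  have h3 : e ^ 2 * (t * s) + 1 = t + s := by
    rw [← mul_assoc]; rw [hs] at h2; simpa using h2
  have h4 : t + s ≤ t * s + 1 := by nlinarith
  have h5 : t * s ≤ e ^ 2 * (t * s) := Nat.le_mul_of_pos_left _ (pow_pos he 2)
  have h6 : e ^ 2 * (t * s) = t * s := by omega
  have he1 : e ^ 2 = 1 := by
    have hts : t * s ≠ 0 := Nat.mul_ne_zero (by omega) (by omega)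
    exact mul_right_cancel₀ hts (by simpa using h6)
  refine ⟨rfl, by nlinarith, ?_⟩
  by_cases ht1 : t = 1
  · exact Or.inr ht1
  · left
    have : s = 1 := by
      by_contra hs'
      have : t + s < t * s + 1 := by
        obtain ⟨u, rfl⟩ : ∃ u, t = 2 + u := ⟨t - 2, by omega⟩
        obtain ⟨v, rfl⟩ : ∃ v, s = 2 + v := ⟨s - 2, by omega⟩
        nlinarith
      omega
    simp [hs, this]

variable {G : Type u} [Group G] [Finite G]

theorem dvd_orderOf {p : ℕ} [Fact p.Prime] {H : Type*} [Group H] [Finite H] (hH : IsPGroup p H)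
    {x : H} (hx : x ≠ 1) : p ∣ orderOf x := by
  obtain ⟨k, hk⟩ := hH x
  obtain ⟨j, -, hj⟩ := (Nat.dvd_prime_pow (Fact.out : p.Prime)).1 (orderOf_dvd_of_pow_eq_one hk)
  rcases j with - | j
  · exact absurd (orderOf_eq_one_iff.1 (by simpa using hj)) hx
  · exact hj ▸ dvd_pow_self p (Nat.succ_ne_zero j)

/-- A sum of `|χ|²` in which all terms outside a finite set have absolute value one. -/
theorem sum_mul_conj_eq {α : Type*} [Fintype α] [DecidableEq α] {f : α → ℂ} (a : α)
    (hf : ∀ x, x ≠ a → ‖f x‖ = 1) :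
    ∑ x, f x * conj (f x) = f a * conj (f a) + ((Nat.card α - 1 : ℕ) : ℂ) := by
  rw [← Finset.add_sum_erase _ _ (Finset.mem_univ a)]
  congr 1
  rw [Finset.sum_congr rfl fun x hx => show f x * conj (f x) = 1 by
    rw [Complex.mul_conj, Complex.normSq_eq_norm_sq, hf x (Finset.ne_of_mem_erase hx)]; simp]
  rw [Finset.sum_const, Finset.card_erase_of_mem (Finset.mem_univ a), Finset.card_univ,
    Nat.card_eq_fintype_card, nsmul_one]

/-- What the argument shows about the restriction to `P`. -/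
theorem restrict_structure {p : ℕ} [Fact p.Prime] {χ : G → ℂ} (hχ : IsIrrCharacter G χ)
    (hfaith : ∀ g : G, χ g = χ 1 → g = 1) (hnl : χ 1 ≠ 1)
    (hroot : ∀ g : G, p ∣ orderOf g → ‖χ g‖ = 1)
    (P : Subgroup G) [P.Normal] [Fintype P] (hPp : IsPGroup p P) (hP : P ≠ ⊥) :
    χ 1 = (Nat.card P : ℂ) - 1 ∧ 3 ≤ Nat.card P ∧ (∀ a ∈ P, ∀ b ∈ P, a * b = b * a) ∧
      (∀ a ∈ P, a ^ p = 1) ∧ (∀ a ∈ P, a ∈ Subgroup.center G → a = 1) ∧
      ∃ θ : P → ℂ, IsIrrCharacter P θ ∧ θ ≠ (fun _ => 1) ∧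
        (inertia P θ).index + 1 = Nat.card P ∧
        (∀ φ : IrrCharacter P, classInner (fun n : P => χ n) (φ : P → ℂ) =
          if (φ : P → ℂ) = (fun _ => 1) then 0 else 1) ∧
        ∀ φ : P → ℂ, IsIrrCharacter P φ → φ ≠ (fun _ => 1) → ∃ g : G, conjFun P g θ = φ := by
  classical
  have hp : p.Prime := Fact.out
  haveI := Fintype.ofFinite G
  haveI := Fintype.ofFinite (IrrCharacter P)
  have hχc := IsIrrCharacter.isCharacter hχ
  obtain ⟨d, hd0, hd⟩ := IsIrrCharacter.exists_apply_one hχ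
  have hd2 : 2 ≤ d := by
    rcases Nat.lt_or_ge d 2 with h | h
    · exact absurd (by rw [hd, show d = 1 by omega, Nat.cast_one]) hnl
    · exact h
  have hval : ∀ a : P, a ≠ 1 → ‖χ a‖ = 1 := fun a ha => hroot a (by
    rw [Subgroup.orderOf_coe]; exact dvd_orderOf hPp ha)
  have hZ : ∀ a ∈ P, a ∈ Subgroup.center G → a = 1 := by
    intro a ha haz
    by_contra ha1
    obtain ⟨c, hc, hmul⟩ := IsIrrCharacter.exists_central_scalar hχ haz
    have h1 := hmul 1
    rw [mul_one, hd] at h1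
    have h2 := hval ⟨a, ha⟩ (fun h => ha1 (congrArg Subtype.val h))
    have hc1 : ‖c‖ = 1 := by
      rw [Complex.mul_conj, Complex.normSq_eq_norm_sq] at hc
      exact (pow_eq_one_iff_of_nonneg (norm_nonneg c) two_ne_zero).1 (by exact_mod_cast hc)
    rw [h1, norm_mul, hc1, Complex.norm_natCast, one_mul] at h2
    have : d = 1 := by exact_mod_cast h2
    omega
  set ψ : P → ℂ := fun n => χ n with hψdef
  have hψc : IsCharacter P ψ := IsCharacter.restrict hχc P
  have htriv : classInner ψ (fun _ => (1 : ℂ)) = 0 := by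
    by_contra h
    refine hP ((Subgroup.eq_bot_iff_forall _).2 fun a ha => hfaith a ?_)
    have h2 := restrict_eq_smul_of_invariant P hχ isIrrCharacter_one (fun g => rfl) h
    have ha' := congrFun h2 ⟨a, ha⟩
    have h1' := congrFun h2 1
    simp only [Pi.smul_apply, OneMemClass.coe_one] at ha' h1'
    rw [ha', h1']
  obtain ⟨θ', hθ'⟩ := IsCharacter.exists_constituent hψc (fun h => by
    have := congrFun h 1
    simp only [hψdef, OneMemClass.coe_one, Pi.zero_apply] at this
    exact IsIrrCharacter.apply_one_ne_zero hχ this)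
  set θ : P → ℂ := (θ' : P → ℂ) with hθdef
  have hθ : IsIrrCharacter P θ := θ'.2
  have hθne : θ ≠ fun _ => 1 := fun h => hθ' (by rw [h]; exact htriv)
  obtain ⟨e, he⟩ := IsCharacter.exists_classInner_nat hψc (IsIrrCharacter.isCharacter hθ)
  have he1 : 1 ≤ e := Nat.one_le_iff_ne_zero.2 fun h => hθ' (by rw [he, h, Nat.cast_zero])
  obtain ⟨d', hd'0, hd', hd'dvd⟩ := IsIrrCharacter.exists_degree_dvd hθ
  set t := (inertia P θ).index with ht
  have ht1 : 1 ≤ t := Nat.one_le_iff_ne_zero.2 Subgroup.index_ne_zero_of_finite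
  have hdeg : d = e * t * d' := by
    have h := degree_eq P hχ hθ hθ'
    rw [hd, he, hd'] at h
    exact_mod_cast h
  have hrange : ∀ g : G, IsIrrCharacter P (conjFun P g θ) := IsIrrCharacter.conjFun P hθ
  set F := (Set.finite_range fun g : G => conjFun P g θ).toFinset with hF
  have hFcard : F.card = t := by
    rw [hF, ht, ← card_conjugates P θ, Nat.card_eq_card_finite_toFinset]
  have hFin : ∀ φ ∈ F, classInner ψ φ = e := by
    intro φ hφ
    obtain ⟨g, rfl⟩ := (Set.Finite.mem_toFinset _).1 hφ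
    rw [classInner_restrict_conjFun P (IsCharacter.isClassFunction hχc) g θ]
    exact he
  have hsum : ψ = (e : ℂ) • ∑ φ ∈ F, φ := by
    rw [← he]; exact restrict_eq_smul_sum P hχ hθ hθ'
  have hnorm : classInner ψ ψ = ((e ^ 2 * t : ℕ) : ℂ) := by
    conv_lhs => arg 1; rw [hsum]
    rw [classInner_smul_left, classInner_sum_left, Finset.sum_congr rfl fun φ hφ => show
      classInner φ ψ = (e : ℂ) by rw [← classInner_conj_symm, hFin φ hφ, map_natCast],
      Finset.sum_const, hFcard, nsmul_eq_mul]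
    push_cast; ring
  have hPn0 : 0 < Nat.card P := Nat.card_pos
  have hnorm2 : classInner ψ ψ * (Nat.card P : ℂ) =
      ((d ^ 2 + (Nat.card P - 1) : ℕ) : ℂ) := by
    rw [classInner, sum_mul_conj_eq (1 : P) fun x hx => hval x hx]
    simp only [hψdef, OneMemClass.coe_one, hd, map_natCast]
    have : (Nat.card P : ℂ) ≠ 0 := by exact_mod_cast hPn0.ne'
    field_simp
    push_cast; ring
  have hnum : e ^ 2 * t * Nat.card P = d ^ 2 + (Nat.card P - 1) := by
    rw [hnorm] at hnorm2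
    exact_mod_cast hnorm2
  -- the orbit inside the irreducible characters
  choose f hf0 hf using fun φ : IrrCharacter P => IsIrrCharacter.exists_apply_one φ.2
  have hsq : ∑ φ, f φ ^ 2 = Nat.card P := by
    have h := sum_degree_sq (G := P)
    simp only [hf] at h
    exact_mod_cast h
  set O : Finset (IrrCharacter P) := Finset.univ.filter (fun φ => (φ : P → ℂ) ∈ F) with hO
  have hOcard : O.card = t := by
    rw [← hFcard]
    refine Finset.card_bij (fun φ _ => (φ : P → ℂ)) (fun φ hφ => (Finset.mem_filter.1 hφ).2)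
      (fun a _ b _ h => Subtype.ext h) fun φ hφ => ?_
    obtain ⟨g, hg⟩ := (Set.Finite.mem_toFinset _).1 hφ
    exact ⟨⟨φ, hg ▸ hrange g⟩, Finset.mem_filter.2 ⟨Finset.mem_univ _, hφ⟩, rfl⟩
  have hOf : ∀ φ ∈ O, f φ = d' := by
    intro φ hφ
    obtain ⟨g, hg⟩ := (Set.Finite.mem_toFinset _).1 (Finset.mem_filter.1 hφ).2
    have h : (φ : P → ℂ) 1 = θ 1 := by rw [← hg]; exact conjFun_apply_one P g θ
    rw [hf, hd'] at h
    exact_mod_cast h
  have hnotO : trivIrr P ∉ O := by
    intro h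
    obtain ⟨g, hg⟩ := (Set.Finite.mem_toFinset _).1 (Finset.mem_filter.1 h).2
    refine hθne ?_
    have := congrArg (conjFun P g⁻¹) hg
    rw [conjFun_inv_cancel] at this
    rw [this]; rfl
  have hftriv : f (trivIrr P) = 1 := by
    have := hf (trivIrr P); rw [trivIrr_apply] at this; exact_mod_cast this.symm
  have hsub : ∑ φ ∈ insert (trivIrr P) O, f φ ^ 2 = 1 + t * d' ^ 2 := by
    rw [Finset.sum_insert hnotO, hftriv, Finset.sum_congr rfl fun φ hφ => by rw [hOf φ hφ],
      Finset.sum_const, hOcard, smul_eq_mul, one_pow]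
  have hle : t * d' ^ 2 + 1 ≤ Nat.card P := by
    rw [← hsq, add_comm, ← hsub]
    exact Finset.sum_le_sum_of_subset (Finset.subset_univ _)
  have hpP : p ∣ Nat.card P := by
    obtain ⟨k, hk⟩ := IsPGroup.iff_card.1 hPp
    rcases k with - | k
    · exact absurd (Subgroup.card_eq_one.1 (by simpa using hk)) hP
    · exact hk ▸ dvd_pow_self p (Nat.succ_ne_zero k)
  have hd'p : d' = 1 ∨ p ∣ d' := by
    obtain ⟨k, hk⟩ := IsPGroup.iff_card.1 hPp
    obtain ⟨j, -, hj⟩ := (Nat.dvd_prime_pow hp).1 (hk ▸ hd'dvd)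
    rcases j with - | j
    · exact Or.inl (by simpa using hj)
    · exact Or.inr (hj ▸ dvd_pow_self p (Nat.succ_ne_zero j))
  obtain ⟨rfl, rfl, hcase⟩ := arith hp hpP hd'p ht1 he1 hle (by
    have : d ^ 2 = e ^ 2 * t ^ 2 * d' ^ 2 := by rw [hdeg]; ring
    omega)
  have htP : t + 1 = Nat.card P := hcase.resolve_right fun h => by
    rw [hdeg, h] at hd2; norm_num at hd2
  have hdP : χ 1 = (Nat.card P : ℂ) - 1 := by
    rw [hd, hdeg, ← htP]; push_cast; ring
  have h3 : 3 ≤ Nat.card P := by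
    simp only [one_mul, mul_one] at hdeg
    omega
  have hall : insert (trivIrr P) O = Finset.univ := by
    refine Finset.eq_univ_of_forall fun φ => ?_
    by_contra hφ
    have h : (f φ ^ 2) + ∑ ψ ∈ insert (trivIrr P) O, f ψ ^ 2 ≤ Nat.card P := by
      rw [← hsq, ← Finset.sum_insert (f := fun ψ => f ψ ^ 2) hφ]
      exact Finset.sum_le_sum_of_subset (Finset.subset_univ _)
    rw [hsub] at h
    have : 1 ≤ f φ ^ 2 := pow_pos (hf0 φ) 2
    simp only [one_pow, mul_one] at h
    omega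
  have hmem : ∀ φ : IrrCharacter P, (φ : P → ℂ) ≠ (fun _ => 1) → (φ : P → ℂ) ∈ F := by
    intro φ hφ
    rcases Finset.mem_insert.1 (hall ▸ Finset.mem_univ φ) with h | h
    · exact absurd (by rw [h]; rfl) hφ
    · exact (Finset.mem_filter.1 h).2
  have hlin : ∀ φ : IrrCharacter P, (φ : P → ℂ) 1 = 1 := by
    intro φ
    rcases Finset.mem_insert.1 (hall ▸ Finset.mem_univ φ) with h | h
    · rw [h]; rfl
    · rw [hf, hOf φ h, Nat.cast_one]
  have hab : ∀ a ∈ P, ∀ b ∈ P, a * b = b * a := by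
    intro a ha b hb
    rw [← commutatorElement_eq_one_iff_mul_comm]
    have hc : ⁅(⟨a, ha⟩ : P), (⟨b, hb⟩ : P)⁆ ∈ commutator P :=
      Subgroup.commutator_mem_commutator (Subgroup.mem_top (⟨a, ha⟩ : P)) (Subgroup.mem_top (⟨b, hb⟩ : P))
    set c := ⁅(⟨a, ha⟩ : P), (⟨b, hb⟩ : P)⁆ with hcdef
    have h1 : ψ c = ψ 1 := by
      rw [hsum, Pi.smul_apply, Pi.smul_apply, Finset.sum_apply, Finset.sum_apply]
      congr 1
      refine Finset.sum_congr rfl fun φ hφ => ?_
      obtain ⟨g, rfl⟩ := (Set.Finite.mem_toFinset _).1 hφ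
      have h1 : conjFun P g θ 1 = 1 := hlin ⟨_, hrange g⟩
      show conjFun P g θ c = conjFun P g θ 1
      rw [IsCharacter.apply_of_mem_commutator (IsIrrCharacter.isCharacter (hrange g)) h1 hc, h1]
    simp only [hψdef, OneMemClass.coe_one] at h1
    have h2 := hfaith _ h1
    rwa [show ((c : P) : G) = ⁅a, b⁆ by simp [hcdef, commutatorElement_def]] at h2
  have hcover : ∀ φ : P → ℂ, IsIrrCharacter P φ → φ ≠ (fun _ => 1) →
      ∃ g : G, conjFun P g θ = φ := fun φ hφ hne =>
    (Set.Finite.mem_toFinset (Set.finite_range fun g : G => conjFun P g θ)).1 (hmem ⟨φ, hφ⟩ hne)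
  have hexp : ∀ a ∈ P, a ^ p = 1 := by
    obtain ⟨lam, hlam⟩ := IsCharacter.exists_hom_of_apply_one (IsIrrCharacter.isCharacter hθ)
      (hlin θ')
    have hlne : lam ≠ 1 := fun h => hθne (by rw [hlam, h]; simp)
    obtain ⟨k, hk⟩ := IsPGroup.iff_card.1 hPp
    have hex : ∃ n, ∀ a : P, lam a ^ (p ^ n) = 1 := ⟨k, fun a => by
      rw [← map_pow, ← hk, pow_card_eq_one', map_one]⟩
    obtain ⟨j, hj⟩ : ∃ j, Nat.find hex = j + 1 := Nat.exists_eq_succ_of_ne_zero fun h0 => hlne (by
      refine MonoidHom.ext fun a => ?_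
      have := Nat.find_spec hex a
      rwa [h0, pow_zero, pow_one] at this)
    set mu : P →* ℂˣ := (powMonoidHom (p ^ j)).comp lam with hmu
    have hmune : mu ≠ 1 := fun h => Nat.find_min hex (m := j) (by omega) fun a => by
      simpa [hmu] using congrArg (fun F : P →* ℂˣ => F a) h
    have hmup : ∀ a : P, mu a ^ p = 1 := fun a => by
      have := Nat.find_spec hex a
      rw [hj, pow_succ, pow_mul] at this
      simpa [hmu] using this
    obtain ⟨g₀, hg₀⟩ := hcover (fun a => (mu a : ℂ)) (isIrrCharacter_unitsHom mu) (fun h => hmune (by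
      ext a; exact (congrFun h a).trans (by simp)))
    intro a ha
    set c : P := ⟨a, ha⟩ ^ p with hc
    have h1 : ψ c = ψ 1 := by
      rw [hsum, Pi.smul_apply, Pi.smul_apply, Finset.sum_apply, Finset.sum_apply]
      congr 1
      refine Finset.sum_congr rfl fun φ hφ => ?_
      obtain ⟨g, rfl⟩ := (Set.Finite.mem_toFinset _).1 hφ
      have h2 : conjFun P g θ = conjFun P (g₀⁻¹ * g) (fun a => (mu a : ℂ)) := by
        rw [conjFun_mul, ← hg₀, conjFun_inv_cancel]
      show conjFun P g θ c = conjFun P g θ 1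
      rw [h2]
      show ((mu _ : ℂˣ) : ℂ) = ((mu _ : ℂˣ) : ℂ)
      have hA : ∀ (x : G) (hx : ∀ n : P, x * (n : G) * x⁻¹ ∈ P),
          (⟨x * ((c : P) : G) * x⁻¹, hx c⟩ : P) = (⟨x * a * x⁻¹, hx ⟨a, ha⟩⟩ : P) ^ p := fun x hx =>
        Subtype.ext (by simp [hc, conj_pow])
      rw [hA _ fun n => Subgroup.Normal.conj_mem inferInstance _ n.2 _, map_pow, hmup]
      simp only [Units.val_one]
      symm
      convert Units.val_one
      convert map_one mu
      simp
    simp only [hψdef, OneMemClass.coe_one, hc, SubgroupClass.coe_pow] at h1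
    exact hfaith _ h1
  refine ⟨hdP, h3, hab, hexp, hZ, θ, hθ, hθne, htP, fun φ => ?_, hcover⟩
  split_ifs with h
  · rw [h]; exact htriv
  · rw [hFin _ (hmem φ h), Nat.cast_one]

end Cfsg.Agent.Lib.CharMisc.RootValued
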