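import Cfsg.Agent.Lib.CharMisc.RootValuedCentralizer
import Cfsg.Agent.Lib.Compute.MultBound
import Mathlib.GroupTheory.Sylow
import Mathlib.GroupTheory.SpecificGroups.Cyclic

/-!
# Groups with a normal four group `P`, `C(P) = P × Z` and `G / C(P) ≅ S₃` are `S₄ × Z`
-/

set_option autoImplicit false
set_option linter.unusedSectionVars false
set_option linter.unusedSimpArgs false
set_option linter.style.haveILetI false

namespace Cfsg.Agent.Lib.CharMisc.RootValued

open Equiv
open scoped commutatorElement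

universe u

variable {G : Type u} [Group G] [Finite G]

theorem perm_three_facts :
    orderOf (⁅swap (0 : Fin 3) 1, swap (1 : Fin 3) 2⁆) = 3 ∧
      ∀ σ : Perm (Fin 3), σ ^ 3 = 1 → σ ≠ 1 → ∀ i, σ i ≠ i := by
  refine ⟨orderOf_eq_prime ?_ ?_, ?_⟩ <;> decide

/-- The count `|A ⊔ B| = |A| |B|` for a normal `B` meeting `A` trivially. -/
theorem card_sup_of_disjoint (A B : Subgroup G) [B.Normal] (h : A ⊓ B = ⊥) :
    Nat.card ↥(A ⊔ B) = Nat.card A * Nat.card B := by
  rw [← Nat.card_prod]
  refine (Nat.card_eq_of_bijective (fun x : A × B => (⟨x.1 * x.2,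
    Subgroup.mul_mem_sup x.1.2 x.2.2⟩ : ↥(A ⊔ B))) ⟨?_, ?_⟩).symm
  · intro x y hxy
    exact Subgroup.mul_injective_of_disjoint (disjoint_iff.2 h) (congrArg Subtype.val hxy)
  · rintro ⟨g, hg⟩
    obtain ⟨a, ha, b, hb, rfl⟩ := Subgroup.mem_sup_of_normal_right.1 hg
    exact ⟨⟨⟨a, ha⟩, ⟨b, hb⟩⟩, rfl⟩

theorem exists_sym_four_complement (P : Subgroup G) [P.Normal] (hP4 : Nat.card P = 4)
    (hC : Subgroup.centralizer (P : Set G) = P ⊔ Subgroup.center G)
    (hPZ : P ⊓ Subgroup.center G = ⊥) (hodd : Odd (Nat.card (Subgroup.center G)))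
    (hidx : (Subgroup.centralizer (P : Set G)).index = 6) :
    ∃ H : Subgroup G, Nonempty (↥H ≃* Equiv.Perm (Fin 4)) ∧ H ⊓ Subgroup.center G = ⊥ ∧
      H ⊔ Subgroup.center G = ⊤ := by
  classical
  haveI : Fact (Nat.Prime 2) := ⟨Nat.prime_two⟩
  haveI : Fact (Nat.Prime 3) := ⟨Nat.prime_three⟩
  set Z := Subgroup.center G with hZ
  set C := Subgroup.centralizer (P : Set G) with hCdef
  have hPp : IsPGroup 2 P := IsPGroup.of_card (n := 2) (by rw [hP4]; norm_num)
  have hab : ∀ a ∈ P, ∀ b ∈ P, a * b = b * a := fun a ha b hb => by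
    have h : a ∈ C := hC ▸ Subgroup.mem_sup_left ha
    exact (Subgroup.mem_centralizer_iff.1 h b hb).symm
  have hcardC : Nat.card C = 4 * Nat.card Z := by
    rw [hC, card_sup_of_disjoint P Z hPZ, hP4]
  have hcardG : Nat.card G = 24 * Nat.card Z := by
    rw [← Subgroup.card_mul_index C, hcardC, hidx]; ring
  -- the action on the involutions of `P`
  let P' := {a : P // a ≠ 1}
  have hcard3 : Nat.card P' = 3 := by
    haveI := Fintype.ofFinite P
    rw [Nat.card_eq_fintype_card, Fintype.card_subtype_compl, Fintype.card_subtype_eq,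
      ← Nat.card_eq_fintype_card, hP4]
  let e : P' ≃ Fin 3 := Finite.equivFinOfCardEq hcard3
  let σ₀ : G →* Perm P' :=
    { toFun := fun g => (MulAut.conjNormal g : MulAut P).toEquiv.subtypeEquiv fun a => by
        simp
      map_one' := by ext a; simp
      map_mul' := fun g h => by ext a; simp }
  let σ : G →* Perm (Fin 3) := e.permCongrHom.toMonoidHom.comp σ₀
  have hσ : ∀ (g : G) (a : P'), σ g (e a) = e (σ₀ g a) := fun g a => by
    simp [σ, Equiv.permCongrHom, Equiv.permCongr_apply]
  have hker : σ.ker = C := by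
    ext g
    rw [MonoidHom.mem_ker, hCdef, Subgroup.mem_centralizer_iff]
    constructor
    · intro h a ha
      by_cases ha1 : (⟨a, ha⟩ : P) = 1
      · have : a = 1 := congrArg Subtype.val ha1
        subst this; simp
      · have h2 := hσ g ⟨⟨a, ha⟩, ha1⟩
        rw [h, Perm.one_apply] at h2
        have h3 : g * a * g⁻¹ = a := (congrArg (fun z : P' => ((z : P) : G)) (e.injective h2)).symm
        calc a * g = g * a * g⁻¹ * g := by rw [h3]
          _ = g * a := by group
    · intro h
      ext i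
      obtain ⟨a, rfl⟩ := e.surjective i
      rw [hσ, Perm.one_apply]
      refine congrArg Fin.val (congrArg e (Subtype.ext (Subtype.ext ?_)))
      show g * ((a : P) : G) * g⁻¹ = ((a : P) : G)
      rw [← h _ (a : P).2, mul_inv_cancel_right]
  have hσsurj : Function.Surjective σ := by
    have h6 : Nat.card σ.range = 6 := by rw [← Subgroup.index_ker, hker, hidx]
    refine MonoidHom.range_eq_top.1 ((Subgroup.card_eq_iff_eq_top _).1 ?_)
    rw [h6, Nat.card_eq_fintype_card, Fintype.card_perm, Fintype.card_fin]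
    rfl
  -- derived subgroup meets the centre trivially
  have hGZ : Nat.card (G ⧸ Z) = 24 := by
    have := Subgroup.card_eq_card_quotient_mul_card_subgroup Z
    rw [hcardG] at this
    exact (Nat.eq_of_mul_eq_mul_right Nat.card_pos this).symm
  have hcomm : commutator G ⊓ Z = ⊥ := by
    refine (Subgroup.eq_bot_iff_forall _).2 fun z hz => ?_
    by_contra hne
    obtain ⟨hzc, hzZ⟩ := Subgroup.mem_inf.1 hz
    obtain ⟨q, hq, hqd⟩ := Nat.exists_prime_and_dvd (n := orderOf z)
      (fun h => hne (orderOf_eq_one_iff.1 h))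
    haveI : Fact q.Prime := ⟨hq⟩
    set w := z ^ (orderOf z / q) with hw
    have hwo : orderOf w = q := orderOf_pow_orderOf_div (orderOf_pos z).ne' hqd
    have hwZ : w ∈ Z := Subgroup.pow_mem _ hzZ _
    have hwc : w ∈ commutator G := Subgroup.pow_mem _ hzc _
    have hq2 : q ≠ 2 := by
      rintro rfl
      have h := Subgroup.orderOf_dvd_natCard Z hwZ
      rw [hwo] at h
      exact Nat.not_even_iff_odd.2 hodd (even_iff_two_dvd.2 h)
    obtain ⟨Q₀, hQ₀⟩ : ∃ Q₀ : Sylow q G, Subgroup.zpowers w ≤ (Q₀ : Subgroup G) :=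
      (IsPGroup.of_card (n := 1) (by rw [Nat.card_zpowers, hwo, pow_one])).exists_le_sylow
    set Q : Subgroup G := (Q₀ : Subgroup G) with hQ
    have hwQ : w ∈ Q := hQ₀ (Subgroup.mem_zpowers w)
    -- `Q` is abelian
    let f : Q →* G ⧸ Z := (QuotientGroup.mk' Z).comp Q.subtype
    have hfker : f.ker ≤ Subgroup.center Q := fun t ht => by
      have ht' : (t : G) ∈ Z := (QuotientGroup.eq_one_iff _).1 ht
      exact Subgroup.mem_center_iff.2 fun s => Subtype.ext (Subgroup.mem_center_iff.1 ht' s)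
    haveI : IsCyclic f.range := by
      have h1 : Nat.card f.range ∣ 24 := hGZ ▸ Subgroup.card_subgroup_dvd_card _
      obtain ⟨k, hk⟩ := IsPGroup.iff_card.1 (Q₀.2.map (QuotientGroup.mk' Z))
      have hrange : f.range = Q.map (QuotientGroup.mk' Z) := by
        rw [MonoidHom.range_comp, Subgroup.range_subtype]
      rw [hrange]
      have h2 : Nat.card (Q.map (QuotientGroup.mk' Z)) = 1 ∨
          Nat.card (Q.map (QuotientGroup.mk' Z)) = q := by
        rcases k with - | - | k
        · exact Or.inl (by simpa using hk)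
        · exact Or.inr (by simpa using hk)
        · exfalso
          rw [hrange, hk] at h1
          have h3 : q ^ 2 ∣ 24 := (pow_dvd_pow q (by omega)).trans h1
          have hq5 : q ≤ 4 := by
            have := Nat.le_of_dvd (by norm_num) h3
            nlinarith
          have := hq.two_le
          rcases (show q = 2 ∨ q = 3 ∨ q = 4 by omega) with h | h | h
          · exact hq2 h
          · rw [h] at h3; norm_num at h3
          · rw [h] at hq; norm_num at hq
      rcases h2 with h2 | h2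
      · exact @isCyclic_of_subsingleton _ _ ((Nat.card_eq_one_iff_unique.1 h2).1)
      · exact isCyclic_of_prime_card h2
    have hQab : ⁅Q, Q⁆ = ⊥ := by
      rw [Subgroup.commutator_eq_bot_iff_le_centralizer]
      intro a ha
      rw [Subgroup.mem_centralizer_iff]
      intro b hb
      exact congrArg Subtype.val (commutative_of_cyclic_center_quotient f.rangeRestrict
        (by rwa [MonoidHom.ker_rangeRestrict]) ⟨b, hb⟩ ⟨a, ha⟩)
    have h := Cfsg.Agent.Lib.Compute.mem_commutator_of_transfer hwZ hwc Q hwQ (p := q)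
      (by rw [← hwo]; exact pow_orderOf_eq_one w) ((hq.coprime_iff_not_dvd).2 Q₀.not_dvd_index)
    rw [hQab, Subgroup.mem_bot] at h
    rw [h, orderOf_one] at hwo
    exact hq.one_lt.ne hwo
  -- the complement
  let S : Sylow 2 G := default
  set H := commutator G ⊔ (S : Subgroup G) with hH
  haveI : (commutator G).Normal := inferInstance
  have hHZ : H ⊓ Z = ⊥ := by
    refine (Subgroup.eq_bot_iff_forall _).2 fun h hh => ?_
    obtain ⟨hhH, hhZ⟩ := Subgroup.mem_inf.1 hh
    have hodd' : Odd (orderOf h) := hodd.of_dvd_nat (Subgroup.orderOf_dvd_natCard Z hhZ)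
    obtain ⟨c, hc, s, hs, rfl⟩ := Subgroup.mem_sup_of_normal_left.1 hhH
    have hmk : QuotientGroup.mk' (commutator G) (c * s) = QuotientGroup.mk' (commutator G) s := by
      rw [map_mul, show QuotientGroup.mk' (commutator G) c = 1 from
        (QuotientGroup.eq_one_iff _).2 hc, one_mul]
    have hd1 := orderOf_map_dvd (QuotientGroup.mk' (commutator G)) (c * s)
    have hd2 := orderOf_map_dvd (QuotientGroup.mk' (commutator G)) s
    rw [hmk] at hd1
    obtain ⟨k, hk⟩ := IsPGroup.iff_orderOf.1 S.2 ⟨s, hs⟩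
    rw [← Subgroup.orderOf_coe] at hk
    change orderOf s = 2 ^ k at hk
    rw [hk] at hd2
    have hone : orderOf (QuotientGroup.mk' (commutator G) s) = 1 :=
      Nat.eq_one_of_dvd_coprimes ((Nat.coprime_two_left.2 hodd').pow_left k) hd2 hd1
    have hsc : s ∈ commutator G := (QuotientGroup.eq_one_iff _).1 (orderOf_eq_one_iff.1 hone)
    exact (Subgroup.eq_bot_iff_forall _).1 hcomm _
      (Subgroup.mem_inf.2 ⟨Subgroup.mul_mem _ hc hsc, hhZ⟩)
  have hHcard : Nat.card H = 24 := by
    have hle : Nat.card H ∣ 24 := by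
      have hinj : Function.Injective ((QuotientGroup.mk' Z).comp H.subtype) := by
        rw [← MonoidHom.ker_eq_bot_iff, Subgroup.eq_bot_iff_forall]
        intro t ht
        exact Subtype.ext ((Subgroup.eq_bot_iff_forall _).1 hHZ _
          (Subgroup.mem_inf.2 ⟨t.2, (QuotientGroup.eq_one_iff _).1 ht⟩))
      rw [← hGZ, Nat.card_congr (MonoidHom.ofInjective hinj).toEquiv]
      exact Subgroup.card_subgroup_dvd_card _
    have h8 : 8 ∣ Nat.card H := by
      refine Dvd.dvd.trans ?_ (Subgroup.card_dvd_of_le (le_sup_right : (S : Subgroup G) ≤ H))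
      refine S.pow_dvd_card_of_pow_dvd_card (n := 3) ?_
      rw [hcardG]
      exact Dvd.dvd.mul_right (by norm_num) _
    have h3 : 3 ∣ Nat.card H := by
      obtain ⟨u, hu⟩ := hσsurj (swap 0 1)
      obtain ⟨t, ht⟩ := hσsurj (swap 1 2)
      have hmem : ⁅u, t⁆ ∈ H := Subgroup.mem_sup_left
        (Subgroup.commutator_mem_commutator (Subgroup.mem_top u) (Subgroup.mem_top t))
      have h1 := orderOf_map_dvd σ ⁅u, t⁆
      rw [map_commutatorElement, hu, ht, perm_three_facts.1] at h1
      exact h1.trans (Subgroup.orderOf_dvd_natCard H hmem)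
    exact Nat.dvd_antisymm hle (Nat.Coprime.mul_dvd_of_dvd_of_dvd (by norm_num : Nat.Coprime 8 3) h8 h3)
  have hHtop : H ⊔ Z = ⊤ := by
    refine (Subgroup.card_eq_iff_eq_top _).1 ?_
    rw [card_sup_of_disjoint H Z hHZ, hHcard, hcardG]
  have hPH : P ≤ H := le_trans (by
    obtain ⟨S', hS'⟩ := hPp.exists_le_sylow
    obtain ⟨g, hg⟩ := MulAction.exists_smul_eq G S' S
    rw [← hg]
    intro a ha
    rw [Sylow.coe_subgroup_smul, Subgroup.mem_pointwise_smul_iff_inv_smul_mem]
    refine hS' ?_
    simpa using Subgroup.Normal.conj_mem inferInstance a ha g⁻¹) le_sup_right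
  -- the action of `H` on its Sylow 3-subgroups
  let σH : H →* Perm (Fin 3) := σ.comp H.subtype
  have hσHsurj : Function.Surjective σH := fun π => by
    obtain ⟨g, rfl⟩ := hσsurj π
    obtain ⟨h, hh, z, hz, rfl⟩ := Subgroup.mem_sup_of_normal_right.1
      (show g ∈ H ⊔ Z from hHtop ▸ Subgroup.mem_top g)
    refine ⟨⟨h, hh⟩, ?_⟩
    have hzk : σ z = 1 := by
      rw [← MonoidHom.mem_ker, hker, hC]; exact Subgroup.mem_sup_right hz
    show σ h = σ (h * z)
    rw [map_mul, hzk, mul_one]
  set PH : Subgroup H := P.subgroupOf H with hPHdef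
  have hPHcard : Nat.card PH = 4 := by
    rw [Nat.card_congr (Subgroup.subgroupOfEquivOfLe hPH).toEquiv, hP4]
  have hkerH : σH.ker = PH := by
    refine (Subgroup.eq_of_le_of_card_ge ?_ ?_).symm
    · intro a ha
      show σ a = 1
      rw [← MonoidHom.mem_ker, hker, hC]
      exact Subgroup.mem_sup_left ha
    · have h := Subgroup.card_mul_index σH.ker
      rw [Subgroup.index_ker, MonoidHom.range_eq_top.2 hσHsurj, Subgroup.card_top, hHcard,
        Nat.card_eq_fintype_card (α := Perm (Fin 3)), Fintype.card_perm, Fintype.card_fin] at h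
      rw [show Nat.factorial 3 = 6 from rfl] at h
      omega
  have hQcard : ∀ Q : Sylow 3 H, Nat.card Q = 3 := fun Q => by
    obtain ⟨k, hk⟩ := IsPGroup.iff_card.1 Q.2
    change Nat.card Q = 3 ^ k at hk
    have h1 : 3 ^ 1 ∣ Nat.card Q := Q.pow_dvd_card_of_pow_dvd_card (by rw [hHcard]; norm_num)
    have h2 : Nat.card Q ∣ 24 := hHcard ▸ Subgroup.card_subgroup_dvd_card (Q : Subgroup H)
    rcases k with - | - | k
    · rw [hk] at h1; norm_num at h1
    · simpa using hk
    · rw [hk] at h2
      have := (pow_dvd_pow 3 (show 2 ≤ k + 1 + 1 by omega)).trans h2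
      norm_num at this
  have hfpf : ∀ Q : Sylow 3 H, ∃ u ∈ (Q : Subgroup H), (∀ a : H, a ∈ PH → a * u = u * a → a = 1) ∧
      u ∉ PH := by
    intro Q
    obtain ⟨u, hu⟩ := exists_prime_orderOf_dvd_card' (G := Q) 3 (by rw [hQcard])
    rw [← Subgroup.orderOf_coe] at hu
    have hunot : (u : H) ∉ PH := fun h => by
      have h1 := Subgroup.orderOf_dvd_natCard PH h
      rw [hu, hPHcard] at h1
      norm_num at h1
    refine ⟨u, u.2, fun a ha hau => ?_, hunot⟩
    by_contra ha1
    have hσu : σH u ≠ 1 := fun h => hunot (hkerH ▸ MonoidHom.mem_ker.2 h)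
    have hσu3 : σH u ^ 3 = 1 := by
      have h := orderOf_map_dvd σH (u : H)
      rw [hu] at h
      exact orderOf_dvd_iff_pow_eq_one.1 h
    have ha1' : (⟨(a : G), ha⟩ : P) ≠ 1 := fun h => ha1 (Subtype.ext (congrArg (fun z : P => (z : G)) h))
    refine perm_three_facts.2 _ hσu3 hσu (e ⟨_, ha1'⟩) ?_
    show σ ((u : H) : G) (e ⟨_, ha1'⟩) = e ⟨_, ha1'⟩
    rw [hσ]
    refine congrArg e (Subtype.ext (Subtype.ext ?_))
    show ((u : H) : G) * (a : G) * ((u : H) : G)⁻¹ = a
    have hc : (u : H) * a * (u : H)⁻¹ = a := by rw [← hau, mul_inv_cancel_right]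
    exact congrArg (fun z : H => (z : G)) hc
  let act : H →* Perm (Sylow 3 H) := MulAction.toPermHom H (Sylow 3 H)
  haveI : PH.Normal := by rw [← hkerH]; infer_instance
  -- an element of `PH` normalising a Sylow 3-subgroup is trivial
  have hPN : ∀ (Q : Sylow 3 H) (a : H), a ∈ PH →
      a ∈ Subgroup.normalizer ((Q : Subgroup H) : Set H) → a = 1 := by
    intro Q a ha han
    obtain ⟨u, hu, hfix, -⟩ := hfpf Q
    refine hfix a ha ?_
    rw [← commutatorElement_eq_one_iff_mul_comm, commutatorElement_def]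
    have h1 : a * u * a⁻¹ * u⁻¹ ∈ (Q : Subgroup H) :=
      Subgroup.mul_mem _ ((Subgroup.mem_normalizer_iff.1 han u).1 hu) (Subgroup.inv_mem _ hu)
    have h2 : a * u * a⁻¹ * u⁻¹ ∈ PH := by
      rw [show a * u * a⁻¹ * u⁻¹ = a * (u * a⁻¹ * u⁻¹) by group]
      exact Subgroup.mul_mem _ ha (Subgroup.Normal.conj_mem inferInstance _ (Subgroup.inv_mem _ ha) u)
    have h3 := Subgroup.orderOf_dvd_natCard _ h1
    have h4 := Subgroup.orderOf_dvd_natCard _ h2
    rw [hQcard Q] at h3
    rw [hPHcard] at h4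
    exact orderOf_eq_one_iff.1 (Nat.eq_one_of_dvd_coprimes (by norm_num) h3 h4)
  have hactker : act.ker = ⊥ := by
    refine (Subgroup.eq_bot_iff_forall _).2 fun k hk => ?_
    have hnorm : ∀ (Q : Sylow 3 H) (j : H), j ∈ act.ker →
        j ∈ Subgroup.normalizer ((Q : Subgroup H) : Set H) := fun Q j hj =>
      Sylow.smul_eq_iff_mem_normalizer.1 (congrArg (fun π : Perm (Sylow 3 H) => π Q) hj)
    let Q0 : Sylow 3 H := default
    have hkC : k ∈ PH := by
      rw [← hkerH, MonoidHom.mem_ker]
      show σ (k : G) = 1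
      rw [← MonoidHom.mem_ker, hker, hCdef, Subgroup.mem_centralizer_iff]
      intro a ha
      have hz : ⁅(⟨a, hPH ha⟩ : H), k⁆ ∈ PH ⊓ act.ker := by
        rw [commutatorElement_def]
        refine Subgroup.mem_inf.2 ⟨?_, ?_⟩
        · rw [show (⟨a, hPH ha⟩ : H) * k * (⟨a, hPH ha⟩)⁻¹ * k⁻¹ =
            (⟨a, hPH ha⟩ : H) * (k * (⟨a, hPH ha⟩)⁻¹ * k⁻¹) by group]
          exact Subgroup.mul_mem _ ha
            (Subgroup.Normal.conj_mem inferInstance _ (Subgroup.inv_mem _ (show _ ∈ PH from ha)) k)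
        · exact Subgroup.mul_mem _ (Subgroup.Normal.conj_mem inferInstance _ hk _)
            (Subgroup.inv_mem _ hk)
      obtain ⟨hz1, hz2⟩ := Subgroup.mem_inf.1 hz
      have h := hPN Q0 _ hz1 (hnorm Q0 _ hz2)
      rw [commutatorElement_eq_one_iff_mul_comm] at h
      exact congrArg Subtype.val h
    exact hPN Q0 k hkC (hnorm Q0 k hk)
  have hn3 : Nat.card (Sylow 3 H) = 4 := by
    let Q0 : Sylow 3 H := default
    have h1 : Nat.card (Sylow 3 H) ∣ (Q0 : Subgroup H).index := Q0.card_dvd_index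
    have h2 := card_sylow_modEq_one 3 H
    have hidx8 : (Q0 : Subgroup H).index = 8 := by
      have := Subgroup.card_mul_index (Q0 : Subgroup H)
      rw [show Nat.card (Q0 : Subgroup H) = 3 from hQcard Q0, hHcard] at this
      omega
    rw [hidx8] at h1
    have hmem : Nat.card (Sylow 3 H) ∈ Nat.divisors 8 := Nat.mem_divisors.2 ⟨h1, by norm_num⟩
    have hne1 : Nat.card (Sylow 3 H) ≠ 1 := by
      intro h
      haveI := (Nat.card_eq_one_iff_unique.1 h).1
      have hbot : act.ker = ⊤ := (Subgroup.eq_top_iff' _).2 fun j => by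
        rw [MonoidHom.mem_ker]; exact Equiv.ext fun (Q : Sylow 3 H) => Subsingleton.elim (act j Q) Q
      have := congrArg (fun K : Subgroup H => Nat.card K) (hactker.symm.trans hbot)
      simp only [Subgroup.card_bot, Subgroup.card_top, hHcard] at this
      omega
    rw [show Nat.divisors 8 = {1, 2, 4, 8} by decide] at hmem
    simp only [Finset.mem_insert, Finset.mem_singleton] at hmem
    rcases hmem with h | h | h | h
    · exact absurd h hne1
    · rw [h] at h2; exact absurd h2 (by decide)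
    · exact h
    · rw [h] at h2; exact absurd h2 (by decide)
  let e4 : Sylow 3 H ≃ Fin 4 := Finite.equivFinOfCardEq hn3
  let θ : H →* Perm (Fin 4) := e4.permCongrHom.toMonoidHom.comp act
  have hθinj : Function.Injective θ :=
    e4.permCongrHom.injective.comp ((MonoidHom.ker_eq_bot_iff act).1 hactker)
  have hθbij : Function.Bijective θ := by
    refine (Nat.bijective_iff_injective_and_card θ).2 ⟨hθinj, ?_⟩
    rw [hHcard, Nat.card_eq_fintype_card, Fintype.card_perm, Fintype.card_fin]
    rfl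
  exact ⟨H, ⟨MulEquiv.ofBijective θ hθbij⟩, hHZ, hHtop⟩

end Cfsg.Agent.Lib.CharMisc.RootValued
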