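import Cfsg.Agent.Lib.CharMisc.RootValuedCentralizer

/-!
# Faithful characters of absolute value one on `2`-singular elements: `|O₂(G)| = 4`
-/

set_option autoImplicit false
set_option linter.unusedSectionVars false
set_option linter.unusedSimpArgs false
set_option linter.style.haveILetI false

namespace Cfsg.Agent.Lib.CharMisc.RootValued

open Cfsg Cfsg.Agent.Lib.Characters
open scoped ComplexConjugate

universe u

variable {G : Type u} [Group G] [Finite G]

/-- If some `2`-element outside `P` normalises it with `x² ∈ P`, then `|P| = 4`. -/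
theorem card_eq_four [Fact (Nat.Prime 2)] {χ : G → ℂ} (hχ : IsIrrCharacter G χ)
    (hfaith : ∀ g : G, χ g = χ 1 → g = 1) (hnl : χ 1 ≠ 1)
    (hroot : ∀ g : G, 2 ∣ orderOf g → ‖χ g‖ = 1)
    (P : Subgroup G) [P.Normal] [Fintype P] (hPp : IsPGroup 2 P) (hP : P ≠ ⊥)
    (T : Subgroup G) [Fintype T] (hTp : IsPGroup 2 T) (hT : Nat.card T = 2 * Nat.card P)
    (hPT : P ≤ T) (x : G) (hxT : x ∈ T) (hxP : x ∉ P) (hx2 : x ^ 2 ∈ P) :
    Nat.card P = 4 := by
  classical
  haveI := Fintype.ofFinite G
  obtain ⟨hdP, h3, hab, hexp, hPZ, θ₀, -, -, -, hmult, -⟩ :=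
    restrict_structure hχ hfaith hnl hroot P hPp hP
  obtain ⟨-, hTnorm⟩ := eq_two_of_extension hχ hfaith hnl hroot P hPp hP T hTp hT
  have hχc := IsIrrCharacter.isCharacter hχ
  haveI := Fintype.ofFinite (IrrCharacter P)
  haveI := Fintype.ofFinite (IrrCharacter T)
  have hlinP : ∀ φ : IrrCharacter P, (φ : P → ℂ) 1 = 1 := fun φ =>
    IsIrrCharacter.apply_one_of_comm (fun a b => Subtype.ext (hab a a.2 b b.2)) φ.2
  have hmult' : ∀ φ : IrrCharacter P, ∃ k : ℕ, k ≤ 1 ∧
      classInner (fun n : P => χ n) (φ : P → ℂ) = k := fun φ => by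
    rw [hmult φ]
    split_ifs
    · exact ⟨0, zero_le_one, by simp⟩
    · exact ⟨1, le_rfl, by simp⟩
  set ι : P →* T := Subgroup.inclusion hPT with hι
  have hιinj : Function.Injective ι := Subgroup.inclusion_injective hPT
  have hχT : IsCharacter T (fun t : T => χ t) := IsCharacter.restrict hχc T
  obtain ⟨m, hm, hm'⟩ := IsCharacter.exists_nat_decomp hχT
  choose n hn0 hn using fun η : IrrCharacter T => IsIrrCharacter.exists_apply_one η.2
  have hdegsum : ∑ η, m η * n η + 1 = Nat.card P := by
    have h := congrFun hm 1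
    simp only [OneMemClass.coe_one, hdP, Finset.sum_apply, Pi.smul_apply, smul_eq_mul, hn] at h
    have h' : ((∑ η, m η * n η + 1 : ℕ) : ℂ) = (Nat.card P : ℂ) := by
      push_cast; rw [← h]; ring
    exact_mod_cast h'
  have hsqsum : (∑ η, m η * m η) * 2 = Nat.card P := by
    rw [hm, classInner_sum_sum] at hTnorm
    simp only [map_natCast] at hTnorm
    exact_mod_cast hTnorm
  -- constituents of degree at most two
  have hn2 : ∀ η, m η ≠ 0 → n η ≤ 2 := by
    intro η hη
    obtain ⟨rest, hrest, hsplit⟩ := IsCharacter.exists_add_of_classInner_ne_zero hχT η.2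
      (by rw [hm']; exact_mod_cast hη)
    have hN := norm_eq_degree hlinP hmult' (IsCharacter.comp (irr_isCharacter η) ι)
      (IsCharacter.comp hrest ι) (funext fun a => congrFun hsplit (ι a))
    rw [classInner, inv_mul_eq_iff_eq_mul₀ natCard_ne_zero_complex] at hN
    have h1 := IsIrrCharacter.classInner_self η.2
    rw [classInner, inv_mul_eq_iff_eq_mul₀ natCard_ne_zero_complex, mul_one] at h1
    simp only [Function.comp_apply, map_one, hn, Complex.mul_conj] at hN h1
    have hN' : (∑ a : P, Complex.normSq ((η : T → ℂ) (ι a))) = (Nat.card P : ℝ) * n η := by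
      exact_mod_cast hN
    have h1' : (∑ t : T, Complex.normSq ((η : T → ℂ) t)) = (Nat.card T : ℝ) := by exact_mod_cast h1
    have hle : (∑ a : P, Complex.normSq ((η : T → ℂ) (ι a))) ≤
        ∑ t : T, Complex.normSq ((η : T → ℂ) t) := by
      rw [← Finset.sum_image (f := fun t => Complex.normSq ((η : T → ℂ) t))
        (fun a _ b _ h => hιinj h)]
      exact Finset.sum_le_sum_of_subset_of_nonneg (Finset.subset_univ _)
        fun t _ _ => Complex.normSq_nonneg _
    rw [hN', h1', hT] at hle
    have hle' : Nat.card P * n η ≤ 2 * Nat.card P := by exact_mod_cast hle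
    nlinarith [Nat.card_pos (α := P)]
  -- exactly one linear constituent
  have hslack : ∀ η, m η * n η ≤ 2 * (m η * m η) := fun η => by
    rcases eq_or_ne (m η) 0 with h | h
    · simp [h]
    · have := hn2 η h; nlinarith [Nat.one_le_iff_ne_zero.2 h]
  have hone : ∀ η₁ η₂, m η₁ * n η₁ < 2 * (m η₁ * m η₁) → m η₂ * n η₂ < 2 * (m η₂ * m η₂) →
      η₁ = η₂ := by
    intro η₁ η₂ h₁ h₂
    by_contra hne
    have htot : ∑ η, (2 * (m η * m η) - m η * n η) = 1 := by
      rw [Finset.sum_tsub_distrib _ fun η _ => hslack η, ← Finset.mul_sum]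
      omega
    have : ∑ η ∈ ({η₁, η₂} : Finset _), (2 * (m η * m η) - m η * n η) ≤
        ∑ η, (2 * (m η * m η) - m η * n η) := Finset.sum_le_sum_of_subset (Finset.subset_univ _)
    rw [Finset.sum_pair hne, htot] at this
    omega
  have hlinuniq : ∀ η₁ η₂ : IrrCharacter T, m η₁ ≠ 0 → m η₂ ≠ 0 → n η₁ = 1 → n η₂ = 1 →
      η₁ = η₂ := fun η₁ η₂ a b c e => hone η₁ η₂
        (by rw [c]; nlinarith [Nat.one_le_iff_ne_zero.2 a])
        (by rw [e]; nlinarith [Nat.one_le_iff_ne_zero.2 b])
  -- the commutator map of `x` on `P`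
  have hxconj : ∀ a ∈ P, x * a * x⁻¹ ∈ P := fun a ha => Subgroup.Normal.conj_mem inferInstance a ha x
  have hinv : ∀ a : P, a⁻¹ = a := fun a => by
    refine inv_eq_of_mul_eq_one_left (Subtype.ext ?_)
    rw [Subgroup.coe_mul, ← sq]; exact hexp a a.2
  set f : P →* P :=
    { toFun := fun a => ⟨x * a * x⁻¹ * a, P.mul_mem (hxconj a a.2) a.2⟩
      map_one' := Subtype.ext (by simp)
      map_mul' := fun a b => Subtype.ext (by
        simp only [Subgroup.coe_mul]
        rw [show x * ((a : G) * b) * x⁻¹ * ((a : G) * b) =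
          (x * a * x⁻¹) * ((x * b * x⁻¹) * (a : G)) * b by group,
          hab _ (hxconj b b.2) a a.2]
        group) } with hf
  have hfker : ∀ a : P, f a ∈ f.ker := by
    intro a
    rw [MonoidHom.mem_ker]
    refine Subtype.ext ?_
    show x * (x * (a : G) * x⁻¹ * a) * x⁻¹ * (x * (a : G) * x⁻¹ * a) = 1
    have h1 : x ^ 2 * (a : G) * (x ^ 2)⁻¹ = a := by rw [hab _ hx2 a a.2, mul_inv_cancel_right]
    rw [show x * (x * (a : G) * x⁻¹ * a) * x⁻¹ = (x ^ 2 * (a : G) * (x ^ 2)⁻¹) * (x * a * x⁻¹) by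
      rw [sq]; group, h1, hab _ (hxconj a a.2) a a.2]
    have := hexp ((a : G) * (x * a * x⁻¹)) (P.mul_mem a.2 (hxconj a a.2))
    rwa [sq] at this
  set R : Subgroup P := f.range with hR
  have hPcomm : IsMulCommutative P := ⟨⟨fun a b => Subtype.ext (hab a a.2 b b.2)⟩⟩
  haveI : R.Normal := ⟨fun r hr g => by
    rwa [hPcomm.is_comm.comm g r, mul_inv_cancel_right]⟩
  -- a fixed linear character is the restriction of the linear constituent
  have hfixed : ∀ lam : IrrCharacter P, (lam : P → ℂ) ≠ (fun _ => 1) →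
      (∀ a : P, (lam : P → ℂ) (f a) = 1) →
      ∃ η, m η ≠ 0 ∧ n η = 1 ∧ (fun a : P => (η : T → ℂ) (ι a)) = (lam : P → ℂ) := by
    intro lam hlam hfix
    have hψ1 := hmult lam
    rw [if_neg hlam] at hψ1
    have hexpd : (fun a : P => χ a) = ∑ η, (m η : ℂ) • fun a : P => (η : T → ℂ) (ι a) := by
      funext a
      have := congrFun hm (ι a)
      simpa [hι] using this
    rw [hexpd, classInner_sum_left] at hψ1
    obtain ⟨η, -, hη⟩ := Finset.exists_ne_zero_of_sum_ne_zero (by rw [hψ1]; exact one_ne_zero)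
    rw [classInner_smul_left] at hη
    obtain ⟨hη1, hη2⟩ := ne_zero_and_ne_zero_of_mul hη
    have hmη : m η ≠ 0 := fun h => hη1 (by rw [h, Nat.cast_zero])
    obtain ⟨s, hs, hsplit⟩ := IsCharacter.exists_add_of_classInner_ne_zero
      (IsCharacter.comp (irr_isCharacter η) ι) lam.2 hη2
    have hs1 : s 1 + 1 = n η := by
      have := congrFun hsplit 1
      simp only [Function.comp_apply, map_one, hn, Pi.add_apply, hlinP lam] at this
      rw [this]; ring
    rcases (show n η = 1 ∨ n η = 2 by have := hn2 η hmη; have := hn0 η; omega) with h1 | h2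
    · refine ⟨η, hmη, h1, ?_⟩
      have hs0 : s 1 = 0 := by rw [h1, Nat.cast_one] at hs1; linear_combination hs1
      funext a
      have := congrFun hsplit a
      simp only [Function.comp_apply, Pi.add_apply] at this
      have hsa : s a = 0 := by
        have := IsCharacter.norm_le hs a
        rw [hs0, norm_zero] at this
        exact norm_le_zero_iff.1 this
      rw [this, hsa, add_zero]
    · exfalso
      have hs1' : s 1 = 1 := by rw [h2] at hs1; push_cast at hs1; linear_combination hs1
      obtain ⟨σ, hσ⟩ := IsCharacter.exists_hom_of_apply_one hs hs1'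
      obtain ⟨l, hl⟩ := IsCharacter.exists_hom_of_apply_one (irr_isCharacter lam) (hlinP lam)
      have hlf : ∀ a, l (f a) = 1 := fun a => Units.ext (by
        have := hfix a; rw [hl] at this; simpa using this)
      set c : P → P := fun a => ⟨x * a * x⁻¹, hxconj a a.2⟩ with hc
      have hfc : ∀ a, f a = c a * a := fun a => rfl
      have hηc : ∀ a, (η : T → ℂ) (ι (c a)) = (η : T → ℂ) (ι a) := fun a => by
        rw [← IsCharacter.conj_apply (irr_isCharacter η) (ι a) ⟨x, hxT⟩]
        exact congrArg _ (Subtype.ext rfl)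
      have hlc : ∀ a, l (c a) = l a := fun a => by
        have := hlf a
        rw [hfc, map_mul] at this
        rw [eq_inv_of_mul_eq_one_left this, ← map_inv, hinv]
      have hσc : ∀ a, σ (c a) = σ a := fun a => Units.ext (by
        have h := hηc a
        have e1 := congrFun hsplit (c a)
        have e2 := congrFun hsplit a
        simp only [Function.comp_apply, Pi.add_apply, hσ, hl] at e1 e2
        rw [h, e2, hlc a] at e1
        exact (add_left_cancel e1).symm)
      have hσf : ∀ a, σ (f a) = 1 := fun a => by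
        rw [hfc, map_mul, hσc, ← map_mul, show a * a = 1 from mul_eq_one_iff_eq_inv.2 (hinv a).symm, map_one]
      have hkerη : ∀ a, (η : T → ℂ) (ι (f a)) = (η : T → ℂ) 1 := fun a => by
        have e1 := congrFun hsplit (f a)
        simp only [Function.comp_apply, Pi.add_apply, hσ, hl, hlf, hσf, Units.val_one] at e1
        rw [e1, hn, h2]; norm_num
      set K := charKernel (irr_isCharacter η) with hK
      obtain ⟨ψ, hψ, hψe⟩ := IsIrrCharacter.exists_quotient η.2 K fun t ht => ht
      let π : T →* T ⧸ K := QuotientGroup.mk' K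
      have hcommP : ∀ a b : P, π (ι a) * π (ι b) = π (ι b) * π (ι a) := fun a b => by
        rw [← map_mul, ← map_mul, ← map_mul, ← map_mul, hPcomm.is_comm.comm a b]
      have hcommx : ∀ a : P, π (ι a) * π ⟨x, hxT⟩ = π ⟨x, hxT⟩ * π (ι a) := fun a => by
        have h1 : π (ι (f a)) = 1 := (QuotientGroup.eq_one_iff _).2 (hkerη a)
        have h3 : ι (f a) * ι a⁻¹ * ⟨x, hxT⟩ = ⟨x, hxT⟩ * ι a := Subtype.ext (by
          show x * (a : G) * x⁻¹ * a * ((a⁻¹ : P) : G) * x = x * a
          simp [mul_assoc])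
        have h4 := congrArg π h3
        rw [map_mul, map_mul, map_mul, h1, one_mul, hinv] at h4
        exact h4
      have hidx : (P.subgroupOf T).index = 2 := by
        have h := Subgroup.card_mul_index (P.subgroupOf T)
        rw [Nat.card_congr (Subgroup.subgroupOfEquivOfLe hPT).toEquiv, hT, mul_comm 2] at h
        exact Nat.eq_of_mul_eq_mul_left Nat.card_pos h
      have hgen : ∀ t : T, (∃ a : P, t = ι a) ∨ ∃ a : P, t = ι a * ⟨x, hxT⟩ := by
        intro t
        by_cases ht : (t : G) ∈ P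
        · exact Or.inl ⟨⟨t, ht⟩, rfl⟩
        · right
          have h := Subgroup.mul_mem_iff_of_index_two hidx (a := t) (b := ⟨x, hxT⟩⁻¹)
          have htx : t * (⟨x, hxT⟩ : T)⁻¹ ∈ P.subgroupOf T := by
            rw [h]
            simp [Subgroup.mem_subgroupOf, ht, hxP]
          exact ⟨⟨_, htx⟩, Subtype.ext (by simp [hι])⟩
      have habq : ∀ u v : T ⧸ K, u * v = v * u := by
        intro u v
        obtain ⟨t, rfl⟩ := QuotientGroup.mk'_surjective K u
        obtain ⟨t', rfl⟩ := QuotientGroup.mk'_surjective K v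
        have hA : ∀ t : T, ∀ a : P, π t * π (ι a) = π (ι a) * π t := fun t a => by
          rcases hgen t with ⟨b, rfl⟩ | ⟨b, rfl⟩
          · exact hcommP b a
          · rw [map_mul, mul_assoc, ← hcommx, ← mul_assoc, hcommP, mul_assoc]
        rcases hgen t' with ⟨a, rfl⟩ | ⟨a, rfl⟩
        · exact hA t a
        · rcases hgen t with ⟨b, rfl⟩ | ⟨b, rfl⟩
          · exact (hA _ b).symm
          · have hX : π ⟨x, hxT⟩ * π (ι a) = π (ι a) * π ⟨x, hxT⟩ := (hcommx a).symm
            show π (ι b * _) * π (ι a * _) = π (ι a * _) * π (ι b * _)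
            rw [map_mul, map_mul]
            calc π (ι b) * π ⟨x, hxT⟩ * (π (ι a) * π ⟨x, hxT⟩)
                = π (ι b) * (π ⟨x, hxT⟩ * π (ι a)) * π ⟨x, hxT⟩ := by simp only [mul_assoc]
              _ = π (ι b) * π (ι a) * (π ⟨x, hxT⟩ * π ⟨x, hxT⟩) := by
                  rw [hX]; simp only [mul_assoc]
              _ = π (ι a) * π (ι b) * (π ⟨x, hxT⟩ * π ⟨x, hxT⟩) := by rw [hcommP]
              _ = π (ι a) * (π (ι b) * π ⟨x, hxT⟩) * π ⟨x, hxT⟩ := by simp only [mul_assoc]
              _ = π (ι a) * π ⟨x, hxT⟩ * (π (ι b) * π ⟨x, hxT⟩) := by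
                  conv_lhs => rw [hcommx b]
                  simp only [mul_assoc]
      have := IsIrrCharacter.apply_one_of_comm habq hψ
      have h5 := congrFun hψe 1
      simp only [Function.comp_apply, map_one, this, hn, h2] at h5
      norm_num at h5
  -- hence `P / R` has at most two characters
  haveI := Fintype.ofFinite (IrrCharacter (P ⧸ R))
  haveI := Fintype.ofFinite (P ⧸ R)
  have habR : ∀ a b : P ⧸ R, a * b = b * a := fun a b => by
    obtain ⟨a, rfl⟩ := QuotientGroup.mk'_surjective R a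
    obtain ⟨b, rfl⟩ := QuotientGroup.mk'_surjective R b
    rw [← map_mul, ← map_mul, hPcomm.is_comm.comm a b]
  have hlinR : ∀ φ : IrrCharacter (P ⧸ R), (φ : P ⧸ R → ℂ) 1 = 1 := fun φ =>
    IsIrrCharacter.apply_one_of_comm habR φ.2
  have hcardR : Fintype.card (IrrCharacter (P ⧸ R)) = Nat.card (P ⧸ R) := by
    have h := sum_degree_sq (G := P ⧸ R)
    simp only [hlinR, one_pow, Finset.sum_const, Finset.card_univ, nsmul_one] at h
    exact_mod_cast h
  let lift : IrrCharacter (P ⧸ R) → IrrCharacter P := fun φ =>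
    ⟨(φ : P ⧸ R → ℂ) ∘ QuotientGroup.mk' R,
      IsCharacter.isIrr_of_apply_one (IsCharacter.comp (irr_isCharacter φ) _) (by
        simp only [Function.comp_apply, map_one, hlinR])⟩
  have hlift : Function.Injective lift := fun a b h => by
    refine Subtype.ext (funext fun q => ?_)
    obtain ⟨q, rfl⟩ := QuotientGroup.mk'_surjective R q
    exact congrFun (congrArg Subtype.val h) q
  have hle2 : Nat.card (P ⧸ R) ≤ 2 := by
    by_contra hcon
    rw [not_le, ← hcardR] at hcon
    have h2 : 1 < (Finset.univ.erase (trivIrr (P ⧸ R))).card := by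
      rw [Finset.card_erase_of_mem (Finset.mem_univ _), Finset.card_univ]; omega
    obtain ⟨φ₁, hφ₁, φ₂, hφ₂, hne⟩ := Finset.one_lt_card.1 h2
    have key : ∀ φ : IrrCharacter (P ⧸ R), φ ≠ trivIrr _ →
        ∃ η, m η ≠ 0 ∧ n η = 1 ∧ (fun a : P => (η : T → ℂ) (ι a)) = (lift φ : P → ℂ) := by
      intro φ hφ
      refine hfixed (lift φ) (fun h => hφ (Subtype.ext (funext fun q => ?_))) fun a => ?_
      · obtain ⟨q, rfl⟩ := QuotientGroup.mk'_surjective R q
        exact congrFun h q
      · show (φ : P ⧸ R → ℂ) (QuotientGroup.mk' R (f a)) = 1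
        rw [show QuotientGroup.mk' R (f a) = 1 from (QuotientGroup.eq_one_iff _).2 ⟨a, rfl⟩, hlinR]
    obtain ⟨η₁, a₁, b₁, c₁⟩ := key φ₁ (Finset.ne_of_mem_erase hφ₁)
    obtain ⟨η₂, a₂, b₂, c₂⟩ := key φ₂ (Finset.ne_of_mem_erase hφ₂)
    obtain rfl := hlinuniq η₁ η₂ a₁ a₂ b₁ b₂
    exact hne (hlift (Subtype.ext (c₁.symm.trans c₂)))
  have hidxker : f.ker.index = Nat.card R := Subgroup.index_ker f
  have hcard1 : Nat.card f.ker * Nat.card R = Nat.card P := by
    rw [← hidxker, Subgroup.card_mul_index]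
  have hcard2 : Nat.card R * R.index = Nat.card P := Subgroup.card_mul_index R
  have hRle : Nat.card R ≤ Nat.card f.ker := Subgroup.card_le_of_le (by
    rintro _ ⟨a, rfl⟩; exact hfker a)
  rw [← Subgroup.index_eq_card] at hle2
  have hkereq : R.index = Nat.card f.ker := by
    have hR0 : 0 < Nat.card R := Nat.card_pos
    nlinarith
  have hPle : Nat.card P ≤ 4 := by nlinarith
  obtain ⟨k, hk⟩ := IsPGroup.iff_card.1 hPp
  rw [hk] at h3 hPle ⊢
  have : k = 2 := by
    have h4 : k ≤ 2 := (Nat.pow_le_pow_iff_right (a := 2) (by norm_num)).1 (by simpa using hPle)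
    interval_cases k <;> omega
  simp [this]

end Cfsg.Agent.Lib.CharMisc.RootValued
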