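import Mathlib.RepresentationTheory.Maschke
import Mathlib.RepresentationTheory.Subrepresentation
import Mathlib.LinearAlgebra.Dual.Lemmas
import Mathlib.LinearAlgebra.BilinearForm.Basic
import Mathlib.LinearAlgebra.Projection
import Mathlib.RingTheory.Artinian.Module
import Mathlib.Algebra.CharP.Two
import Mathlib.Tactic.LinearCombination
import Mathlib.Tactic.Abel

/-!
# Self-dual representations in coprime characteristic

A representation with an invariant non-degenerate bilinear form splits into a part with a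
non-degenerate alternating form and a part with a non-degenerate symmetric one.
-/

namespace Cfsg.Agent.Lib.CharMisc.SelfDual

open Module

variable {F : Type*} [Field F] {G : Type*} [Group G] {V : Type*} [AddCommGroup V] [Module F V]
  (ρ : Representation F G V)

/-- Invariance of a subspace. -/
def Inv (U : Submodule F V) : Prop := ∀ g : G, ∀ u ∈ U, ρ g u ∈ U

/-- Non-degeneracy on a subspace. -/
def ND (B : LinearMap.BilinForm F V) (U : Submodule F V) : Prop :=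
  ∀ x ∈ U, (∀ y ∈ U, B x y = 0) → x = 0

/-- Invariance of a form on a subspace. -/
def InvOn (B : LinearMap.BilinForm F V) (U : Submodule F V) : Prop :=
  ∀ g : G, ∀ x ∈ U, ∀ y ∈ U, B (ρ g x) (ρ g y) = B x y

theorem inv_sup {U W : Submodule F V} (hU : Inv ρ U) (hW : Inv ρ W) : Inv ρ (U ⊔ W) := by
  intro g x hx
  obtain ⟨a, ha, b, hb, rfl⟩ := Submodule.mem_sup.mp hx
  rw [map_add]
  exact Submodule.add_mem_sup (hU g a ha) (hW g b hb)

theorem exists_proj {U W : Submodule F V} (h : Disjoint U W) :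
    ∃ π : V →ₗ[F] V, (∀ x ∈ U, π x = x) ∧ (∀ x ∈ W, π x = 0) ∧ ∀ x, π x ∈ U := by
  obtain ⟨C, hC⟩ := exists_isCompl (U ⊔ W)
  have hcompl : IsCompl U (W ⊔ C) := by
    refine ⟨?_, ?_⟩
    · exact h.disjoint_sup_right_of_disjoint_sup_left hC.disjoint
    · rw [codisjoint_iff, ← sup_assoc]
      exact hC.sup_eq_top
  exact ⟨U.projection (W ⊔ C) hcompl, fun x hx => Submodule.projection_apply_of_mem_left hcompl hx,
    fun x hx => (Submodule.projection_apply_eq_zero_iff hcompl).mpr (Submodule.mem_sup_left hx),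
    fun x => Submodule.projection_apply_mem hcompl x⟩

/-- The orthogonal splitting along a non-degenerate subspace. -/
theorem exists_orth [FiniteDimensional F V] {B : LinearMap.BilinForm F V} {U Y : Submodule F V}
    (hUY : U ≤ Y) (hU : Inv ρ U) (hY : Inv ρ Y) (hB : InvOn ρ B Y) (hUnd : ND B U)
    (hYnd : ND B Y) :
    ∃ R : Submodule F V, R ≤ Y ∧ Inv ρ R ∧ Disjoint U R ∧ U ⊔ R = Y ∧ ND B R := by
  let f : V →ₗ[F] Dual F U := (U.subtype.dualMap).comp B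
  let R : Submodule F V := Y ⊓ LinearMap.ker f
  have hmem : ∀ v, v ∈ R ↔ v ∈ Y ∧ ∀ u ∈ U, B v u = 0 := by
    intro v
    simp [R, f, LinearMap.ext_iff]
  have hinj : Function.Injective (f.comp U.subtype) := by
    rw [← LinearMap.ker_eq_bot, LinearMap.ker_eq_bot']
    intro u hu
    refine Subtype.ext (hUnd u u.2 fun y hy => ?_)
    exact LinearMap.congr_fun hu (⟨y, hy⟩ : U)
  have hsurj : Function.Surjective (f.comp U.subtype) :=
    (LinearMap.injective_iff_surjective_of_finrank_eq_finrank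
      (Subspace.dual_finrank_eq (K := F) (V := U)).symm).mp hinj
  have hsup : U ⊔ R = Y := by
    refine le_antisymm (sup_le hUY inf_le_left) fun y hy => ?_
    obtain ⟨u, hu⟩ := hsurj (f y)
    refine Submodule.mem_sup.mpr ⟨u, u.2, y - u, ⟨Y.sub_mem hy (hUY u.2), ?_⟩, add_sub_cancel _ _⟩
    simp only [LinearMap.coe_comp, Function.comp_apply, Submodule.coe_subtype] at hu
    simp [hu]
  refine ⟨R, inf_le_left, ?_, disjoint_iff.mpr ((Submodule.eq_bot_iff _).mpr ?_), hsup, ?_⟩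
  · intro g v hv
    obtain ⟨hvY, hv0⟩ := (hmem v).mp hv
    refine (hmem _).mpr ⟨hY g v hvY, fun u hu => ?_⟩
    have h := hB g v hvY (ρ g⁻¹ u) (hY _ _ (hUY hu))
    rw [Representation.self_inv_apply] at h
    rw [h]
    exact hv0 _ (hU _ _ hu)
  · rintro v ⟨hvU, hvR⟩
    exact hUnd v hvU ((hmem v).mp hvR).2
  · intro v hv h0
    refine hYnd v ((hmem v).mp hv).1 fun y hy => ?_
    rw [← hsup] at hy
    obtain ⟨u, hu, r, hr, rfl⟩ := Submodule.mem_sup.mp hy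
    rw [map_add, ((hmem v).mp hv).2 u hu, h0 r hr, add_zero]

/-- The conclusion for a subspace. -/
def Split (p : ℕ) (Y : Submodule F V) : Prop :=
  ∃ U W : Submodule F V, Disjoint U W ∧ U ⊔ W = Y ∧ Inv ρ U ∧ Inv ρ W ∧
    (∃ A : LinearMap.BilinForm F V, (∀ x, A x x = 0) ∧ InvOn ρ A U ∧ ND A U) ∧
    (∃ S : LinearMap.BilinForm F V, (∀ x y, S x y = S y x) ∧ InvOn ρ S W ∧ ND S W) ∧
    (p = 2 → ∀ g : G, ∀ w ∈ W, ρ g w = w)

theorem split_bot (p : ℕ) : Split ρ p (⊥ : Submodule F V) := by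
  refine ⟨⊥, ⊥, disjoint_bot_left, sup_bot_eq _, ?_, ?_, ⟨0, ?_, ?_, ?_⟩, ⟨0, ?_, ?_, ?_⟩, ?_⟩ <;>
    simp +contextual [Inv, InvOn, ND, Submodule.mem_bot]

/-- Invariant forms add along a direct sum. -/
theorem exists_sum_form {U₁ U₂ : Submodule F V} (hd : Disjoint U₁ U₂) (h₁ : Inv ρ U₁)
    (h₂ : Inv ρ U₂) (A₁ A₂ : LinearMap.BilinForm F V) :
    ∃ A : LinearMap.BilinForm F V,
      ((∀ x, A₁ x x = 0) → (∀ x, A₂ x x = 0) → ∀ x, A x x = 0) ∧
      ((∀ x y, A₁ x y = A₁ y x) → (∀ x y, A₂ x y = A₂ y x) → ∀ x y, A x y = A y x) ∧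
      (InvOn ρ A₁ U₁ → InvOn ρ A₂ U₂ → InvOn ρ A (U₁ ⊔ U₂)) ∧
      (ND A₁ U₁ → ND A₂ U₂ → ND A (U₁ ⊔ U₂)) := by
  obtain ⟨π₁, hπ₁, hπ₁0, -⟩ := exists_proj hd
  obtain ⟨π₂, hπ₂, hπ₂0, -⟩ := exists_proj hd.symm
  refine ⟨A₁.compl₁₂ π₁ π₁ + A₂.compl₁₂ π₂ π₂, fun a b x => by simp [a, b],
    fun a b x y => by simp [a (π₁ x), b (π₂ x)], ?_, ?_⟩
  · intro a b g x hx y hy
    obtain ⟨x₁, hx₁, x₂, hx₂, rfl⟩ := Submodule.mem_sup.mp hx
    obtain ⟨y₁, hy₁, y₂, hy₂, rfl⟩ := Submodule.mem_sup.mp hy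
    simp [hπ₁ _ (h₁ g _ hx₁), hπ₁ _ (h₁ g _ hy₁), hπ₁ _ hx₁, hπ₁ _ hy₁, hπ₁0 _ (h₂ g _ hx₂),
      hπ₁0 _ (h₂ g _ hy₂), hπ₁0 _ hx₂, hπ₁0 _ hy₂, hπ₂ _ (h₂ g _ hx₂), hπ₂ _ (h₂ g _ hy₂),
      hπ₂ _ hx₂, hπ₂ _ hy₂, hπ₂0 _ (h₁ g _ hx₁), hπ₂0 _ (h₁ g _ hy₁), hπ₂0 _ hx₁, hπ₂0 _ hy₁,
      a g _ hx₁ _ hy₁, b g _ hx₂ _ hy₂]
  · intro a b x hx h0
    obtain ⟨x₁, hx₁, x₂, hx₂, rfl⟩ := Submodule.mem_sup.mp hx
    have e₁ : x₁ = 0 := a x₁ hx₁ fun y hy => by
      have := h0 y (Submodule.mem_sup_left hy)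
      simpa [hπ₁ _ hx₁, hπ₁0 _ hx₂, hπ₁ _ hy, hπ₂0 _ hy] using this
    have e₂ : x₂ = 0 := b x₂ hx₂ fun y hy => by
      have := h0 y (Submodule.mem_sup_right hy)
      simpa [hπ₂ _ hx₂, hπ₂0 _ hx₁, hπ₂ _ hy, hπ₁0 _ hy] using this
    rw [e₁, e₂, add_zero]

theorem split_sup {p : ℕ} {Y₁ Y₂ : Submodule F V} (hd : Disjoint Y₁ Y₂) (h₁ : Split ρ p Y₁)
    (h₂ : Split ρ p Y₂) : Split ρ p (Y₁ ⊔ Y₂) := by
  obtain ⟨U₁, W₁, d₁, rfl, iU₁, iW₁, ⟨A₁, a₁, ai₁, an₁⟩, ⟨S₁, s₁, si₁, sn₁⟩, t₁⟩ := h₁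
  obtain ⟨U₂, W₂, d₂, rfl, iU₂, iW₂, ⟨A₂, a₂, ai₂, an₂⟩, ⟨S₂, s₂, si₂, sn₂⟩, t₂⟩ := h₂
  obtain ⟨A, hA, -, hAi, hAn⟩ :=
    exists_sum_form ρ (hd.mono le_sup_left le_sup_left) iU₁ iU₂ A₁ A₂
  obtain ⟨S, -, hS, hSi, hSn⟩ :=
    exists_sum_form ρ (hd.mono le_sup_right le_sup_right) iW₁ iW₂ S₁ S₂
  refine ⟨U₁ ⊔ U₂, W₁ ⊔ W₂, ?_, sup_sup_sup_comm _ _ _ _, inv_sup ρ iU₁ iU₂, inv_sup ρ iW₁ iW₂,
    ⟨A, hA a₁ a₂, hAi ai₁ ai₂, hAn an₁ an₂⟩, ⟨S, hS s₁ s₂, hSi si₁ si₂, hSn sn₁ sn₂⟩, ?_⟩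
  · rw [Submodule.disjoint_def]
    intro x hx hx'
    obtain ⟨a, ha, b, hb, rfl⟩ := Submodule.mem_sup.mp hx
    obtain ⟨c, hc, d, hd', he⟩ := Submodule.mem_sup.mp hx'
    have hy : a - c = d - b := by
      rw [sub_eq_sub_iff_add_eq_add, ← he, add_comm c d]
    have h0 : a - c = 0 := Submodule.disjoint_def.mp hd _
      (sub_mem (Submodule.mem_sup_left ha) (Submodule.mem_sup_right hc))
      (hy ▸ sub_mem (Submodule.mem_sup_right hd') (Submodule.mem_sup_left hb))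
    have ha0 : a = 0 := Submodule.disjoint_def.mp d₁ _ ha (sub_eq_zero.mp h0 ▸ hc)
    have hb0 : b = 0 := Submodule.disjoint_def.mp d₂ _ hb
      ((sub_eq_zero.mp (hy.symm.trans h0)) ▸ hd')
    rw [ha0, hb0, add_zero]
  · intro hp g w hw
    obtain ⟨a, ha, b, hb, rfl⟩ := Submodule.mem_sup.mp hw
    rw [map_add, t₁ hp g a ha, t₂ hp g b hb]

theorem split_alt {p : ℕ} {U : Submodule F V} (hU : Inv ρ U) (A : LinearMap.BilinForm F V)
    (ha : ∀ x ∈ U, A x x = 0) (hi : InvOn ρ A U) (hn : ND A U) : Split ρ p U := by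
  obtain ⟨π, hπ, -, hπm⟩ := exists_proj (disjoint_bot_right : Disjoint U ⊥)
  refine ⟨U, ⊥, disjoint_bot_right, sup_bot_eq _, hU, ?_,
    ⟨A.compl₁₂ π π, fun x => by simp [ha _ (hπm x)], ?_, ?_⟩, ⟨0, ?_, ?_, ?_⟩, ?_⟩
  · simp [Inv]
  · intro g x hx y hy
    simp [hπ _ hx, hπ _ hy, hπ _ (hU g x hx), hπ _ (hU g y hy), hi g x hx y hy]
  · intro x hx h0
    exact hn x hx fun y hy => by simpa [hπ _ hx, hπ _ hy] using h0 y hy
  all_goals simp +contextual [InvOn, ND, Submodule.mem_bot]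

theorem split_symm {p : ℕ} {U : Submodule F V} (hU : Inv ρ U) (S : LinearMap.BilinForm F V)
    (hs : ∀ x ∈ U, ∀ y ∈ U, S x y = S y x) (hi : InvOn ρ S U) (hn : ND S U)
    (ht : p = 2 → ∀ g : G, ∀ w ∈ U, ρ g w = w) : Split ρ p U := by
  obtain ⟨π, hπ, -, hπm⟩ := exists_proj (disjoint_bot_right : Disjoint U ⊥)
  refine ⟨⊥, U, disjoint_bot_left, bot_sup_eq _, ?_, hU, ⟨0, ?_, ?_, ?_⟩,
    ⟨S.compl₁₂ π π, fun x y => by simp [hs _ (hπm x) _ (hπm y)], ?_, ?_⟩, ht⟩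
  · simp [Inv]
  · simp
  · simp [InvOn]
  · simp +contextual [ND, Submodule.mem_bot]
  · intro g x hx y hy
    simp [hπ _ hx, hπ _ hy, hπ _ (hU g x hx), hπ _ (hU g y hy), hi g x hx y hy]
  · intro x hx h0
    exact hn x hx fun y hy => by simpa [hπ _ hx, hπ _ hy] using h0 y hy

/-- Minimal non-zero invariant subspaces. -/
def Min (U : Submodule F V) : Prop :=
  Inv ρ U ∧ U ≠ ⊥ ∧ ∀ W : Submodule F V, Inv ρ W → W ≤ U → W = ⊥ ∨ W = U

theorem exists_min [FiniteDimensional F V] (Y : Submodule F V) (hY : Inv ρ Y) (h0 : Y ≠ ⊥) :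
    ∃ U, U ≤ Y ∧ Min ρ U := by
  obtain ⟨U, ⟨hUY, hUi, hU0⟩, hmin⟩ := wellFounded_lt.has_min
    {U : Submodule F V | U ≤ Y ∧ Inv ρ U ∧ U ≠ ⊥} ⟨Y, le_rfl, hY, h0⟩
  refine ⟨U, hUY, hUi, hU0, fun W hW hWU => ?_⟩
  by_contra h
  push Not at h
  exact hmin W ⟨hWU.trans hUY, hW, h.1⟩ (lt_of_le_of_ne hWU h.2)

/-- On a minimal invariant subspace an invariant form is zero or non-degenerate. -/
theorem nd_of_min {U : Submodule F V} (hU : Min ρ U) {B : LinearMap.BilinForm F V}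
    (hB : InvOn ρ B U) {a b : V} (ha : a ∈ U) (hb : b ∈ U) (hab : B a b ≠ 0) : ND B U := by
  let K : Submodule F V :=
    { carrier := {x | x ∈ U ∧ ∀ y ∈ U, B x y = 0}
      zero_mem' := ⟨U.zero_mem, fun y _ => by simp⟩
      add_mem' := fun {x z} hx hz => ⟨U.add_mem hx.1 hz.1, fun y hy => by
        simp [hx.2 y hy, hz.2 y hy]⟩
      smul_mem' := fun c {x} hx => ⟨U.smul_mem c hx.1, fun y hy => by simp [hx.2 y hy]⟩ }
  have hK : Inv ρ K := fun g x hx => ⟨hU.1 g x hx.1, fun y hy => by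
    have h := hB g x hx.1 (ρ g⁻¹ y) (hU.1 _ _ hy)
    rw [Representation.self_inv_apply] at h
    rw [h]
    exact hx.2 _ (hU.1 _ _ hy)⟩
  rcases hU.2.2 K hK (fun x hx => hx.1) with h | h
  · intro x hx h0
    have : x ∈ K := ⟨hx, h0⟩
    rwa [h, Submodule.mem_bot] at this
  · have : a ∈ K := h.symm ▸ ha
    exact absurd (this.2 b hb) hab

/-- The kernels of an invariant pairing of minimal invariant subspaces. -/
theorem pairing_nd {U Z Y : Submodule F V} (hU : Min ρ U) (hZY : Z ≤ Y) (hUY : U ≤ Y)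
    (hZ : Inv ρ Z) {B : LinearMap.BilinForm F V} (hB : InvOn ρ B Y) {z u : V} (hz : z ∈ Z)
    (hu : u ∈ U) :
    (B u z ≠ 0 → ∀ x ∈ U, (∀ y ∈ Z, B x y = 0) → x = 0) ∧
      (B z u ≠ 0 → ∀ x ∈ U, (∀ y ∈ Z, B y x = 0) → x = 0) := by
  constructor
  · intro hne
    let K : Submodule F V :=
      { carrier := {x | x ∈ U ∧ ∀ y ∈ Z, B x y = 0}
        zero_mem' := ⟨U.zero_mem, fun y _ => by simp⟩
        add_mem' := fun {x w} hx hw => ⟨U.add_mem hx.1 hw.1, fun y hy => by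
          simp [hx.2 y hy, hw.2 y hy]⟩
        smul_mem' := fun c {x} hx => ⟨U.smul_mem c hx.1, fun y hy => by simp [hx.2 y hy]⟩ }
    have hK : Inv ρ K := fun g x hx => ⟨hU.1 g x hx.1, fun y hy => by
      have h := hB g x (hUY hx.1) (ρ g⁻¹ y) (hZY (hZ _ _ hy))
      rw [Representation.self_inv_apply] at h
      rw [h]
      exact hx.2 _ (hZ _ _ hy)⟩
    rcases hU.2.2 K hK (fun x hx => hx.1) with h | h
    · intro x hx h0
      have : x ∈ K := ⟨hx, h0⟩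
      rwa [h, Submodule.mem_bot] at this
    · have : u ∈ K := h.symm ▸ hu
      exact absurd (this.2 z hz) hne
  · intro hne
    let K : Submodule F V :=
      { carrier := {x | x ∈ U ∧ ∀ y ∈ Z, B y x = 0}
        zero_mem' := ⟨U.zero_mem, fun y _ => by simp⟩
        add_mem' := fun {x w} hx hw => ⟨U.add_mem hx.1 hw.1, fun y hy => by
          simp [hx.2 y hy, hw.2 y hy]⟩
        smul_mem' := fun c {x} hx => ⟨U.smul_mem c hx.1, fun y hy => by simp [hx.2 y hy]⟩ }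
    have hK : Inv ρ K := fun g x hx => ⟨hU.1 g x hx.1, fun y hy => by
      have h := hB g (ρ g⁻¹ y) (hZY (hZ _ _ hy)) x (hUY hx.1)
      rw [Representation.self_inv_apply] at h
      rw [h]
      exact hx.2 _ (hZ _ _ hy)⟩
    rcases hU.2.2 K hK (fun x hx => hx.1) with h | h
    · intro x hx h0
      have : x ∈ K := ⟨hx, h0⟩
      rwa [h, Submodule.mem_bot] at this
    · have : u ∈ K := h.symm ▸ hu
      exact absurd (this.2 z hz) hne

/-- A minimal invariant subspace on which the form does not vanish. -/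
theorem split_min (p : ℕ) [Fact p.Prime] [CharP F p] {U : Submodule F V} (hU : Min ρ U)
    {B : LinearMap.BilinForm F V} (hB : InvOn ρ B U) (hnd : ND B U) : Split ρ p U := by
  by_cases halt : ∀ x ∈ U, B x x = 0
  · exact split_alt ρ hU.1 B halt hB hnd
  by_cases hD : ∀ x ∈ U, ∀ y ∈ U, B x y + B y x = 0
  · push Not at halt
    obtain ⟨a, ha, hab⟩ := halt
    have hp2 : p = 2 := by
      by_contra hp
      have h2 : (2 : F) ≠ 0 := by
        intro h
        have : (p : ℕ) ∣ 2 := (CharP.cast_eq_zero_iff F p 2).mp (by exact_mod_cast h)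
        exact hp ((Nat.prime_dvd_prime_iff_eq Fact.out Nat.prime_two).mp this)
      exact hab ((mul_eq_zero.mp ((two_mul (B a a)).trans (hD a ha a ha))).resolve_left h2)
    subst hp2
    have hsym : ∀ x ∈ U, ∀ y ∈ U, B x y = B y x := fun x hx y hy =>
      CharTwo.add_eq_zero.mp (hD x hx y hy)
    let K : Submodule F V :=
      { carrier := {x | x ∈ U ∧ B x x = 0}
        zero_mem' := ⟨U.zero_mem, by simp⟩
        add_mem' := fun {x y} hx hy => ⟨U.add_mem hx.1 hy.1, by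
          simp [hx.2, hy.2, hsym x hx.1 y hy.1, CharTwo.add_self_eq_zero]⟩
        smul_mem' := fun c {x} hx => ⟨U.smul_mem c hx.1, by simp [hx.2]⟩ }
    have hK : Inv ρ K := fun g x hx => ⟨hU.1 g x hx.1, (hB g x hx.1 x hx.1).trans hx.2⟩
    rcases hU.2.2 K hK (fun x hx => hx.1) with h | h
    · refine split_symm ρ hU.1 B hsym hB hnd fun _ g w hw => ?_
      have : ρ g w - w ∈ K := by
        refine ⟨U.sub_mem (hU.1 g w hw) hw, ?_⟩
        simp only [map_sub, LinearMap.sub_apply, hB g w hw w hw, hsym w hw _ (hU.1 g w hw),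
          CharTwo.sub_eq_add]
        linear_combination (B w w + B (ρ g w) w) * CharTwo.two_eq_zero (R := F)
      rwa [h, Submodule.mem_bot, sub_eq_zero] at this
    · have : a ∈ K := h.symm ▸ ha
      exact absurd this.2 hab
  · push Not at hD
    obtain ⟨a, ha, b, hb, hab⟩ := hD
    have hDi : InvOn ρ (B + B.flip) U := fun g x hx y hy => by simp [hB g x hx y hy, hB g y hy x hx]
    have hDn : ND (B + B.flip) U := nd_of_min ρ hU hDi ha hb (by simpa using hab)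
    by_cases hp : p = 2
    · subst hp
      exact split_alt ρ hU.1 _ (fun x _ => by simp [CharTwo.add_self_eq_zero]) hDi hDn
    · exact split_symm ρ hU.1 _ (fun x _ y _ => by simp [add_comm]) hDi hDn (fun h => absurd h hp)

/-- Every invariant subspace with a non-degenerate invariant form splits. -/
theorem split_of_nd [Finite G] [FiniteDimensional F V] [NeZero (Nat.card G : F)] (p : ℕ)
    [Fact p.Prime] [CharP F p] {B : LinearMap.BilinForm F V}
    (hB : ∀ g : G, ∀ x y : V, B (ρ g x) (ρ g y) = B x y) :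
    ∀ Y : Submodule F V, Inv ρ Y → ND B Y → Split ρ p Y := by
  intro Y
  induction hn : finrank F Y using Nat.strong_induction_on generalizing Y with
  | _ n ih =>
    intro hY hYnd
    subst hn
    by_cases h0 : Y = ⊥
    · subst h0; exact split_bot ρ p
    have hBi : ∀ W, InvOn ρ B W := fun W g x _ y _ => hB g x y
    -- peel off a non-degenerate part
    suffices h : ∃ Z : Submodule F V, Z ≤ Y ∧ Z ≠ ⊥ ∧ Inv ρ Z ∧ ND B Z ∧ Split ρ p Z by
      obtain ⟨Z, hZY, hZ0, hZi, hZn, hZs⟩ := h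
      obtain ⟨R, hRY, hRi, hd, hsup, hRn⟩ := exists_orth ρ hZY hZi hY (hBi Y) hZn hYnd
      have hlt : R < Y := lt_of_le_of_ne hRY fun h => hZ0 (by
        have := hd.eq_bot
        rwa [h, inf_eq_left.mpr hZY] at this)
      rw [← hsup]
      exact split_sup ρ hd hZs (ih _ (Submodule.finrank_lt_finrank_of_lt hlt) R rfl hRi hRn)
    obtain ⟨U, hUY, hU⟩ := exists_min ρ Y hY h0
    by_cases hiso : ∃ Z, Z ≤ Y ∧ Min ρ Z ∧ ∃ a ∈ Z, ∃ b ∈ Z, B a b ≠ 0
    · obtain ⟨Z, hZY, hZ, a, ha, b, hb, hab⟩ := hiso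
      have hnd := nd_of_min ρ hZ (hBi Z) ha hb hab
      exact ⟨Z, hZY, hZ.2.1, hZ.1, hnd, split_min ρ p hZ (hBi Z) hnd⟩
    push Not at hiso
    have hUU : ∀ x ∈ U, ∀ y ∈ U, B x y = 0 := hiso U hUY hU
    -- a minimal subspace paired with `U` on both sides
    obtain ⟨u₀, hu₀, hu₀0⟩ := Submodule.exists_mem_ne_zero_of_ne_bot hU.2.1
    let f : V →ₗ[F] Dual F U := (U.subtype.dualMap).comp B.flip
    let f' : V →ₗ[F] Dual F U := (U.subtype.dualMap).comp B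
    have hUleft : ∀ x ∈ U, (∀ y ∈ Y, B x y = 0) → x = 0 := fun x hx h => hYnd x (hUY hx) h
    have hYright : ∀ x ∈ Y, (∀ y ∈ Y, B y x = 0) → x = 0 := by
      intro x hx h
      have hinj : Function.Injective ((Y.subtype.dualMap).comp (B.comp Y.subtype)) := by
        rw [← LinearMap.ker_eq_bot, LinearMap.ker_eq_bot']
        intro y hy
        exact Subtype.ext (hYnd y y.2 fun z hz => LinearMap.congr_fun hy (⟨z, hz⟩ : Y))
      have hsurj := (LinearMap.injective_iff_surjective_of_finrank_eq_finrank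
        (Subspace.dual_finrank_eq (K := F) (V := Y)).symm).mp hinj
      refine congrArg Subtype.val ((Module.forall_dual_apply_eq_zero_iff F (⟨x, hx⟩ : Y)).mp
        fun φ => ?_)
      obtain ⟨y, rfl⟩ := hsurj φ
      exact h y y.2
    have hcompl : ∀ K : Submodule F V, Inv ρ K → K ≤ Y →
        ∃ X : Submodule F V, Inv ρ X ∧ X ≤ Y ∧ Disjoint K X ∧ K ⊔ X = Y := by
      intro K hK hKY
      let S : Subrepresentation ρ := ⟨K, hK⟩
      obtain ⟨T, hT⟩ := exists_isCompl S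
      have hd : K ⊓ T.toSubmodule = ⊥ := congrArg Subrepresentation.toSubmodule hT.inf_eq_bot
      have hs : K ⊔ T.toSubmodule = ⊤ := congrArg Subrepresentation.toSubmodule hT.sup_eq_top
      refine ⟨T.toSubmodule ⊓ Y, fun g x hx => ⟨T.apply_mem_toSubmodule g hx.1, hY g x hx.2⟩,
        inf_le_right, disjoint_iff.mpr (eq_bot_mono (inf_le_inf_left _ inf_le_left) hd), ?_⟩
      rw [← sup_inf_assoc_of_le _ hKY, hs, top_inf_eq]
    -- pairing with right arguments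
    have hKinv : ∀ φ : V →ₗ[F] Dual F U, (∀ g v u, v ∈ Y → φ (ρ g v) u =
        φ v ⟨ρ g⁻¹ u.1, hU.1 _ _ u.2⟩) → Inv ρ (Y ⊓ LinearMap.ker φ) := by
      intro φ hφ g v hv
      refine ⟨hY g v hv.1, LinearMap.mem_ker.mpr (LinearMap.ext fun u => ?_)⟩
      rw [hφ g v u hv.1, LinearMap.mem_ker.mp hv.2]
      rfl
    have hf : ∀ g v u, v ∈ Y → f (ρ g v) u = f v ⟨ρ g⁻¹ u.1, hU.1 _ _ u.2⟩ := by
      intro g v u _
      show B u.1 (ρ g v) = B (ρ g⁻¹ u.1) v
      rw [← hB g (ρ g⁻¹ u.1) v, Representation.self_inv_apply]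
    have hf' : ∀ g v u, v ∈ Y → f' (ρ g v) u = f' v ⟨ρ g⁻¹ u.1, hU.1 _ _ u.2⟩ := by
      intro g v u _
      show B (ρ g v) u.1 = B v (ρ g⁻¹ u.1)
      rw [← hB g v (ρ g⁻¹ u.1), Representation.self_inv_apply]
    obtain ⟨X, hXi, hXY, hXd, hXs⟩ := hcompl _ (hKinv f hf) inf_le_left
    obtain ⟨X', hX'i, hX'Y, hX'd, hX's⟩ := hcompl _ (hKinv f' hf') inf_le_left
    -- both complements map bijectively to the dual of `U`
    have hsurjY : ∀ φ : V →ₗ[F] Dual F U,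
        (∀ u : U, (∀ y ∈ Y, φ y u = 0) → u = 0) → ∀ χ : Dual F U, ∃ y ∈ Y, φ y = χ := by
      intro φ hφ
      have htop : (Y.map φ).dualCoannihilator = ⊥ := by
        rw [Submodule.eq_bot_iff]
        intro u hu
        rw [Submodule.mem_dualCoannihilator] at hu
        exact hφ u fun y hy => hu _ (Submodule.mem_map_of_mem hy)
      have h := Subspace.dualCoannihilator_dualAnnihilator_eq (W := Y.map φ)
      rw [htop, Submodule.dualAnnihilator_bot] at h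
      exact fun χ => Submodule.mem_map.mp (h ▸ Submodule.mem_top)
    have hb : ∀ χ : Dual F U, ∃ x ∈ X, f x = χ := by
      intro χ
      obtain ⟨y, hy, rfl⟩ := hsurjY f (fun u h => Subtype.ext (hUleft u.1 u.2 h)) χ
      rw [← hXs] at hy
      obtain ⟨k, hk, x, hx, rfl⟩ := Submodule.mem_sup.mp hy
      exact ⟨x, hx, by rw [map_add, LinearMap.mem_ker.mp hk.2, zero_add]⟩
    have hb' : ∀ χ : Dual F U, ∃ x ∈ X', f' x = χ := by
      intro χ
      obtain ⟨y, hy, rfl⟩ := hsurjY f' (fun u h => Subtype.ext (hYright u.1 (hUY u.2) h)) χ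
      rw [← hX's] at hy
      obtain ⟨k, hk, x, hx, rfl⟩ := Submodule.mem_sup.mp hy
      exact ⟨x, hx, by rw [map_add, LinearMap.mem_ker.mp hk.2, zero_add]⟩
    have hinjX : ∀ x ∈ X, f x = 0 → x = 0 := fun x hx h =>
      Submodule.disjoint_def.mp hXd x ⟨hXY hx, h⟩ hx
    have hinjX' : ∀ x ∈ X', f' x = 0 → x = 0 := fun x hx h =>
      Submodule.disjoint_def.mp hX'd x ⟨hX'Y hx, h⟩ hx
    have hmin : ∀ (Z : Submodule F V) (φ : V →ₗ[F] Dual F U), Inv ρ Z → Z ≤ Y →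
        (∀ x ∈ Z, φ x = 0 → x = 0) → (∀ χ, ∃ x ∈ Z, φ x = χ) →
        (∀ g v u, v ∈ Y → φ (ρ g v) u = φ v ⟨ρ g⁻¹ u.1, hU.1 _ _ u.2⟩) → Min ρ Z := by
      intro Z φ hZ hZY hinj hsur hφ
      refine ⟨hZ, ?_, fun W hW hWZ => ?_⟩
      · intro hbot
        obtain ⟨χ, hχ⟩ : ∃ χ : Dual F U, χ ≠ 0 := by
          by_contra h
          push Not at h
          exact hu₀0 (congrArg Subtype.val ((Module.forall_dual_apply_eq_zero_iff F
            (⟨u₀, hu₀⟩ : U)).mp fun χ => by rw [h χ]; rfl))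
        obtain ⟨x, hx, rfl⟩ := hsur χ
        rw [hbot, Submodule.mem_bot] at hx
        exact hχ (by rw [hx, map_zero])
      · let A : Submodule F V := ((W.map φ).dualCoannihilator).map U.subtype
        have hA : Inv ρ A := by
          rintro g _ ⟨u, hu, rfl⟩
          refine ⟨⟨ρ g u.1, hU.1 g _ u.2⟩, ?_, rfl⟩
          rw [SetLike.mem_coe, Submodule.mem_dualCoannihilator] at hu ⊢
          rintro _ ⟨w, hw, rfl⟩
          have hwY : ρ g⁻¹ w ∈ Y := hY _ _ (hZY (hWZ hw))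
          have h1 := hu _ (Submodule.mem_map_of_mem (hW g⁻¹ w hw))
          rw [hφ g⁻¹ w u (hZY (hWZ hw))] at h1
          simpa [inv_inv] using h1
        rcases hU.2.2 A hA (Submodule.map_subtype_le _ _) with h | h
        · right
          refine le_antisymm hWZ fun z hz => ?_
          have h2 : (W.map φ).dualCoannihilator = ⊥ :=
            Submodule.map_injective_of_injective U.injective_subtype (h.trans (Submodule.map_bot _).symm)
          have h3 := Subspace.dualCoannihilator_dualAnnihilator_eq (W := W.map φ)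
          rw [h2, Submodule.dualAnnihilator_bot] at h3
          obtain ⟨w, hw, hwz⟩ := Submodule.mem_map.mp (h3 ▸ (Submodule.mem_top : φ z ∈ ⊤))
          have : z - w = 0 := hinj _ (Z.sub_mem hz (hWZ hw)) (by rw [map_sub, hwz, sub_self])
          exact (sub_eq_zero.mp this) ▸ hw
        · left
          rw [Submodule.eq_bot_iff]
          intro w hw
          refine hinj w (hWZ hw) (LinearMap.ext fun u => ?_)
          have hu : u.1 ∈ A := h.symm ▸ u.2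
          obtain ⟨u', hu', he⟩ := hu
          rw [SetLike.mem_coe, Submodule.mem_dualCoannihilator] at hu'
          rw [← Subtype.ext he]
          exact hu' _ (Submodule.mem_map_of_mem hw)
    obtain ⟨Z, hZY, hZ, ⟨z₁, hz₁, u₁, hu₁, hne₁⟩, ⟨z₂, hz₂, u₂, hu₂, hne₂⟩⟩ :
        ∃ Z, Z ≤ Y ∧ Min ρ Z ∧ (∃ z ∈ Z, ∃ u ∈ U, B u z ≠ 0) ∧
          (∃ z ∈ Z, ∃ u ∈ U, B z u ≠ 0) := by
      have hXm := hmin X f hXi hXY hinjX hb hf
      have hX'm := hmin X' f' hX'i hX'Y hinjX' hb' hf'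
      have hne : ∀ Z : Submodule F V, Z ≠ ⊥ → ∀ φ : V →ₗ[F] Dual F U,
          (∀ x ∈ Z, φ x = 0 → x = 0) → ∃ z ∈ Z, ∃ u ∈ U, φ z ≠ 0 ∧ ∃ hu : u ∈ U, φ z ⟨u, hu⟩ ≠ 0 := by
        intro Z hZ0 φ hinj
        obtain ⟨z, hz, hz0⟩ := Submodule.exists_mem_ne_zero_of_ne_bot hZ0
        have h1 : φ z ≠ 0 := fun h => hz0 (hinj z hz h)
        obtain ⟨u, hu⟩ : ∃ u, φ z u ≠ 0 := by
          by_contra h
          push Not at h
          exact h1 (LinearMap.ext h)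
        exact ⟨z, hz, u.1, u.2, h1, u.2, hu⟩
      obtain ⟨z, hz, u, hu, -, _, hzu⟩ := hne X hXm.2.1 f hinjX
      obtain ⟨z', hz', u', hu', -, _, hzu'⟩ := hne X' hX'm.2.1 f' hinjX'
      by_cases h1 : ∃ a ∈ X, ∃ b ∈ U, B a b ≠ 0
      · exact ⟨X, hXY, hXm, ⟨z, hz, u, hu, hzu⟩, h1⟩
      by_cases h2 : ∃ a ∈ X', ∃ b ∈ U, B b a ≠ 0
      · exact ⟨X', hX'Y, hX'm, h2, z', hz', u', hu', hzu'⟩
      push Not at h1 h2
      let Z : Submodule F V :=
        { carrier := {w | ∃ x ∈ X, ∃ x' ∈ X', f x = f' x' ∧ w = x + x'}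
          zero_mem' := ⟨0, X.zero_mem, 0, X'.zero_mem, by simp, by simp⟩
          add_mem' := by
            rintro _ _ ⟨a, ha, a', ha', e, rfl⟩ ⟨b, hb, b', hb', e', rfl⟩
            exact ⟨a + b, X.add_mem ha hb, a' + b', X'.add_mem ha' hb', by rw [map_add, map_add, e, e'],
              by abel⟩
          smul_mem' := by
            rintro c _ ⟨a, ha, a', ha', e, rfl⟩
            exact ⟨c • a, X.smul_mem c ha, c • a', X'.smul_mem c ha', by rw [map_smul, map_smul, e],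
              by rw [smul_add]⟩ }
      have hfz : ∀ x' ∈ X', f x' = 0 := fun x' hx' => LinearMap.ext fun v => h2 x' hx' v.1 v.2
      have hfz' : ∀ x ∈ X, f' x = 0 := fun x hx => LinearMap.ext fun v => h1 x hx v.1 v.2
      have hZi : Inv ρ Z := by
        rintro g _ ⟨a, ha, a', ha', e, rfl⟩
        exact ⟨ρ g a, hXi g a ha, ρ g a', hX'i g a' ha', LinearMap.ext fun v => by
          rw [hf g a v (hXY ha), hf' g a' v (hX'Y ha'), e], map_add _ _ _⟩
      have hZY : Z ≤ Y := by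
        rintro _ ⟨a, ha, a', ha', -, rfl⟩
        exact Y.add_mem (hXY ha) (hX'Y ha')
      have hfZ : ∀ w ∈ Z, f w = 0 → w = 0 := by
        rintro _ ⟨a, ha, a', ha', e, rfl⟩ h
        rw [map_add, hfz a' ha', add_zero] at h
        rw [hinjX a ha h, hinjX' a' ha' (e ▸ h), add_zero]
      have hsurZ : ∀ χ, ∃ w ∈ Z, f w = χ ∧ f' w = χ := by
        intro χ
        obtain ⟨a, ha, rfl⟩ := hb χ
        obtain ⟨a', ha', e⟩ := hb' (f a)
        exact ⟨a + a', ⟨a, ha, a', ha', e.symm, rfl⟩, by rw [map_add, hfz a' ha', add_zero],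
          by rw [map_add, hfz' a ha, zero_add, e]⟩
      have hZm := hmin Z f hZi hZY hfZ (fun χ => ⟨(hsurZ χ).choose, (hsurZ χ).choose_spec.1,
        (hsurZ χ).choose_spec.2.1⟩) hf
      obtain ⟨w, hw, hwf, hwf'⟩ := hsurZ (f z)
      refine ⟨Z, hZY, hZm, ⟨w, hw, u, hu, ?_⟩, w, hw, u, hu, ?_⟩
      · intro h
        exact hzu ((LinearMap.congr_fun hwf ⟨u, hu⟩).symm.trans h)
      · intro h
        exact hzu ((LinearMap.congr_fun hwf' ⟨u, hu⟩).symm.trans h)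
    have hZZ : ∀ x ∈ Z, ∀ y ∈ Z, B x y = 0 := hiso Z hZY hZ
    have hd : Disjoint U Z := by
      rw [disjoint_iff]
      rcases hU.2.2 (U ⊓ Z) (fun g x hx => ⟨hU.1 g x hx.1, hZ.1 g x hx.2⟩) inf_le_left with h | h
      · exact h
      · rcases hZ.2.2 U hU.1 (inf_eq_left.mp h) with h' | h'
        · exact absurd h' hU.2.1
        · exact absurd (hUU u₁ hu₁ z₁ (h' ▸ hz₁)) hne₁
    have hUZl := (pairing_nd ρ hU hZY hUY hZ.1 (hBi Y) hz₁ hu₁).1 hne₁
    have hUZr := (pairing_nd ρ hU hZY hUY hZ.1 (hBi Y) hz₂ hu₂).2 hne₂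
    have hZUl := (pairing_nd ρ hZ hUY hZY hU.1 (hBi Y) hu₂ hz₂).1 hne₂
    have hZUr := (pairing_nd ρ hZ hUY hZY hU.1 (hBi Y) hu₁ hz₁).2 hne₁
    have hnd : ND B (U ⊔ Z) := by
      intro x hx h0
      obtain ⟨a, ha, b, hb, rfl⟩ := Submodule.mem_sup.mp hx
      have e1 : b = 0 := hZUl b hb fun y hy => by
        have := h0 y (Submodule.mem_sup_left hy)
        simpa [hUU a ha y hy] using this
      have e2 : a = 0 := hUZl a ha fun y hy => by
        have := h0 y (Submodule.mem_sup_right hy)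
        simpa [hZZ b hb y hy] using this
      rw [e1, e2, add_zero]
    obtain ⟨π₁, hπ₁, hπ₁0, -⟩ := exists_proj hd
    obtain ⟨π₂, hπ₂, hπ₂0, -⟩ := exists_proj hd.symm
    refine ⟨U ⊔ Z, sup_le hUY hZY, fun h => hU.2.1 (eq_bot_mono le_sup_left h),
      inv_sup ρ hU.1 hZ.1, hnd,
      split_alt ρ (inv_sup ρ hU.1 hZ.1) (B.compl₁₂ π₁ π₂ - (B.compl₁₂ π₁ π₂).flip)
        (fun x _ => by simp) ?_ ?_⟩
    · intro g x hx y hy
      obtain ⟨a, ha, b, hb, rfl⟩ := Submodule.mem_sup.mp hx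
      obtain ⟨c, hc, d, hd', rfl⟩ := Submodule.mem_sup.mp hy
      simp [hπ₁ _ ha, hπ₁ _ hc, hπ₁0 _ hb, hπ₁0 _ hd', hπ₂ _ hb, hπ₂ _ hd', hπ₂0 _ ha,
        hπ₂0 _ hc, hπ₁ _ (hU.1 g _ ha), hπ₁ _ (hU.1 g _ hc), hπ₁0 _ (hZ.1 g _ hb),
        hπ₁0 _ (hZ.1 g _ hd'), hπ₂ _ (hZ.1 g _ hb), hπ₂ _ (hZ.1 g _ hd'), hπ₂0 _ (hU.1 g _ ha),
        hπ₂0 _ (hU.1 g _ hc), hB]
    · intro x hx h0
      obtain ⟨a, ha, b, hb, rfl⟩ := Submodule.mem_sup.mp hx
      have e2 : a = 0 := hUZl a ha fun y hy => by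
        have := h0 y (Submodule.mem_sup_right hy)
        simpa [hπ₁ _ ha, hπ₁0 _ hb, hπ₁0 _ hy, hπ₂ _ hy, hπ₂ _ hb, hπ₂0 _ ha] using this
      have e1 : b = 0 := hZUr b hb fun y hy => by
        have := h0 y (Submodule.mem_sup_left hy)
        simpa [hπ₁ _ ha, hπ₁0 _ hb, hπ₁ _ hy, hπ₂0 _ hy, hπ₂ _ hb, hπ₂0 _ ha] using this
      rw [e1, e2, add_zero]

end Cfsg.Agent.Lib.CharMisc.SelfDual
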