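import Cfsg.Agent.Lib.Characters.FrobeniusSchur
import Cfsg.Agent.Lib.Characters.Ortho

/-!
# The number of square roots of an element
-/

namespace Cfsg.Agent.Lib.CharMisc

open Cfsg.Agent.Lib.Characters
open scoped ComplexConjugate

universe u

variable {G : Type u} [Group G] [Fintype G] [Fintype (IrrCharacter G)]

/-- The number of square roots is the indicator-weighted sum of the irreducible characters. -/
theorem card_sqrt_eq_sum_indicator (z : G) :
    (Nat.card {s : G // s * s = z} : ℂ) = ∑ χ : IrrCharacter G,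
      conj ((Nat.card G : ℂ)⁻¹ * ∑ s : G, (χ : G → ℂ) (s * s)) * (χ : G → ℂ) z := by
  classical
  let r : G → ℂ := fun y => ∑ s : G, if s * s = y then 1 else 0
  have hr : IsClassFunction G r := by
    intro g h
    refine (Fintype.sum_equiv (MulAut.conj h).toEquiv _ _ fun s => ?_).symm
    simp only [MulEquiv.toEquiv_eq_coe, MulEquiv.coe_toEquiv, MulAut.conj_apply]
    refine if_congr ?_ rfl rfl
    rw [show h * s * h⁻¹ * (h * s * h⁻¹) = h * (s * s) * h⁻¹ by group]
    exact ⟨fun e => by rw [e], fun e => mul_left_cancel (mul_right_cancel e)⟩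
  have hcoef : ∀ χ : IrrCharacter G, classInner r (χ : G → ℂ) =
      conj ((Nat.card G : ℂ)⁻¹ * ∑ s : G, (χ : G → ℂ) (s * s)) := by
    intro χ
    simp only [classInner, map_mul, map_inv₀, Complex.conj_natCast, map_sum]
    congr 1
    simp only [r, Finset.sum_mul, ite_mul, one_mul, zero_mul]
    rw [Finset.sum_comm]
    exact Finset.sum_congr rfl fun s _ => by rw [Finset.sum_ite_eq Finset.univ (s * s), if_pos (Finset.mem_univ _)]
  have hz : r z = (Nat.card {s : G // s * s = z} : ℂ) := by
    simp only [r]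
    rw [Finset.sum_boole, Nat.card_eq_fintype_card, Fintype.card_subtype]
  rw [← hz]
  conv_lhs => rw [eq_sum_classInner hr]
  rw [Finset.sum_apply]
  exact Finset.sum_congr rfl fun χ _ => by rw [Pi.smul_apply, hcoef, smul_eq_mul]

/-- At an element without square roots some non-principal real character is non-zero. -/
theorem exists_real_ne_zero_of_not_square {z : G} (hz : ¬ ∃ u : G, u * u = z) :
    ∃ χ : IrrCharacter G, (χ : G → ℂ) ≠ (fun _ => 1) ∧ (∀ g : G, ((χ : G → ℂ) g).im = 0) ∧
      (χ : G → ℂ) z ≠ 0 := by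
  classical
  by_contra hcon
  push Not at hcon
  haveI : IsEmpty {s : G // s * s = z} := ⟨fun s => hz ⟨s.1, s.2⟩⟩
  have h := card_sqrt_eq_sum_indicator z
  rw [Nat.card_of_isEmpty, Nat.cast_zero, Finset.sum_eq_single (trivIrr G)] at h
  · simp only [trivIrr_apply, mul_one, Finset.sum_const, Finset.card_univ, nsmul_eq_mul] at h
    rw [← Nat.card_eq_fintype_card, inv_mul_cancel₀ natCard_ne_zero_complex, map_one] at h
    exact zero_ne_one h
  · intro χ _ hne
    by_cases hreal : ∀ g : G, ((χ : G → ℂ) g).im = 0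
    · rw [hcon χ (fun e => hne (Subtype.ext e)) hreal, mul_zero]
    · push Not at hreal
      rw [(frobeniusSchur χ.2).1 hreal, map_zero, zero_mul]
  · exact fun h => absurd (Finset.mem_univ _) h

omit [Fintype (IrrCharacter G)] in
/-- If the 2-part of `x * y` has largest possible order in the centraliser of its odd part
then `x * y` is not a square. -/
theorem not_square_of_max {x y : G} (hxy : Commute x y) (hx : Odd (orderOf x)) {k : ℕ}
    (hy : orderOf y = 2 ^ k) (hk : k ≠ 0 ∨ ∃ z : G, Commute x z ∧ orderOf z = 2)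
    (hmax : ∀ z : G, Commute x z → (∃ j : ℕ, orderOf z = 2 ^ j) → orderOf z ≤ orderOf y) :
    ¬ ∃ u : G, u * u = x * y := by
  rintro ⟨u, hu⟩
  have hk1 : k ≠ 0 := by
    rcases hk with hk | ⟨z, hz, hz2⟩
    · exact hk
    · intro hk0
      have := hmax z hz ⟨1, by rw [hz2, pow_one]⟩
      rw [hy, hk0, hz2] at this
      omega
  -- `x` is a power of `u * u`
  have hco : (orderOf x).Coprime (orderOf y) := by
    rw [hy]
    exact (Nat.coprime_two_right.mpr hx).pow_right _
  have hord : orderOf (u * u) = orderOf x * 2 ^ k := by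
    rw [hu, hxy.orderOf_mul_eq_mul_orderOf_of_coprime hco, hy]
  have hxmem : x ∈ Subgroup.zpowers (u * u) := by
    obtain ⟨m, hm⟩ := exists_pow_eq_self_of_coprime (x := x) (n := 2 ^ k)
      (Nat.Coprime.pow_left k (Nat.coprime_two_left.mpr hx))
    refine ⟨((2 ^ k * m : ℕ) : ℤ), ?_⟩
    show (u * u) ^ ((2 ^ k * m : ℕ) : ℤ) = x
    rw [zpow_natCast, hu, pow_mul, hxy.mul_pow, ← hy, pow_orderOf_eq_one, mul_one, hy, hm]
  have hcu : Commute x u := by
    obtain ⟨j, hj⟩ := hxmem
    rw [← hj]
    exact ((Commute.refl u).mul_left (Commute.refl u)).zpow_left j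
  -- order of `u`
  have h2dvd : orderOf u = 2 * orderOf (u * u) := by
    have hev : 2 ∣ orderOf (u * u) := hord ▸ dvd_mul_of_dvd_right (dvd_pow_self 2 hk1) _
    rw [← pow_two] at hev ⊢
    rw [orderOf_pow] at hev ⊢
    have h := Nat.gcd_dvd_left (orderOf u) 2
    rcases (Nat.dvd_prime Nat.prime_two).mp (Nat.gcd_dvd_right (orderOf u) 2) with h1 | h2
    · rw [h1, Nat.div_one] at hev
      have := Nat.dvd_gcd hev (dvd_refl 2)
      omega
    · rw [h2] at h ⊢
      omega
  have hz : orderOf (u ^ orderOf x) = 2 ^ (k + 1) := by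
    have : orderOf u = orderOf x * 2 ^ (k + 1) := by rw [h2dvd, hord]; ring
    rw [orderOf_pow, this, Nat.gcd_mul_right_left,
      Nat.mul_div_cancel_left _ (orderOf_pos x)]
  have := hmax _ (hcu.pow_right _) ⟨k + 1, hz⟩
  rw [hy, hz] at this
  exact absurd this (not_le.mpr (Nat.pow_lt_pow_right (by norm_num) (Nat.lt_succ_self k)))

end Cfsg.Agent.Lib.CharMisc
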